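import Cfsg.Agent.Lib.Invol.DihedralFusion
import Cfsg.Agent.Lib.PLocal.SLTwoSection
import Cfsg.Agent.Lib.PLocal.QdFree
import Cfsg.Agent.Lib.PLocal.ZJTheorem
import Cfsg.Agent.Lib.Geom.SL2Anti

/-!
Groups with dihedral (or four) Sylow 2-subgroups do not involve `Qd(p)` for odd `p`, so the
ZJ theorem applies to their subgroups.
-/

set_option autoImplicit false

namespace CfsgLib.Recog.GenDihedral

open Subgroup CfsgLib.Invol
open scoped MatrixGroups

universe u

variable {G : Type u} [Group G] [Finite G] {p : ℕ} [hp : Fact p.Prime]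

/-- No section is `SL₂(p)`: reflections map to central elements and rotations commute. -/
theorem no_slTwo_section (h2 : p ≠ 2) (P : Sylow 2 G) (D : DihData (P : Subgroup G))
    (K : Subgroup G) (f : K →* SL(2, ZMod p)) : ¬ Function.Surjective f := by
  intro hf
  have : Fact (Nat.Prime 2) := ⟨Nat.prime_two⟩
  have h2F : (2 : ZMod p) ≠ 0 := by
    have : Fact (2 < p) := ⟨by have := hp.out.two_le; omega⟩
    intro h
    exact ZMod.neg_one_ne_one (by linear_combination -h : (-1 : ZMod p) = 1)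
  obtain ⟨S, hS, hnc⟩ := CfsgLib.PLocal.exists_two_group_noncomm (p := p) h2
  obtain ⟨Q, hQ⟩ := hS.exists_le_sylow
  obtain ⟨R, hR⟩ := Sylow.mapSurjective_surjective hf 2 Q
  obtain ⟨P', hP'⟩ := (R.2.map K.subtype).exists_le_sylow
  obtain ⟨g, hg⟩ := MulAction.exists_smul_eq G P P'
  refine hnc ⟨⟨fun x y => Subtype.ext ?_⟩⟩
  have key : ∀ z ∈ S, ∃ (u : K) (i : ℤ), f u = z ∧
      ((u : G) = g * (((D.r ^ i : (P : Subgroup G))) : G) * g⁻¹ ∨ u * u = 1) := by
    intro z hz
    have hzQ := hQ hz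
    rw [← hR, Sylow.coe_mapSurjective, Subgroup.mem_map] at hzQ
    obtain ⟨u, hu, huz⟩ := hzQ
    have hu' : (u : G) ∈ ((g • P : Sylow 2 G) : Subgroup G) :=
      hg ▸ hP' (Subgroup.mem_map_of_mem K.subtype hu)
    rw [Sylow.coe_subgroup_smul] at hu'
    obtain ⟨w, hw, ew⟩ := hu'
    change g * w * g⁻¹ = (u : G) at ew
    rcases D.cases ⟨w, hw⟩ with ⟨i, hi⟩ | ⟨i, hi⟩
    · exact ⟨u, i, huz, Or.inl (by rw [← ew, show w = _ from congrArg Subtype.val hi])⟩
    · refine ⟨u, i, huz, Or.inr (Subtype.ext ?_)⟩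
      have hsq : (⟨w, hw⟩ : (P : Subgroup G)) * ⟨w, hw⟩ = 1 :=
        invol_mul_self (hi ▸ D.orderOf_zy i)
      show (u : G) * u = 1
      rw [← ew, show g * w * g⁻¹ * (g * w * g⁻¹) = g * (w * w) * g⁻¹ by group,
        show w * w = 1 from congrArg Subtype.val hsq, mul_one, mul_inv_cancel]
  obtain ⟨u, i, hux, hu⟩ := key x x.2
  obtain ⟨v, j, hvy, hv⟩ := key y y.2
  show (x : SL(2, ZMod p)) * y = y * x
  rw [← hux, ← hvy]
  have central : ∀ w : K, w * w = 1 → ∀ z : SL(2, ZMod p), f w * z = z * f w := by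
    intro w hw z
    rcases CfsgLib.Geom.SL2Anti.eq_or_eq_neg_of_sq_one h2F (g := f w) (by rw [← map_mul, hw, map_one]) with
      e | e <;> rw [e]
    · simp
    · exact Subtype.ext (by simp)
  rcases hu with hu | hu
  · rcases hv with hv | hv
    · rw [← map_mul, ← map_mul]
      refine congrArg f (Subtype.ext ?_)
      show (u : G) * v = v * u
      rw [hu, hv]
      simp only [SubgroupClass.coe_zpow]
      calc g * (((D.r : (P : Subgroup G)) : G) ^ i) * g⁻¹ *
              (g * (((D.r : (P : Subgroup G)) : G) ^ j) * g⁻¹)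
          = g * (((D.r : (P : Subgroup G)) : G) ^ i * ((D.r : (P : Subgroup G)) : G) ^ j) * g⁻¹ := by
            group
        _ = g * (((D.r : (P : Subgroup G)) : G) ^ j * ((D.r : (P : Subgroup G)) : G) ^ i) * g⁻¹ := by
            rw [← zpow_add, ← zpow_add, add_comm]
        _ = _ := by group
    · exact (central v hv _).symm
  · exact central u hu _

/-- `Qd(p)` is not involved. -/
theorem not_involves_qd (h2 : p ≠ 2) (P : Sylow 2 G) (D : DihData (P : Subgroup G)) :
    ¬ Cfsg.Involves ↥(Cfsg.qd p) G :=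
  CfsgLib.PLocal.not_involves_qd_of_no_sl fun K f => no_slTwo_section h2 P D K f

/-- The ZJ theorem for subgroups: if `O_p(M)` contains its centralizer in `M` then the normalizer of
`Z(J(T))`, for `T` a Sylow `p`-subgroup of `M`, contains `M`. -/
theorem centerThompson_normal (h2 : p ≠ 2) (P : Sylow 2 G) (D : DihData (P : Subgroup G))
    (M : Subgroup G)
    (hc : centralizer (Cfsg.pCore p M : Set M) ≤ Cfsg.pCore p M) (T : Sylow p M) :
    (Cfsg.centerThompsonAOf (T : Subgroup M)).Normal := by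
  refine CfsgLib.PLocal.centerThompsonAOf_normal h2 hc (fun B _ hB =>
    CfsgLib.PLocal.isPStableOn_of_not_involves_qd h2 (fun h => ?_) B hB) T
  obtain ⟨K, f, hf⟩ := CfsgLib.PLocal.exists_sec_of_involves h
  exact not_involves_qd h2 P D
    (CfsgLib.PLocal.involves_of_sec
      (f.comp (K.equivMapOfInjective M.subtype M.subtype_injective).symm.toMonoidHom)
      (hf.comp (MulEquiv.surjective _)))

end CfsgLib.Recog.GenDihedral
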