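import Cfsg.Agent.Lib.Invol.DihedralFusion
import Cfsg.Agent.Lib.Invol.AISplit
import Cfsg.Agent.Lib.Invol.MetacyclicTwoSolvable
import Cfsg.Agent.Lib.Classical.SLTwoSylow
import Cfsg.Agent.Lib.FT.OddOrder
import Cfsg.Agent.S2202
import Cfsg.Prelude.Def_Classical

/-!
Groups with a subgroup all of whose elements outside a proper subgroup are involutions and which is
the centralizer of its central involutions: basic structure, and the case of exponent two.
-/

set_option autoImplicit false
set_option linter.unusedSectionVars false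

namespace CfsgLib.Recog.GenDihedral

open Subgroup CfsgLib.Invol
open scoped MatrixGroups

universe u

variable {G : Type u} [Group G] [Finite G]

/-- The hypotheses on the pair `(H, A)`. -/
structure DHyp (H A : Subgroup G) : Prop where
  lt : A < H
  sq : ∀ x ∈ H, x ∉ A → x ^ 2 = 1
  four : 4 ∣ Nat.card H
  cent : ∀ j ∈ H, orderOf j = 2 → (∀ h ∈ H, h * j = j * h) → centralizer ({j} : Set G) = H

/-- The conclusion: a quotient `PSL₂` or `PGL₂` by a normal subgroup of order odd or twice odd. -/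
def PSLQuot (G : Type u) [Group G] : Prop :=
  ∃ (N : Subgroup G) (_ : N.Normal), (Odd (Nat.card ↥N) ∨ ∃ m : ℕ, Odd m ∧ Nat.card ↥N = 2 * m) ∧
    ∃ (F : Type) (_ : Field F) (_ : Fintype F), 3 < Fintype.card F ∧
      (Nonempty (G ⧸ N ≃* Matrix.ProjectiveSpecialLinearGroup (Fin 2) F) ∨
        Nonempty (G ⧸ N ≃* Matrix.ProjGenLinGroup (Fin 2) F))

theorem isSolvable_of_odd_index {N : Subgroup G} [N.Normal] (h1 : Group.IsSolvable N)
    (h2 : ¬ 2 ∣ N.index) : Group.IsSolvable G :=
  CfsgLib.Invol.MetacyclicTwo.solvable_of_extension N h1 (CfsgLib.FT.odd_order_solvable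
    (by rw [← Subgroup.index_eq_card, ← Nat.not_even_iff_odd, even_iff_two_dvd]; exact h2))

theorem isSolvable_of_two_index {N : Subgroup G} [N.Normal] (h1 : Group.IsSolvable N)
    (h2 : IsPGroup 2 (G ⧸ N)) : Group.IsSolvable G := by
  have : Fact (Nat.Prime 2) := ⟨Nat.prime_two⟩
  have := h2.isNilpotent
  exact CfsgLib.Invol.MetacyclicTwo.solvable_of_extension N h1 inferInstance

theorem isSolvable_of_normal_sylow (T : Sylow 2 G) (hT : (T : Subgroup G).Normal) :
    Group.IsSolvable G := by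
  have : Fact (Nat.Prime 2) := ⟨Nat.prime_two⟩
  have := T.2.isNilpotent
  exact isSolvable_of_odd_index (N := (T : Subgroup G)) inferInstance T.not_dvd_index

theorem isSolvable_of_cyclic_sylow (T : Sylow 2 G) (hT : IsCyclic T) : Group.IsSolvable G := by
  have : Fact (Nat.Prime 2) := ⟨Nat.prime_two⟩
  obtain ⟨P, N, hN, hc⟩ :=
    hasNormalPComplement_of_cyclic_focal T (T : Subgroup G) hT inf_le_right
  have hodd : Odd (Nat.card N) := by
    rw [← Nat.not_even_iff_odd, even_iff_two_dvd, ← hc.index_eq_card]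
    exact P.not_dvd_index
  refine isSolvable_of_two_index (N := N) (CfsgLib.FT.odd_order_solvable hodd) ?_
  obtain ⟨n, hn⟩ := P.2.exists_card_eq
  exact IsPGroup.of_card (n := n) (by rw [← Subgroup.index_eq_card, hc.symm.index_eq_card, hn])

/-- `SL₂` over a field of characteristic two with at least four elements is centreless. -/
theorem nonempty_sl_equiv_psl {F : Type} [Field F] [Fintype F] (hch : CharP F 2) :
    Nonempty (SL(2, F) ≃* Matrix.ProjectiveSpecialLinearGroup (Fin 2) F) := by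
  have h20 : (2 : F) = 0 := by exact_mod_cast CharP.cast_eq_zero F 2
  have hcen : Subgroup.center SL(2, F) = ⊥ := by
    rw [Subgroup.eq_bot_iff_forall]
    intro g hg
    refine CfsgLib.Invol.sl_two_eq_one_of_scalar h20 ?_
    obtain ⟨r, -, hr⟩ := Matrix.SpecialLinearGroup.mem_center_iff.1 hg
    rw [← hr]
    simp
  exact ⟨MulEquiv.ofBijective (QuotientGroup.mk' _)
    ⟨by rw [← MonoidHom.ker_eq_bot_iff, QuotientGroup.ker_mk', hcen],
      QuotientGroup.mk'_surjective _⟩⟩

theorem four_le_card_of_not_solvable {F : Type} [Field F] [Fintype F] (hch : CharP F 2)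
    (hns : ¬ Group.IsSolvable SL(2, F)) : 4 ≤ Fintype.card F := by
  obtain ⟨n, -, hn⟩ := FiniteField.card F 2
  by_contra hlt
  have h1 : (n : ℕ) = 1 := by
    by_contra h
    have : 2 ^ 2 ≤ 2 ^ (n : ℕ) := Nat.pow_le_pow_right (by norm_num) (by have := n.pos; omega)
    omega
  have hc : Nat.card SL(2, F) = 6 := by
    rw [CfsgLib.Classical.card_sl_two_eq, hn, h1]; norm_num
  have : Fact (Nat.Prime 2) := ⟨Nat.prime_two⟩
  let T : Sylow 2 SL(2, F) := default
  refine hns (isSolvable_of_cyclic_sylow T (isCyclic_of_prime_card (p := 2) ?_))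
  rw [T.card_eq_multiplicity, hc, show (6 : ℕ) = 2 * 3 by norm_num,
    Nat.factorization_mul (by norm_num) (by norm_num), Finsupp.add_apply,
    Nat.Prime.factorization_self Nat.prime_two, Nat.factorization_eq_zero_of_not_dvd (by norm_num)]
  norm_num

theorem not_solvable_sl_of_prod {M : Type u} [Group M] [Finite M] {F : Type} [Field F] [Fintype F]
    {B : Type} [CommGroup B] (e : M ≃* SL(2, F) × B) (hns : ¬ Group.IsSolvable M) :
    ¬ Group.IsSolvable SL(2, F) := fun h =>
  hns (Group.isSolvable_of_ker_le_range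
    ((e.symm.toMonoidHom).comp (MonoidHom.inl SL(2, F) B))
    ((MonoidHom.snd SL(2, F) B).comp e.toMonoidHom) fun x hx => ⟨(e x).1, e.injective (by
      simp only [MonoidHom.comp_apply, MonoidHom.inl_apply, MulEquiv.coe_toMonoidHom,
        MulEquiv.apply_symm_apply]
      exact Prod.ext rfl (MonoidHom.mem_ker.1 hx).symm)⟩)

namespace DHyp

variable {H A : Subgroup G} (h : DHyp H A)
include h

theorem exists_refl : ∃ x ∈ H, x ∉ A := SetLike.exists_of_lt h.lt

theorem mul_self {x : G} (hx : x ∈ H) (hxA : x ∉ A) : x * x = 1 := by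
  rw [← pow_two]; exact h.sq x hx hxA

theorem inverts {x a : G} (hx : x ∈ H) (hxA : x ∉ A) (ha : a ∈ A) : x * a * x⁻¹ = a⁻¹ := by
  have h1 := h.mul_self (mul_mem hx (h.lt.le ha)) (fun e => hxA ((mul_mem_cancel_right ha).1 e))
  rw [inv_eq_of_mul_eq_one_right (h.mul_self hx hxA)]
  exact eq_inv_of_mul_eq_one_left (by rw [← h1]; group)

theorem comm {a b : G} (ha : a ∈ A) (hb : b ∈ A) : a * b = b * a := by
  obtain ⟨x, hx, hxA⟩ := h.exists_refl
  have h1 : a⁻¹ * b⁻¹ = b⁻¹ * a⁻¹ := by
    rw [← mul_inv_rev a b, ← h.inverts hx hxA (mul_mem ha hb), ← h.inverts hx hxA ha,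
      ← h.inverts hx hxA hb]
    group
  have h2 := congrArg (·⁻¹) h1
  simpa using h2.symm

/-- Either exponent two, or the subgroup has index two. -/
theorem mul_mem_or (hA : ∃ a ∈ A, a * a ≠ 1) {x y : G} (hx : x ∈ H) (hxA : x ∉ A) (hy : y ∈ H)
    (hyA : y ∉ A) : x * y ∈ A := by
  by_contra hxy
  obtain ⟨a, ha, ha2⟩ := hA
  have h1 := h.inverts (mul_mem hx hy) hxy ha
  have h2 : x * y * a * (x * y)⁻¹ = a := by
    rw [show x * y * a * (x * y)⁻¹ = x * (y * a * y⁻¹) * x⁻¹ by group, h.inverts hy hyA ha,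
      ← conj_inv, h.inverts hx hxA ha, inv_inv]
  rw [h2] at h1
  exact ha2 (mul_eq_one_iff_eq_inv.2 h1)

theorem cases : (∀ x ∈ H, x * x = 1) ∨ ∃ a ∈ A, a * a ≠ 1 := by
  classical
  by_cases hA : ∃ a ∈ A, a * a ≠ 1
  · exact Or.inr hA
  · push Not at hA
    exact Or.inl fun x hx => if hxA : x ∈ A then hA x hxA else h.mul_self hx hxA

/-- Exponent two: an elementary abelian self-centralizing Sylow 2-subgroup. -/
theorem exp_two (hns : ¬ Group.IsSolvable G) (he : ∀ x ∈ H, x * x = 1) : PSLQuot G := by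
  classical
  have : Fact (Nat.Prime 2) := ⟨Nat.prime_two⟩
  have hcomm : ∀ x ∈ H, ∀ y ∈ H, x * y = y * x := fun x hx y hy => by
    have h1 := inv_eq_of_mul_eq_one_right (he _ (mul_mem hx hy))
    rw [mul_inv_rev, inv_eq_of_mul_eq_one_right (he x hx), inv_eq_of_mul_eq_one_right (he y hy)] at h1
    exact h1.symm
  have hcent : ∀ j ∈ H, j ≠ 1 → centralizer ({j} : Set G) = H := fun j hj hj1 =>
    h.cent j hj (invol_of_mul_self (he j hj) hj1) fun x hx => hcomm x hx j hj
  have hp : IsPGroup 2 H := fun x => ⟨1, Subtype.ext (by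
    show ((x : G)) ^ 2 ^ 1 = 1
    rw [pow_one, pow_two]; exact he x x.2)⟩
  obtain ⟨T, hT⟩ := hp.exists_le_sylow
  obtain ⟨j, hjH, hj1⟩ : ∃ j ∈ H, j ≠ 1 := by
    obtain ⟨x, hx, hxA⟩ := h.exists_refl
    exact ⟨x, hx, fun e => hxA (e ▸ one_mem A)⟩
  have hTH : (T : Subgroup G) = H := by
    refine le_antisymm ?_ hT
    have : Nontrivial (T : Subgroup G) :=
      ⟨⟨⟨j, hT hjH⟩, 1, fun e => hj1 (congrArg Subtype.val e)⟩⟩
    have := T.2.center_nontrivial
    obtain ⟨c, hc⟩ := exists_ne (1 : center (T : Subgroup G))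
    set c' : G := ((c : (T : Subgroup G)) : G) with hc'
    have hcT : ∀ x ∈ (T : Subgroup G), x * c' = c' * x := fun x hx =>
      congrArg Subtype.val (mem_center_iff.1 c.2 ⟨x, hx⟩)
    have hcH : c' ∈ H := by
      rw [← hcent j hjH hj1]
      exact mem_centralizer_singleton_iff.2 (hcT j (hT hjH)).symm
    rw [← hcent c' hcH (fun e => hc (Subtype.ext (Subtype.ext e)))]
    exact fun x hx => mem_centralizer_singleton_iff.2 (hcT x hx)
  have habel : ∀ t : G, orderOf t = 2 → IsMulCommutative ↥(centralizer ({t} : Set G)) := by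
    intro t ht
    obtain ⟨g, hg⟩ := exists_conj_invol_mem_sylow T ht
    replace hg : g * t * g⁻¹ ∈ H := hTH ▸ hg
    have hC := hcent _ hg (fun e => invol_ne_one ht (conj_eq_one_iff.1 e))
    refine ⟨⟨fun a b => Subtype.ext ?_⟩⟩
    have hm : ∀ a : centralizer ({t} : Set G), g * (a : G) * g⁻¹ ∈ H := fun a => by
      rw [← hC, mem_centralizer_singleton_iff]
      calc g * (a : G) * g⁻¹ * (g * t * g⁻¹) = g * ((a : G) * t) * g⁻¹ := by group
        _ = g * (t * (a : G)) * g⁻¹ := by rw [mem_centralizer_singleton_iff.1 a.2]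
        _ = _ := by group
    have h1 := hcomm _ (hm a) _ (hm b)
    rw [show g * (a : G) * g⁻¹ * (g * (b : G) * g⁻¹) = g * ((a : G) * b) * g⁻¹ by group,
      show g * (b : G) * g⁻¹ * (g * (a : G) * g⁻¹) = g * ((b : G) * a) * g⁻¹ by group] at h1
    simpa using h1
  have heven : Even (Nat.card G) := even_iff_two_dvd.2
    ((dvd_trans (by norm_num) h.four).trans (card_subgroup_dvd_card H))
  rcases Cfsg.Agent.S2202.result heven habel with hc | hn | ⟨F, _, _, B, _, _, hch, hB, ⟨e⟩⟩
  · exact absurd (isSolvable_of_cyclic_sylow T (hc T)) hns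
  · exact absurd (isSolvable_of_normal_sylow T (hn T)) hns
  · have hBs : ∀ b : B, b = 1 := by
      intro b
      set y := e.symm (1, b)
      have hy : y ∈ H := by
        rw [← hcent j hjH hj1, mem_centralizer_singleton_iff]
        refine e.injective ?_
        simp only [map_mul, y, MulEquiv.apply_symm_apply]
        exact Prod.ext (by simp) (mul_comm _ _)
      have h2 := congrArg (fun v => (e v).2) (he y hy)
      simp only [map_mul, map_one, y, MulEquiv.apply_symm_apply, Prod.snd_mul, Prod.snd_one] at h2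
      by_contra hb
      obtain ⟨k, hk⟩ := hB
      have h3 := orderOf_dvd_natCard b
      rw [invol_of_mul_self h2 hb, hk] at h3
      omega
    let _ : Unique B := ⟨⟨1⟩, hBs⟩
    obtain ⟨e'⟩ := nonempty_sl_equiv_psl (F := F) hch
    have h4 := four_le_card_of_not_solvable hch (not_solvable_sl_of_prod e hns)
    refine ⟨⊥, inferInstance, Or.inl (by rw [card_bot]; exact odd_one), F, inferInstance,
      inferInstance, h4, Or.inl ⟨?_⟩⟩
    exact ((QuotientGroup.quotientBot.trans e).trans
      (MulEquiv.prodUnique : SL(2, F) × B ≃* SL(2, F))).trans e'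

end DHyp

end CfsgLib.Recog.GenDihedral
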