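import Cfsg.Agent.Lib.Recog.GenDihedral.DihedralFacts
import Cfsg.Agent.Lib.Recog.GenDihedral.ReduceBase
import Cfsg.Agent.Lib.Recog.Conjugates
import Cfsg.Agent.Lib.Solvable.MinNormal
import Cfsg.Agent.Lib.InvChar.BSWDihedral
import Cfsg.Agent.Lib.Invol.Simple
import Cfsg.Agent.Lib.BlockA.DihedralRotations

/-!
A non-solvable group without normal subgroups of odd order and with dihedral Sylow 2-subgroup has
a simple socle with trivial centralizer, whose Sylow 2-subgroup is the whole or half.
-/

set_option autoImplicit false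
set_option linter.unusedSectionVars false
set_option maxHeartbeats 800000

namespace CfsgLib.Recog.GenDihedral

open Subgroup CfsgLib.Invol

universe u

variable {Q : Type u} [Group Q] [Finite Q]

/-- Centralizers of involutions modulo a normal subgroup of odd order. -/
theorem lift_centralizer {K : Subgroup Q} [K.Normal] (hK : Odd (Nat.card K)) {z x : Q}
    (hz : orderOf z = 2) (hx : x * z * x⁻¹ * z⁻¹ ∈ K) :
    ∃ k ∈ K, k * x ∈ centralizer ({z} : Set Q) := by
  have hz' : orderOf (x * z * x⁻¹) = 2 := by rw [CfsgLib.Invol.orderOf_conj_eq, hz]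
  have hmem : x * z * x⁻¹ * z ∈ K := by
    have := invol_inv hz
    rwa [this] at hx
  have hodd : Odd (orderOf (x * z * x⁻¹ * z)) :=
    hK.of_dvd_nat (Subgroup.orderOf_dvd_natCard _ hmem)
  obtain ⟨d, hd, hd'⟩ := exists_conj_of_odd hz' hz hodd
  refine ⟨d, (zpowers_le.2 hmem) hd, mem_centralizer_singleton_iff.2 ?_⟩
  rw [← mul_inv_eq_iff_eq_mul]
  calc d * x * z * (d * x)⁻¹ = d * (x * z * x⁻¹) * d⁻¹ := by group
    _ = z := hd'

/-- A central involution forces solvability. -/
theorem isSolvable_of_central (T : Sylow 2 Q) (E : DihData (T : Subgroup Q)) {t : Q}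
    (ht : orderOf t = 2) (hc : t ∈ center Q) : Group.IsSolvable Q := by
  have htT : t ∈ (T : Subgroup Q) := by
    obtain ⟨g, hg⟩ := exists_conj_invol_mem_sylow T ht
    rwa [mem_center_iff.1 hc g, mul_inv_cancel_right] at hg
  obtain ⟨E', hE'⟩ := CfsgLib.InvChar.BSW.exists_dihData_central E ⟨t, htT⟩
    (by rw [orderOf_mk, ht]) fun u => Subtype.ext (mem_center_iff.1 hc u)
  have hdz : dz T E' = t := congrArg Subtype.val hE'
  have hno : ∀ j, ¬ IsConj (dz T E') (dt T E' j) := fun j hj => by
    obtain ⟨g, hg⟩ := isConj_iff.1 hj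
    rw [hdz, mem_center_iff.1 hc g, mul_inv_cancel_right, ← hdz] at hg
    exact E'.ne_zpow j _ (Subtype.ext hg.symm)
  have : Fact (Nat.Prime 2) := ⟨Nat.prime_two⟩
  obtain ⟨P, N, hN, hcp⟩ := hasNormalPComplement_of_cyclic_focal T
    ((zpowers E'.r).map (T : Subgroup Q).subtype) (by rw [MonoidHom.map_zpowers]; infer_instance)
    (residual_le_rot T E' (hno 0) (hno 1))
  have hodd : Odd (Nat.card N) := by
    rw [← Nat.not_even_iff_odd, even_iff_two_dvd, ← hcp.index_eq_card]
    exact P.not_dvd_index
  refine isSolvable_of_two_index (N := N) (CfsgLib.FT.odd_order_solvable hodd) ?_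
  obtain ⟨n, hn⟩ := P.2.exists_card_eq
  exact IsPGroup.of_card (n := n) (by rw [← Subgroup.index_eq_card, hcp.symm.index_eq_card, hn])

/-- A dihedral group has four-groups in all its noncyclic subgroups. -/
theorem exists_pair_of_noncyclic {S : Type u} [Group S] (D : DihData S) (R : Subgroup S)
    (hR : ¬ IsCyclic R) :
    ∃ a ∈ R, ∃ b ∈ R, orderOf a = 2 ∧ orderOf b = 2 ∧ Commute a b ∧ a ≠ b := by
  obtain ⟨j, hj⟩ : ∃ j : ℤ, D.r ^ j * D.s ∈ R := by
    by_contra hno
    push Not at hno
    refine hR (isCyclic_of_injective (inclusion (show R ≤ zpowers D.r from fun u hu => ?_))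
      (inclusion_injective _))
    rcases D.cases u with ⟨i, rfl⟩ | ⟨i, rfl⟩
    · exact zpow_mem (mem_zpowers _) i
    · exact absurd hu (hno i)
  have h2 : orderOf (D.r ^ j * D.s) = 2 := D.orderOf_zy j
  by_cases hz : D.z ∈ R
  · exact ⟨_, hz, _, hj, D.orderOf_z, h2, D.commute_z _,
      fun e => D.ne_zpow j _ (e.symm.trans rfl)⟩
  · exfalso
    refine hR ⟨⟨⟨_, hj⟩, fun u => ?_⟩⟩
    have hrot : ∀ e : ℤ, D.r ^ e ∈ R → D.r ^ e = 1 := fun e he => by
      by_contra he1
      refine hz ?_
      -- a nontrivial rotation has the central involution as a power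
      have h2h : orderOf D.r = 2 * D.h := D.orderOf_r
      obtain ⟨k, hk⟩ := D.h_pow
      have hd : orderOf (D.r ^ e) ∣ 2 ^ (k + 1) := by
        refine (orderOf_dvd_of_pow_eq_one ?_).trans dvd_rfl
        rw [← zpow_natCast, ← zpow_mul, mul_comm, zpow_mul, zpow_natCast,
          show 2 ^ (k + 1) = orderOf D.r by rw [h2h, hk]; ring, pow_orderOf_eq_one, one_zpow]
      obtain ⟨i, -, hi⟩ := (Nat.dvd_prime_pow Nat.prime_two).1 hd
      rcases i with _ | i
      · exact absurd (orderOf_eq_one_iff.1 (by simpa using hi)) he1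
      have ho : orderOf ((D.r ^ e) ^ 2 ^ i) = 2 := by
        rw [orderOf_pow' _ (pow_ne_zero _ two_ne_zero), hi, pow_succ,
          Nat.gcd_eq_right (Dvd.intro _ rfl), Nat.mul_div_cancel_left _ (pow_pos two_pos i)]
      have hmem : (D.r ^ e) ^ 2 ^ i ∈ R := pow_mem he _
      rw [← zpow_natCast, ← zpow_mul] at ho hmem
      rwa [D.eq_z_of_zpow ho] at hmem
    rcases D.cases (u : S) with ⟨i, hi⟩ | ⟨i, hi⟩
    · exact ⟨0, Subtype.ext (by
        simp only [zpow_zero, OneMemClass.coe_one]
        rw [hi, hrot i (hi ▸ u.2)])⟩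
    · refine ⟨1, Subtype.ext ?_⟩
      have h3 := mul_mem u.2 hj
      rw [hi, D.zy_mul_zy] at h3
      have h4 := hrot _ h3
      simp only [zpow_one]
      rw [hi]
      calc D.r ^ j * D.s = D.r ^ (i - j) * (D.r ^ j * D.s) := by rw [h4, one_mul]
        _ = D.r ^ i * D.s := by rw [← mul_assoc, ← zpow_add, sub_add_cancel]

theorem exists_four_subgroup (T : Sylow 2 Q) (E : DihData (T : Subgroup Q)) (N : Subgroup Q)
    (hN : ¬ Group.IsSolvable N) :
    ∃ a ∈ N, ∃ b ∈ N, orderOf a = 2 ∧ orderOf b = 2 ∧ Commute a b ∧ a ≠ b := by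
  have : Fact (Nat.Prime 2) := ⟨Nat.prime_two⟩
  let P : Sylow 2 N := default
  obtain ⟨T', hT'⟩ := (P.2.map N.subtype).exists_le_sylow
  obtain ⟨g, hg⟩ := MulAction.exists_smul_eq Q T T'
  let ψ : (P : Subgroup N) →* (T : Subgroup Q) := MonoidHom.mk' (fun p => ⟨g⁻¹ * ((p : N) : Q) * g, by
      have h1 : ((p : N) : Q) ∈ ((g • T : Sylow 2 Q) : Subgroup Q) := hg ▸ hT' ⟨p, p.2, rfl⟩
      rw [Sylow.coe_subgroup_smul] at h1
      obtain ⟨w, hw, ew⟩ := h1
      change g * w * g⁻¹ = ((p : N) : Q) at ew
      rwa [← ew, show g⁻¹ * (g * w * g⁻¹) * g = w by group]⟩)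
    (fun a b => Subtype.ext (by
      show g⁻¹ * (((a : N) : Q) * (b : N)) * g = g⁻¹ * (a : N) * g * (g⁻¹ * (b : N) * g)
      group))
  have hψ : Function.Injective ψ := fun a b h => by
    have h' : g⁻¹ * ((a : N) : Q) * g = g⁻¹ * ((b : N) : Q) * g := congrArg Subtype.val h
    exact Subtype.ext (Subtype.ext (mul_left_cancel (mul_right_cancel h')))
  have hnc : ¬ IsCyclic ψ.range := fun hc => hN (isSolvable_of_cyclic_sylow P
    (isCyclic_of_injective ψ.rangeRestrict fun a b h => hψ (congrArg Subtype.val h)))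
  obtain ⟨_, ⟨a, rfl⟩, _, ⟨b, rfl⟩, ha, hb, hab, hne⟩ := exists_pair_of_noncyclic E ψ.range hnc
  refine ⟨_, (a : N).2, _, (b : N).2, ?_, ?_, ?_, fun e => hne (by
    rw [show a = b from Subtype.ext (Subtype.ext e)])⟩
  · rwa [orderOf_injective ψ hψ, ← Subgroup.orderOf_coe, ← Subgroup.orderOf_coe] at ha
  · rwa [orderOf_injective ψ hψ, ← Subgroup.orderOf_coe, ← Subgroup.orderOf_coe] at hb
  · have h : a * b = b * a := hψ (by rw [map_mul, map_mul, hab.eq])
    exact congrArg (fun x : (P : Subgroup N) => ((x : N) : Q)) h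

/-- The simple socle. -/
theorem exists_simple_socle (hns : ¬ Group.IsSolvable Q)
    (hO : ∀ N : Subgroup Q, N.Normal → Odd (Nat.card N) → N = ⊥) (T : Sylow 2 Q)
    (E : DihData (T : Subgroup Q)) :
    ∃ L : Subgroup Q, L.Normal ∧ IsSimpleGroup L ∧ ¬ IsMulCommutative L ∧
      centralizer (L : Set Q) = ⊥ := by
  classical
  have : Fact (Nat.Prime 2) := ⟨Nat.prime_two⟩
  have : Nontrivial Q := by
    by_contra hc
    rw [not_nontrivial_iff_subsingleton] at hc
    exact hns inferInstance
  have key : ∀ N : Subgroup Q, N.Normal → N ≠ ⊥ →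
      (∀ K : Subgroup Q, K.Normal → K ≤ N → K = ⊥ ∨ K = N) → ¬ Group.IsSolvable N := by
    intro N hN hne hmin hs
    obtain ⟨p, hp, hpN, hexp, hab⟩ :=
      CfsgLib.Solvable.exists_isPGroup_of_minimal_normal hne hmin
    by_cases hp2 : p = 2
    · subst hp2
      obtain ⟨a, ha, ha1⟩ : ∃ a ∈ N, a ≠ 1 := N.bot_or_exists_ne_one.resolve_left hne
      have hord : ∀ x ∈ N, x ≠ 1 → orderOf x = 2 := fun x hx hx1 =>
        invol_of_mul_self (by rw [← pow_two]; exact hexp x hx) hx1
      have hcomm : ∀ x ∈ N, ∀ y ∈ N, Commute x y := fun x hx y hy =>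
        congrArg Subtype.val (hab.is_comm.comm (⟨x, hx⟩ : N) ⟨y, hy⟩)
      by_cases hone : ∀ x ∈ N, x = 1 ∨ x = a
      · refine hns (isSolvable_of_central T E (hord a ha ha1) (mem_center_iff.2 fun g => ?_))
        rcases hone _ (hN.conj_mem a ha g) with e | e
        · exact absurd (conj_eq_one_iff.1 e) ha1
        · exact mul_inv_eq_iff_eq_mul.1 e
      · push Not at hone
        obtain ⟨b, hb, hb1, hba⟩ := hone
        have hlist : ∀ x ∈ N, x = 1 ∨ x = a ∨ x = b ∨ x = a * b := by
          intro x hx
          by_contra h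
          push Not at h
          exact no_eight T E (hord a ha ha1) (hord b hb hb1) (hord x hx h.1) (hcomm a ha b hb)
            (hcomm a ha x hx) (hcomm b hb x hx) hba.symm h.2.1 h.2.2.1 h.2.2.2
        -- the centralizer
        set C := centralizer (N : Set Q)
        have hCn : C.Normal := Subgroup.normal_centralizer
        have hNC : N ≤ C := fun x hx => mem_centralizer_iff.2 fun y hy => (hcomm y hy x hx).eq
        have hCs : Group.IsSolvable C := by
          by_contra hCs
          obtain ⟨c, hc, d, hd, hc2, hd2, hcd, hcd'⟩ := exists_four_subgroup T E C hCs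
          have hin : ∀ c ∈ C, orderOf c = 2 → c ∈ N := fun c hc hc2 => by
            by_contra hcN
            exact no_eight T E (hord a ha ha1) (hord b hb hb1) hc2 (hcomm a ha b hb)
              (mem_centralizer_iff.1 hc a ha) (mem_centralizer_iff.1 hc b hb) hba.symm
              (fun e => hcN (e ▸ ha)) (fun e => hcN (e ▸ hb)) (fun e => hcN (e ▸ mul_mem ha hb))
          refine hCs (isSolvable_of_odd_index (N := N.subgroupOf C) ?_ ?_)
          · have : Group.IsSolvable N := hs
            exact solvable_of_solvable_injective (f := (subgroupOfEquivOfLe hNC).toMonoidHom)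
              (subgroupOfEquivOfLe hNC).injective
          · intro hdvd
            have h2d : 2 ∣ Nat.card (C ⧸ N.subgroupOf C) := hdvd
            obtain ⟨q, hq⟩ := exists_prime_orderOf_dvd_card' 2 h2d
            obtain ⟨w, rfl⟩ := QuotientGroup.mk_surjective q
            obtain ⟨P'⟩ : Nonempty (Sylow 2 C) := inferInstance
            obtain ⟨R, hR⟩ := (IsPGroup.of_card (n := 1) (by rw [Nat.card_zpowers, hq, pow_one]) :
              IsPGroup 2 (zpowers ((w : C) : C ⧸ N.subgroupOf C))).exists_le_sylow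
            obtain ⟨P, hP⟩ := Sylow.mapSurjective_surjective
              (QuotientGroup.mk'_surjective (N.subgroupOf C)) 2 R
            have hwR := hR (mem_zpowers _)
            rw [← hP, Sylow.coe_mapSurjective] at hwR
            obtain ⟨v, hv, hvw⟩ := hwR
            have hv1 : v ∉ N.subgroupOf C := fun hvN => by
              rw [← hvw, show QuotientGroup.mk' (N.subgroupOf C) v = 1 from
                (QuotientGroup.eq_one_iff v).2 hvN, orderOf_one] at hq
              omega
            -- a 2-element of the centralizer whose square root leaves `N`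
            obtain ⟨k, hk⟩ := P.2 ⟨v, hv⟩
            have hk' : ((v : Q)) ^ 2 ^ k = 1 :=
              congrArg (fun z : (P : Subgroup C) => ((z : C) : Q)) hk
            have hvQ : (v : Q) ∉ N := hv1
            obtain ⟨T'', hT''⟩ := ((P.2.map C.subtype)).exists_le_sylow
            obtain ⟨g, hg⟩ := MulAction.exists_smul_eq Q T T''
            have hmem : ∀ x : C, x ∈ (P : Subgroup C) → g⁻¹ * (x : Q) * g ∈ (T : Subgroup Q) :=
              fun x hx => by
              have h1 : (x : Q) ∈ ((g • T : Sylow 2 Q) : Subgroup Q) := hg ▸ hT'' ⟨x, hx, rfl⟩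
              rw [Sylow.coe_subgroup_smul] at h1
              obtain ⟨u, hu, eu⟩ := h1
              change g * u * g⁻¹ = (x : Q) at eu
              rwa [← eu, show g⁻¹ * (g * u * g⁻¹) * g = u by group]
            have hNP : ∀ x (hx : x ∈ N), (⟨x, hNC hx⟩ : C) ∈ (P : Subgroup C) := fun x hx =>
              ((IsPGroup.of_injective hpN (subgroupOfEquivOfLe hNC).toMonoidHom
                (subgroupOfEquivOfLe hNC).injective).le_sylow_of_normal P) hx
            -- in the dihedral group the two involutions commute with the rotation `v`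
            obtain ⟨i, hi⟩ : ∃ i : ℤ, (⟨g⁻¹ * (v : Q) * g, hmem v hv⟩ : (T : Subgroup Q)) = E.r ^ i := by
              rcases E.cases ⟨g⁻¹ * (v : Q) * g, hmem v hv⟩ with h | ⟨i, hi⟩
              · exact h
              · exfalso
                have h1 : orderOf (g⁻¹ * (v : Q) * g) = 2 := by
                  rw [← orderOf_mk (g⁻¹ * (v : Q) * g) (hmem v hv), hi, E.orderOf_zy]
                refine hvQ (hin _ v.2 ?_)
                rw [← h1]
                exact (by simpa using (CfsgLib.Invol.orderOf_conj_eq g⁻¹ (v : Q)).symm)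
            obtain ⟨l, hl⟩ : ∃ x ∈ N, x ≠ 1 ∧ g⁻¹ * x * g ≠ dz T E := by
              by_cases hz : g⁻¹ * a * g = dz T E
              · refine ⟨b, hb, hb1, fun e => hba ?_⟩
                have := e.trans hz.symm
                exact mul_left_cancel (mul_right_cancel this)
              · exact ⟨a, ha, ha1, hz⟩
            obtain ⟨hlN, hl1, hlz⟩ := hl
            have hlT := hmem ⟨l, hNC hlN⟩ (hNP l hlN)
            have hl2 : orderOf (⟨g⁻¹ * l * g, hlT⟩ : (T : Subgroup Q)) = 2 := by
              rw [orderOf_mk, show orderOf (g⁻¹ * l * g) = orderOf l by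
                simpa using CfsgLib.Invol.orderOf_conj_eq g⁻¹ l, hord l hlN hl1]
            rcases E.invol_cases hl2 with e | ⟨m, hm⟩
            · exact hlz (congrArg Subtype.val e)
            have hcm : Commute (E.r ^ i) (E.r ^ m * E.s) := by
              rw [← hi, ← hm]
              refine Subtype.ext ?_
              show g⁻¹ * (v : Q) * g * (g⁻¹ * l * g) = g⁻¹ * l * g * (g⁻¹ * (v : Q) * g)
              rw [show g⁻¹ * (v : Q) * g * (g⁻¹ * l * g) = g⁻¹ * ((v : Q) * l) * g by group,
                ← mem_centralizer_iff.1 v.2 l hlN]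
              group
            have h1 := hcm.eq
            rw [E.zy_mul_z, ← mul_assoc, ← zpow_add, mul_left_inj, E.zpow_eq_iff] at h1
            have h2' : (E.r ^ i) * (E.r ^ i) = 1 := by
              rw [← zpow_add, E.zpow_eq_one_iff]
              obtain ⟨q', hq'⟩ := h1
              exact ⟨-q', by linarith⟩
            have hv2 : (v : Q) * v = 1 := by
              have h3 := congrArg Subtype.val (hi ▸ h2' :
                (⟨g⁻¹ * (v : Q) * g, hmem v hv⟩ : (T : Subgroup Q)) * ⟨_, hmem v hv⟩ = 1)
              have h4 : g⁻¹ * ((v : Q) * v) * g = 1 := by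
                calc g⁻¹ * ((v : Q) * v) * g = g⁻¹ * (v : Q) * g * (g⁻¹ * (v : Q) * g) := by group
                  _ = 1 := h3
              calc (v : Q) * v = g * (g⁻¹ * ((v : Q) * v) * g) * g⁻¹ := by group
                _ = 1 := by rw [h4, mul_one, mul_inv_cancel]
            exact hvQ (hin _ v.2 (invol_of_mul_self hv2 fun e => hvQ (e ▸ one_mem N)))
        -- the quotient
        let s : Finset Q := {a, b, a * b}
        have hs3 : ∀ x : {x : Q // x ∈ N ∧ x ≠ 1}, (x : Q) ∈ s := fun x => by
          rcases hlist x x.2.1 with e | e | e | e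
          · exact absurd e x.2.2
          all_goals simp [s, e]
        let X := {x : Q // x ∈ N ∧ x ≠ 1}
        let : Fintype X := Fintype.ofFinite X
        have hX : Nat.card X ≤ 3 := by
          rw [Nat.card_eq_fintype_card]
          refine le_trans (Fintype.card_le_of_injective (fun x : X => (⟨x.1, hs3 x⟩ : s))
            fun x y h => Subtype.ext (congrArg (fun z : s => (z : Q)) h)) ?_
          rw [Fintype.card_coe]
          exact Finset.card_le_three
        let act : MulAction Q X :=
          { smul := fun g x => ⟨g * x.1 * g⁻¹, hN.conj_mem _ x.2.1 g,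
              fun e => x.2.2 (conj_eq_one_iff.1 e)⟩
            one_smul := fun x => Subtype.ext (show (1 : Q) * x.1 * 1⁻¹ = x.1 by simp)
            mul_smul := fun g h x => Subtype.ext
              (show g * h * x.1 * (g * h)⁻¹ = g * (h * x.1 * h⁻¹) * g⁻¹ by group) }
        let ρ := MulAction.toPermHom Q X
        have hker : ρ.ker ≤ C := fun g hg => mem_centralizer_iff.2 fun y hy => by
          by_cases hy1 : y = 1
          · simp [hy1]
          have h1 := congrArg Subtype.val
            (Equiv.congr_fun (MonoidHom.mem_ker.1 hg) (⟨y, hy, hy1⟩ : X))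
          change g * y * g⁻¹ = y at h1
          exact (mul_inv_eq_iff_eq_mul.1 h1).symm
        have hrs : Group.IsSolvable ρ.range := by
          let P : Sylow 2 ρ.range := default
          refine isSolvable_of_cyclic_sylow P ?_
          have hd : Nat.card (P : Subgroup ρ.range) ∣ Nat.factorial 3 :=
            ((P : Subgroup ρ.range).card_subgroup_dvd_card.trans (card_subgroup_dvd_card _)).trans
              (by rw [Nat.card_perm]; exact Nat.factorial_dvd_factorial hX)
          obtain ⟨k, hk⟩ := P.2.exists_card_eq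
          rw [hk] at hd
          rcases k with _ | _ | k
          · have := (Subgroup.card_eq_one (H := (P : Subgroup ρ.range))).1 (by rw [hk, pow_zero])
            rw [this]; infer_instance
          · exact isCyclic_of_prime_card (p := 2) (by rw [hk, pow_one])
          · exfalso
            have : 4 ∣ Nat.factorial 3 := dvd_trans ⟨2 ^ k, by ring⟩ hd
            norm_num [Nat.factorial] at this
        have hks : Group.IsSolvable ρ.ker :=
          solvable_of_solvable_injective (f := inclusion hker) (inclusion_injective hker)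
        exact hns (Group.isSolvable_of_ker_le_range ρ.ker.subtype ρ.rangeRestrict
          (by rw [MonoidHom.ker_rangeRestrict, Subgroup.range_subtype]))
    · have hodd : Odd (Nat.card N) := by
        have : Fact p.Prime := ⟨hp⟩
        obtain ⟨n, hn⟩ := hpN.exists_card_eq
        rw [hn]
        exact (hp.odd_of_ne_two hp2).pow
      exact hne (hO N hN hodd)
  obtain ⟨L, hLn, hLne, hLmin⟩ := CfsgLib.Solvable.exists_minimal_normal (G := Q)
  have hLns := key L hLn hLne hLmin
  have hLab : ¬ IsMulCommutative L := fun h => hLns (Group.isSolvable_of_comm h.is_comm.comm)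
  obtain ⟨F, hF⟩ := CfsgLib.Recog.exists_isFactor hLn hLne hLmin hLab
  have hFns : ¬ Group.IsSolvable F := fun h => hF.nonabelian (by
    have := hF.simple
    exact ⟨⟨IsSimpleGroup.comm_iff_isSolvable.2 h⟩⟩)
  have hFL : F = L := by
    by_contra hne
    have hnot : ∃ g, CfsgLib.Recog.cj g F ≠ F := by
      by_contra h
      push Not at h
      refine hne (le_antisymm hF.le ?_)
      rw [← hF.iSup_eq]
      exact iSup_le fun g => (h g).le
    obtain ⟨g, hg⟩ := hnot
    have hgc := (hF.eq_or_le_centralizer g).resolve_left hg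
    obtain ⟨a, ha, b, hb, ha2, hb2, hab, habne⟩ := exists_four_subgroup T E F hFns
    have hc : g * a * g⁻¹ ∈ CfsgLib.Recog.cj g F := CfsgLib.Recog.conj_mem_cj ha
    have hnF : ∀ x ∈ F, g * a * g⁻¹ ≠ x := fun x hx e => invol_ne_one ha2
      (conj_eq_one_iff.1 (mem_bot.1 (hF.inf_centralizer.le
        (⟨e ▸ hx, hgc hc⟩ : g * a * g⁻¹ ∈ F ⊓ centralizer (F : Set Q)))))
    exact no_eight T E ha2 hb2 (by rw [CfsgLib.Invol.orderOf_conj_eq, ha2]) hab
      (mem_centralizer_iff.1 (hgc hc) a ha) (mem_centralizer_iff.1 (hgc hc) b hb) habne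
      (hnF a ha) (hnF b hb) (hnF _ (mul_mem ha hb))
  subst hFL
  refine ⟨F, hLn, hF.simple, hF.nonabelian, ?_⟩
  by_contra hC
  have hCn : (centralizer (F : Set Q)).Normal := Subgroup.normal_centralizer
  obtain ⟨M, hMn, hMne, hMle, hMmin⟩ := CfsgLib.Solvable.exists_minimal_normal_le hCn hC
  obtain ⟨a, ha, b, hb, ha2, hb2, hab, habne⟩ := exists_four_subgroup T E F hFns
  obtain ⟨c, hc, -, -, hc2, -, -, -⟩ := exists_four_subgroup T E M (key M hMn hMne hMmin)
  have hnF : ∀ x ∈ F, c ≠ x := fun x hx e => invol_ne_one hc2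
    (mem_bot.1 (hF.inf_centralizer.le (⟨e ▸ hx, hMle hc⟩ : c ∈ F ⊓ centralizer (F : Set Q))))
  exact no_eight T E ha2 hb2 hc2 hab (mem_centralizer_iff.1 (hMle hc) a ha)
    (mem_centralizer_iff.1 (hMle hc) b hb) habne (hnF a ha) (hnF b hb) (hnF _ (mul_mem ha hb))

end CfsgLib.Recog.GenDihedral
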