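import Cfsg.Agent.Lib.Invol.DihedralFusion

/-!
# Generalized dihedral involution centralisers

`Gen S D K`: the centraliser of the central involution of the dihedral Sylow two-subgroup `S` is
`K S` with `K` of odd order, centralised by the rotations and inverted by the reflections.
-/

set_option autoImplicit false
set_option linter.unusedSectionVars false

namespace CfsgLib.Recog.GenDih

open Subgroup CfsgLib.Invol

universe u

variable {G : Type u} [Group G] [Finite G]

/-- The centraliser of the central involution is generalized dihedral over an abelian group. -/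
structure Gen (S : Sylow 2 G) (D : DihData (S : Subgroup G)) (K : Subgroup G) : Prop where
  odd : Odd (Nat.card K)
  rot : ∀ k ∈ K, Commute ((D.r : (S : Subgroup G)) : G) k
  refl : ∀ k ∈ K, ((D.s : (S : Subgroup G)) : G) * k * ((D.s : (S : Subgroup G)) : G)⁻¹ = k⁻¹
  split : ∀ x ∈ centralizer ({dz S D} : Set G), ∃ k ∈ K, ∃ p ∈ (S : Subgroup G), x = k * p

/-- All involutions are conjugate. -/
abbrev OneClass (G : Type u) [Group G] : Prop :=
  ∀ a b : G, orderOf a = 2 → orderOf b = 2 → IsConj a b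

theorem eq_one_of_sq {x : G} (hx : Odd (orderOf x)) (h : x * x = 1) : x = 1 :=
  orderOf_eq_one_iff.1 (Nat.eq_one_of_dvd_coprimes (Nat.coprime_two_left.2 hx)
    (orderOf_dvd_of_pow_eq_one ((pow_two x).trans h)) dvd_rfl)

theorem odd_orderOf_of_mem {K : Subgroup G} (hK : Odd (Nat.card K)) {x : G} (hx : x ∈ K) :
    Odd (orderOf x) :=
  hK.of_dvd_nat (Subgroup.orderOf_dvd_natCard _ hx)

/-- An odd element commuting with the square commutes. -/
theorem commute_of_sq {x v : G} (hx : Odd (orderOf x)) (h : Commute (x * x) v) : Commute x v := by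
  obtain ⟨m, hm⟩ := hx
  have e : x = (x * x) ^ (m + 1) := by
    rw [← pow_two, ← pow_mul, show 2 * (m + 1) = orderOf x + 1 by omega, pow_succ,
      pow_orderOf_eq_one, one_mul]
  rw [e]
  exact h.pow_left _

theorem orderOf_conj_inv (g x : G) : orderOf (g⁻¹ * x * g) = orderOf x := by
  simpa using orderOf_conj_eq g⁻¹ x

variable {S : Sylow 2 G} {D : DihData (S : Subgroup G)} {K : Subgroup G}

/-- The rotation. -/
local notation "rr" => ((D.r : (S : Subgroup G)) : G)
/-- The reflection. -/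
local notation "ss" => ((D.s : (S : Subgroup G)) : G)

theorem dt_eq (j : ℤ) : dt S D j = rr ^ j * ss := by
  show ((D.r ^ j * D.s : (S : Subgroup G)) : G) = _
  push_cast
  rfl

theorem dz_eq : dz S D = rr ^ (D.h : ℤ) := by
  show ((D.r ^ (D.h : ℤ) : (S : Subgroup G)) : G) = _
  push_cast
  rfl

theorem dz_orderOf : orderOf (dz S D) = 2 := (Subgroup.orderOf_coe _).trans D.orderOf_z

theorem dt_orderOf (j : ℤ) : orderOf (dt S D j) = 2 := (Subgroup.orderOf_coe _).trans (D.orderOf_zy j)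

theorem dt_ne_dz (j : ℤ) : dt S D j ≠ dz S D := fun e => D.ne_zpow j _ (Subtype.ext e)

theorem dz_mem : dz S D ∈ (S : Subgroup G) := SetLike.coe_mem _

theorem dt_mem (j : ℤ) : dt S D j ∈ (S : Subgroup G) := SetLike.coe_mem _

theorem sylow_le_cent : (S : Subgroup G) ≤ centralizer ({dz S D} : Set G) := fun _ hx =>
  mem_centralizer_singleton_iff.2 (dz_commute S D hx).symm.eq

theorem mem_sylow_cases {p : G} (hp : p ∈ (S : Subgroup G)) :
    (∃ i : ℤ, p = rr ^ i) ∨ ∃ i : ℤ, p = dt S D i := by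
  rcases D.cases ⟨p, hp⟩ with ⟨i, hi⟩ | ⟨i, hi⟩
  · exact Or.inl ⟨i, (congrArg Subtype.val hi).trans (SubgroupClass.coe_zpow _ _)⟩
  · exact Or.inr ⟨i, congrArg Subtype.val hi⟩

theorem dz_mul_dt (j : ℤ) : dz S D * dt S D j = dt S D (D.h + j) := by
  rw [dz_eq, dt_eq, dt_eq, ← mul_assoc, ← zpow_add]

theorem card_sylow : Nat.card (S : Subgroup G) = 4 * D.h := D.card_eq

variable (hG : Gen S D K)
include hG

theorem Gen.rot_zpow {k : G} (hk : k ∈ K) (i : ℤ) : Commute (rr ^ i) k := (hG.rot k hk).zpow_left i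

theorem Gen.dt_inv {k : G} (hk : k ∈ K) (j : ℤ) : dt S D j * k * (dt S D j)⁻¹ = k⁻¹ := by
  rw [dt_eq, show rr ^ j * ss * k * (rr ^ j * ss)⁻¹ = rr ^ j * (ss * k * ss⁻¹) * (rr ^ j)⁻¹ by group,
    hG.refl k hk, ((hG.rot_zpow hk j).inv_right).eq, mul_inv_cancel_right]

theorem Gen.le_cent : K ≤ centralizer ({dz S D} : Set G) := fun k hk =>
  mem_centralizer_singleton_iff.2 (by rw [dz_eq]; exact (hG.rot_zpow hk _).symm.eq)

theorem Gen.comm {a b : G} (ha : a ∈ K) (hb : b ∈ K) : Commute a b := by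
  have h := hG.refl _ (mul_mem ha hb)
  rw [show ss * (a * b) * ss⁻¹ = (ss * a * ss⁻¹) * (ss * b * ss⁻¹) by group, hG.refl a ha,
    hG.refl b hb, mul_inv_rev] at h
  have h2 := congrArg (·⁻¹) h
  simp only [mul_inv_rev, inv_inv] at h2
  exact h2.symm

theorem Gen.cases_cent {x : G} (hx : x ∈ centralizer ({dz S D} : Set G)) :
    ∃ k ∈ K, (∃ i : ℤ, x = k * rr ^ i) ∨ ∃ i : ℤ, x = k * dt S D i := by
  obtain ⟨k, hk, p, hp, rfl⟩ := hG.split x hx
  rcases mem_sylow_cases (D := D) hp with ⟨i, rfl⟩ | ⟨i, rfl⟩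
  · exact ⟨k, hk, Or.inl ⟨i, rfl⟩⟩
  · exact ⟨k, hk, Or.inr ⟨i, rfl⟩⟩

theorem Gen.inf_sylow {x : G} (hx : x ∈ K) (hxS : x ∈ (S : Subgroup G)) : x = 1 := by
  obtain ⟨n, hn⟩ := S.2 ⟨x, hxS⟩
  exact orderOf_eq_one_iff.1 (Nat.eq_one_of_dvd_coprimes
    ((Nat.coprime_two_left.2 (odd_orderOf_of_mem hG.odd hx)).pow_left n)
    (orderOf_dvd_of_pow_eq_one (congrArg Subtype.val hn :)) dvd_rfl)

theorem Gen.refl_mul_self {k : G} (hk : k ∈ K) (i : ℤ) : k * dt S D i * (k * dt S D i) = 1 := by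
  have h := hG.dt_inv hk i
  rw [invol_inv (dt_orderOf i)] at h
  rw [show k * dt S D i * (k * dt S D i) = k * (dt S D i * k * dt S D i) by group, h, mul_inv_cancel]

theorem Gen.refl_orderOf {k : G} (hk : k ∈ K) (i : ℤ) : orderOf (k * dt S D i) = 2 := by
  refine invol_of_mul_self (hG.refl_mul_self hk i) fun e => ?_
  have h1 : dt S D i ∈ K := by rw [eq_inv_of_mul_eq_one_right e]; exact inv_mem hk
  exact invol_ne_one (dt_orderOf i) (hG.inf_sylow h1 (dt_mem i))

/-- The odd elements of the centraliser lie in `K`. -/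
theorem Gen.odd_mem {x : G} (hx : x ∈ centralizer ({dz S D} : Set G)) (ho : Odd (orderOf x)) :
    x ∈ K := by
  obtain ⟨k, hk, ⟨i, rfl⟩ | ⟨i, rfl⟩⟩ := hG.cases_cent hx
  · obtain ⟨n, hn⟩ : ∃ n, n = orderOf (k * rr ^ i) := ⟨_, rfl⟩
    rw [← hn] at ho
    have h1 : k ^ n * (rr ^ i) ^ n = 1 := by
      rw [← (hG.rot_zpow hk i).symm.mul_pow, hn, pow_orderOf_eq_one]
    have h2 : (rr ^ i) ^ n = 1 := by
      refine hG.inf_sylow ?_ (pow_mem (zpow_mem (SetLike.coe_mem _) _) _)
      rw [eq_inv_of_mul_eq_one_right h1]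
      exact inv_mem (pow_mem hk _)
    obtain ⟨e, he⟩ := S.2 ⟨rr ^ i, zpow_mem (SetLike.coe_mem _) _⟩
    have h3 : rr ^ i = 1 := orderOf_eq_one_iff.1 (Nat.eq_one_of_dvd_coprimes
      ((Nat.coprime_two_left.2 ho).pow_left e)
      (orderOf_dvd_of_pow_eq_one (congrArg Subtype.val he :)) (orderOf_dvd_of_pow_eq_one h2))
    rw [h3, mul_one]
    exact hk
  · rw [hG.refl_orderOf hk i] at ho
    exact absurd ho (by decide)

/-- The involutions of the centraliser. -/
theorem Gen.invol_cases_cent {x : G} (hx : x ∈ centralizer ({dz S D} : Set G)) (h2 : orderOf x = 2) :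
    x = dz S D ∨ ∃ k ∈ K, ∃ i : ℤ, x = k * dt S D i := by
  obtain ⟨k, hk, ⟨i, rfl⟩ | ⟨i, rfl⟩⟩ := hG.cases_cent hx
  · refine Or.inl ?_
    have h1 := invol_mul_self h2
    have hc := hG.rot_zpow hk i
    rw [show k * rr ^ i * (k * rr ^ i) = k * (rr ^ i * k) * rr ^ i by group, hc.eq,
      show k * (k * rr ^ i) * rr ^ i = k * k * (rr ^ i * rr ^ i) by group] at h1
    have hk2 : k * k = 1 := hG.inf_sylow (mul_mem hk hk) (by
      rw [eq_inv_of_mul_eq_one_left h1]
      exact inv_mem (mul_mem (zpow_mem (SetLike.coe_mem _) _) (zpow_mem (SetLike.coe_mem _) _)))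
    have hk1 : k = 1 := eq_one_of_sq (odd_orderOf_of_mem hG.odd hk) hk2
    rw [hk1, one_mul] at h2 ⊢
    have ho : orderOf (D.r ^ i) = 2 := by rw [← Subgroup.orderOf_coe, SubgroupClass.coe_zpow]; exact h2
    rw [← SubgroupClass.coe_zpow, D.eq_z_of_zpow ho]
  · exact Or.inr ⟨k, hk, i, rfl⟩

theorem Gen.refl_inv {k a : G} (hk : k ∈ K) (ha : a ∈ K) (i : ℤ) :
    k * dt S D i * a * (k * dt S D i)⁻¹ = a⁻¹ := by
  rw [show k * dt S D i * a * (k * dt S D i)⁻¹ = k * (dt S D i * a * (dt S D i)⁻¹) * k⁻¹ by group,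
    hG.dt_inv ha i, (hG.comm hk (inv_mem ha)).eq, mul_inv_cancel_right]

/-- The other involutions of the centraliser invert `K`. -/
theorem Gen.invol_inv_K {x a : G} (hx : x ∈ centralizer ({dz S D} : Set G)) (h2 : orderOf x = 2)
    (hne : x ≠ dz S D) (ha : a ∈ K) : x * a * x⁻¹ = a⁻¹ := by
  obtain ⟨k, hk, i, rfl⟩ := (hG.invol_cases_cent hx h2).resolve_left hne
  exact hG.refl_inv hk ha i

/-- Subgroups of `K` are normalised by the centraliser. -/
theorem Gen.cent_normalizes {Y : Subgroup G} (hY : Y ≤ K) :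
    centralizer ({dz S D} : Set G) ≤ normalizer (Y : Set G) := by
  intro x hx
  refine CfsgLib.Invol.mem_normalizer_iff_of_finite fun y hy => ?_
  obtain ⟨k, hk, ⟨i, rfl⟩ | ⟨i, rfl⟩⟩ := hG.cases_cent hx
  · rw [show k * rr ^ i * y * (k * rr ^ i)⁻¹ = k * (rr ^ i * y * (rr ^ i)⁻¹) * k⁻¹ by group,
      (hG.rot_zpow (hY hy) i).eq, mul_inv_cancel_right, (hG.comm hk (hY hy)).eq, mul_inv_cancel_right]
    exact hy
  · rw [hG.refl_inv hk (hY hy) i]
    exact inv_mem hy

theorem Gen.card_cent : Nat.card (centralizer ({dz S D} : Set G)) = Nat.card K * (4 * D.h) := by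
  rw [← card_sylow, ← Nat.card_prod]
  refine (Nat.card_congr (Equiv.ofBijective
    (fun p : K × (S : Subgroup G) => (⟨(p.1 : G) * p.2,
      mul_mem (hG.le_cent p.1.2) (sylow_le_cent p.2.2)⟩ : centralizer ({dz S D} : Set G))) ⟨?_, ?_⟩)).symm
  · intro a b h
    have h' : (a.1 : G) * a.2 = b.1 * b.2 := congrArg Subtype.val h
    have h1 : (b.1 : G)⁻¹ * a.1 = 1 := by
      refine hG.inf_sylow (mul_mem (inv_mem b.1.2) a.1.2) ?_
      rw [show (b.1 : G)⁻¹ * a.1 = b.2 * (a.2 : G)⁻¹ by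
        rw [eq_mul_inv_iff_mul_eq, mul_assoc, h', inv_mul_cancel_left]]
      exact mul_mem b.2.2 (inv_mem a.2.2)
    have h2 : (a.1 : G) = b.1 := (inv_mul_eq_one.1 h1).symm
    exact Prod.ext (Subtype.ext h2) (Subtype.ext (by rw [h2] at h'; exact mul_left_cancel h'))
  · rintro ⟨x, hx⟩
    obtain ⟨k, hk, p, hp, rfl⟩ := hG.split x hx
    exact ⟨(⟨k, hk⟩, ⟨p, hp⟩), rfl⟩

/-- The centraliser of a four-group `⟨z, dt j⟩`. -/
theorem Gen.cent_pair (j : ℤ) : centralizer ({dz S D, dt S D j} : Set G) = dU S D j := by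
  refine le_antisymm (fun x hx => ?_) ?_
  · rw [mem_centralizer_iff] at hx
    have hxc : x ∈ centralizer ({dz S D} : Set G) :=
      mem_centralizer_singleton_iff.2 (hx _ (Or.inl rfl)).symm
    have hxt : dt S D j * x = x * dt S D j := hx _ (Or.inr rfl)
    obtain ⟨k, hk, p, hp, rfl⟩ := hG.split x hxc
    -- `t` inverts `k` and normalises the Sylow subgroup
    have h1 : dt S D j * (k * p) * (dt S D j)⁻¹ = k * p := by rw [hxt, mul_inv_cancel_right]
    rw [show dt S D j * (k * p) * (dt S D j)⁻¹ =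
      (dt S D j * k * (dt S D j)⁻¹) * (dt S D j * p * (dt S D j)⁻¹) by group, hG.dt_inv hk j] at h1
    have hk2 : k * k = 1 := by
      refine hG.inf_sylow (mul_mem hk hk) ?_
      rw [show k * k = (dt S D j * p * (dt S D j)⁻¹) * p⁻¹ by
        rw [eq_mul_inv_iff_mul_eq, mul_assoc, ← h1]; group]
      exact mul_mem (mul_mem (mul_mem (dt_mem j) hp) (inv_mem (dt_mem j))) (inv_mem hp)
    have hk1 : k = 1 := eq_one_of_sq (odd_orderOf_of_mem hG.odd hk) hk2
    rw [hk1, one_mul] at hxt ⊢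
    rcases D.cases ⟨p, hp⟩ with ⟨i, hi⟩ | ⟨i, hi⟩
    all_goals
      refine ⟨⟨p, hp⟩, ?_, rfl⟩
      have he : (D.r ^ j * D.s) * (⟨p, hp⟩ : (S : Subgroup G)) = ⟨p, hp⟩ * (D.r ^ j * D.s) :=
        Subtype.ext hxt
      rw [hi] at he ⊢
    · rw [D.zy_mul_z, ← mul_assoc, ← zpow_add, mul_left_inj, D.zpow_eq_iff] at he
      obtain ⟨e, he⟩ := he
      rcases Int.even_or_odd' e with ⟨f, rfl | rfl⟩
      · refine Or.inl ?_
        rw [D.zpow_eq_one_iff]
        exact ⟨f, by linarith⟩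
      · refine Or.inr (Or.inl ?_)
        rw [DihData.z, D.zpow_eq_iff]
        exact ⟨-f, by linarith⟩
    · rw [D.zy_mul_zy, D.zy_mul_zy, D.zpow_eq_iff] at he
      obtain ⟨e, he⟩ := he
      rcases Int.even_or_odd' e with ⟨f, rfl | rfl⟩
      · refine Or.inr (Or.inr (Or.inl ?_))
        rw [mul_left_inj, D.zpow_eq_iff]
        exact ⟨-f, by linarith⟩
      · refine Or.inr (Or.inr (Or.inr ?_))
        rw [DihData.z, ← mul_assoc, ← zpow_add, mul_left_inj, D.zpow_eq_iff]
        exact ⟨-f, by linarith⟩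
  · rintro _ ⟨a, ha, rfl⟩
    rw [mem_centralizer_iff]
    have hab : Commute D.z (D.r ^ j * D.s) := D.commute_z _
    have hz : Commute a D.z := (D.commute_z a).symm
    have ht : Commute a (D.r ^ j * D.s) := by
      rcases ha with rfl | rfl | rfl | rfl
      exacts [Commute.one_left _, hab, Commute.refl _, hab.mul_left (Commute.refl _)]
    rintro y (rfl | rfl)
    · exact congrArg Subtype.val hz.symm.eq
    · exact congrArg Subtype.val ht.symm.eq

theorem Gen.card_cent_pair (j : ℤ) :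
    Nat.card (centralizer ({dz S D, dt S D j} : Set G)) = 4 := by
  rw [hG.cent_pair, (dU_isKleinFour S D j).card_four]

/-- A second involution commuting with an involution inverts the odd elements centralised by it. -/
theorem Gen.inv_of_commute (h1 : OneClass G) {i j x : G} (hi : orderOf i = 2) (hj : orderOf j = 2)
    (hne : i ≠ j) (hij : Commute i j) (hx : Odd (orderOf x)) (hxi : Commute x i) :
    j * x * j⁻¹ = x⁻¹ := by
  obtain ⟨g, rfl⟩ := isConj_iff.1 (h1 _ i (dz_orderOf (S := S) (D := D)) hi)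
  have hc : ∀ y : G, Commute y (g * dz S D * g⁻¹) → g⁻¹ * y * g ∈ centralizer ({dz S D} : Set G) := by
    intro y hy
    rw [mem_centralizer_singleton_iff]
    calc g⁻¹ * y * g * dz S D = g⁻¹ * (y * (g * dz S D * g⁻¹)) * g := by group
      _ = g⁻¹ * ((g * dz S D * g⁻¹) * y) * g := by rw [hy.eq]
      _ = dz S D * (g⁻¹ * y * g) := by group
  have h := hG.invol_inv_K (hc j hij.symm) (by rw [orderOf_conj_inv]; exact hj)
    (fun e => hne (by rw [← e]; group))
    (hG.odd_mem (hc x hxi) (by rw [orderOf_conj_inv]; exact hx))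
  calc j * x * j⁻¹ = g * ((g⁻¹ * j * g) * (g⁻¹ * x * g) * (g⁻¹ * j * g)⁻¹) * g⁻¹ := by group
    _ = g * (g⁻¹ * x * g)⁻¹ * g⁻¹ := by rw [h]
    _ = x⁻¹ := by group

/-- The odd elements centralised by an involution commute. -/
theorem Gen.odd_commute (h1 : OneClass G) {i x y : G} (hi : orderOf i = 2) (hx : Odd (orderOf x))
    (hy : Odd (orderOf y)) (hxi : Commute x i) (hyi : Commute y i) : Commute x y := by
  obtain ⟨g, rfl⟩ := isConj_iff.1 (h1 _ i (dz_orderOf (S := S) (D := D)) hi)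
  have hc : ∀ y : G, Odd (orderOf y) → Commute y (g * dz S D * g⁻¹) → g⁻¹ * y * g ∈ K := by
    intro y hyo hy
    refine hG.odd_mem ?_ (by rw [orderOf_conj_inv]; exact hyo)
    rw [mem_centralizer_singleton_iff]
    calc g⁻¹ * y * g * dz S D = g⁻¹ * (y * (g * dz S D * g⁻¹)) * g := by group
      _ = g⁻¹ * ((g * dz S D * g⁻¹) * y) * g := by rw [hy.eq]
      _ = dz S D * (g⁻¹ * y * g) := by group
  have h := (hG.comm (hc x hx hxi) (hc y hy hyi)).eq
  calc x * y = g * ((g⁻¹ * x * g) * (g⁻¹ * y * g)) * g⁻¹ := by group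
    _ = g * ((g⁻¹ * y * g) * (g⁻¹ * x * g)) * g⁻¹ := by rw [h]
    _ = y * x := by group

/-- Two commuting involutions have no common nontrivial odd fixed point. -/
theorem Gen.eq_one_of_two (h1 : OneClass G) {i j x : G} (hi : orderOf i = 2) (hj : orderOf j = 2)
    (hne : i ≠ j) (hij : Commute i j) (hx : Odd (orderOf x)) (hxi : Commute x i) (hxj : Commute x j) :
    x = 1 := by
  have h := hG.inv_of_commute h1 hi hj hne hij hx hxi
  rw [← hxj.eq, mul_inv_cancel_right] at h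
  refine eq_one_of_sq hx ?_
  nth_rewrite 2 [h]
  exact mul_inv_cancel x

/-- Involutions centralising a common nontrivial odd element are conjugate by their product. -/
theorem Gen.conj_of_common (h1 : OneClass G) {a b x : G} (ha : orderOf a = 2) (hb : orderOf b = 2)
    (hx : Odd (orderOf x)) (hx1 : x ≠ 1) (hxa : Commute x a) (hxb : Commute x b) :
    ∃ d ∈ zpowers (a * b), d * a * d⁻¹ = b := by
  refine exists_conj_of_odd ha hb (Nat.not_even_iff_odd.1 fun hev => hx1 ?_)
  have hz := orderOf_pow_half hev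
  have hxz : Commute x ((a * b) ^ (orderOf (a * b) / 2)) := (hxa.mul_right hxb).pow_right _
  have hza := commute_pow_half_left ha hb hev
  have hzb := commute_pow_half_right ha hb hev
  by_cases e : (a * b) ^ (orderOf (a * b) / 2) = a
  · rw [e] at hzb
    refine hG.eq_one_of_two h1 ha hb (fun hab => ?_) hzb hx hxa hxb
    rw [hab, invol_mul_self hb, orderOf_one] at hev
    simp at hev
  · exact hG.eq_one_of_two h1 hz ha e hza hx hxz hxa

end CfsgLib.Recog.GenDih
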