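import Cfsg.Agent.Lib.Recog.GenDihedral.DihedralFacts
import Cfsg.Agent.Lib.Recog.GenDihedral.Basic
import Cfsg.Agent.Lib.Recog.GenDihedral.ReduceBase
import Cfsg.Agent.Lib.BlockA.DihedralRotations
import Cfsg.Agent.Lib.Transfer.Frobenius

/-!
The dihedral data of a normal subgroup, and generalized dihedral centralizer data from an abelian
subgroup outside which all elements are involutions.
-/

set_option autoImplicit false
set_option linter.unusedSectionVars false

namespace CfsgLib.Recog.GenDihedral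

open Subgroup CfsgLib.Invol CfsgLib.BlockA.DihedralBlock

universe u

variable {G : Type u} [Group G] [Finite G]

/-- The dihedral data of a non-solvable normal subgroup. -/
theorem exists_subData (T : Sylow 2 G) (E : DihData (T : Subgroup G)) (L : Subgroup G) [L.Normal]
    (hns : ¬ Group.IsSolvable L) :
    ∃ (P : Sylow 2 L) (D : DihData (P : Subgroup L)) (j : ℤ),
      (P : Subgroup L) = (T : Subgroup G).subgroupOf L ∧ ((dz P D : L) : G) = dz T E ∧
      (((D.r : (P : Subgroup L)) : L) : G) ∈ zpowers (rot T E) ∧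
      (((D.s : (P : Subgroup L)) : L) : G) = dt T E j ∧
      ∀ t ∈ (T : Subgroup G), t ∈ L ∨ dt T E (j + 1) * t ∈ L := by
  classical
  obtain ⟨P, hP⟩ := CfsgLib.Transfer.exists_sylow_eq_subgroupOf T L
  set R := L.subgroupOf (T : Subgroup G) with hR
  have hRnc : ¬ IsCyclic R := by
    intro hc
    refine hns (isSolvable_of_cyclic_sylow P ?_)
    let f : (P : Subgroup L) →* R :=
      MonoidHom.mk' (fun p => ⟨⟨((p : L) : G), hP.le p.2⟩, (p : L).2⟩) (fun a b => rfl)
    exact isCyclic_of_injective f fun a b h => Subtype.ext (Subtype.ext (congrArg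
      (fun z : R => ((z : (T : Subgroup G)) : G)) h))
  obtain ⟨j, hr2, hj, htop, hcov⟩ := normal_noncyclic E R hRnc
  let g : R ≃ (P : Subgroup L) :=
    { toFun := fun x => ⟨⟨((x : (T : Subgroup G)) : G), x.2⟩, hP.ge (x : (T : Subgroup G)).2⟩
      invFun := fun p => ⟨⟨((p : L) : G), hP.le p.2⟩, (p : L).2⟩
      left_inv := fun x => rfl
      right_inv := fun p => rfl }
  have hcardP : Nat.card (P : Subgroup L) = Nat.card R := (Nat.card_congr g).symm
  obtain ⟨m, e, hm0, hmpow, hcard, heR, heo, hez⟩ : ∃ (m : ℕ) (e : ℤ), 0 < m ∧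
      (∃ k : ℕ, m = 2 ^ k) ∧ Nat.card R = 4 * m ∧ E.r ^ e ∈ R ∧ orderOf (E.r ^ e) = 2 * m ∧
      (E.r ^ e) ^ m = E.z := by
    by_cases hx : E.r ^ (j + 1) * E.s ∈ R
    · refine ⟨E.h, 1, E.h_pos, E.h_pow, ?_, ?_, ?_, ?_⟩
      · rw [htop hx, card_top, E.card_eq]
      · rw [htop hx]; exact mem_top _
      · rw [zpow_one, E.orderOf_r]
      · rw [zpow_one, ← zpow_natCast]; rfl
    · have hidx : R.index = 2 := by
        rw [index_eq_two_iff]
        refine ⟨E.r ^ (j + 1) * E.s, fun b => ?_⟩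
        by_cases hb : b ∈ R
        · exact Or.inr ⟨hb, fun h => hx ((mul_mem_cancel_left hb).1 h)⟩
        · refine Or.inl ⟨?_, hb⟩
          have h1 := (hcov b).resolve_left hb
          have := (inferInstance : R.Normal).conj_mem _ h1 (E.r ^ (j + 1) * E.s)⁻¹
          rwa [inv_inv, inv_mul_cancel_left] at this
      have hc := R.card_mul_index
      rw [hidx, E.card_eq] at hc
      have hh2 : 2 ≤ E.h := by
        by_contra hlt
        have h1 : Nat.card R = 2 := by have := E.h_pos; omega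
        exact hRnc (isCyclic_of_prime_card (p := 2) h1)
      obtain ⟨k, hk⟩ := E.h_pow
      rcases k with _ | k
      · simp at hk; omega
      have hk' : E.h = 2 * 2 ^ k := by rw [hk]; ring
      refine ⟨2 ^ k, 2, by positivity, ⟨k, rfl⟩, by omega, hr2, ?_, ?_⟩
      · rw [show (2 : ℤ) = ((2 : ℕ) : ℤ) from rfl, zpow_natCast, orderOf_pow, E.orderOf_r,
          Nat.gcd_eq_right (Dvd.intro _ rfl), Nat.mul_div_cancel_left _ two_pos, hk']
      · show (E.r ^ (2 : ℤ)) ^ 2 ^ k = E.r ^ (E.h : ℤ)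
        rw [← zpow_natCast (E.r ^ (2 : ℤ)), ← zpow_mul, hk']
        norm_num
  have hσP : (⟨((E.r ^ e : (T : Subgroup G)) : G), heR⟩ : L) ∈ (P : Subgroup L) :=
    hP.ge (SetLike.coe_mem (E.r ^ e))
  have hτP : (⟨((E.r ^ j * E.s : (T : Subgroup G)) : G), hj⟩ : L) ∈ (P : Subgroup L) :=
    hP.ge (SetLike.coe_mem (E.r ^ j * E.s))
  obtain ⟨D, hDh, hDr, hDs⟩ := exists_data_of_elems P hm0 hmpow (hcardP.trans hcard) hσP hτP
    (by rw [← Subgroup.orderOf_coe]; exact (Subgroup.orderOf_coe (E.r ^ e)).trans heo)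
    (by rw [← Subgroup.orderOf_coe]; exact (Subgroup.orderOf_coe (E.r ^ j * E.s)).trans (E.orderOf_zy j))
    (Subtype.ext (show ((E.r ^ j * E.s : (T : Subgroup G)) : G) * ((E.r ^ e : (T : Subgroup G)) : G) *
        ((E.r ^ j * E.s : (T : Subgroup G)) : G)⁻¹ = ((E.r ^ e : (T : Subgroup G)) : G)⁻¹ by
      rw [← Subgroup.coe_inv, ← Subgroup.coe_inv, ← Subgroup.coe_mul, ← Subgroup.coe_mul, E.zy_inv,
        E.zy_mul_z, E.zy_mul_zy, ← zpow_neg, show j - e - j = -e by ring]))
    (fun h => by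
      obtain ⟨i, hi⟩ := mem_zpowers_iff.1 h
      have h' := congrArg Subtype.val hi
      simp only [SubgroupClass.coe_zpow] at h'
      rw [← SubgroupClass.coe_zpow] at h'
      exact E.ne_zpow j (e * i) (by rw [zpow_mul]; exact (Subtype.ext h').symm))
  refine ⟨P, D, j, hP, ?_, ?_, congrArg Subtype.val hDs, fun t ht => hcov ⟨t, ht⟩⟩
  · have h1 : ((D.z : (P : Subgroup L)) : L) = ((D.r : (P : Subgroup L)) : L) ^ D.h := by
      rw [DihData.z, zpow_natCast, SubmonoidClass.coe_pow]
    show ((((D.z : (P : Subgroup L)) : L)) : G) = _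
    rw [h1, hDr, hDh, SubmonoidClass.coe_pow]
    show ((E.r ^ e : (T : Subgroup G)) : G) ^ m = _
    rw [← SubmonoidClass.coe_pow, hez]
  · rw [hDr]
    exact mem_zpowers_iff.2 ⟨e, by simp⟩

/-- Generalized dihedral data from an abelian subgroup. -/
theorem exists_gen (P : Sylow 2 G) (D : DihData (P : Subgroup G)) (A : Subgroup G)
    (hle : A ≤ centralizer ({dz P D} : Set G)) (hcomm : ∀ a ∈ A, ∀ b ∈ A, a * b = b * a)
    (hz : dz P D ∈ A) (hsq : ∀ x ∈ centralizer ({dz P D} : Set G), x ∉ A → x * x = 1)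
    (hone : ∀ a ∈ A, orderOf a = 2 → a = dz P D) :
    ∃ K : Subgroup G, CfsgLib.Recog.GenDih.Gen P D K := by
  classical
  have : Fact (Nat.Prime 2) := ⟨Nat.prime_two⟩
  have hr : rot P D ∈ A := by
    by_contra hr
    have h1 := hsq _ (sylow_le_centralizer_dz P D (rot_mem P D)) hr
    have hh : D.h = 1 := by
      have h2 : orderOf (rot P D) ∣ 2 := orderOf_dvd_of_pow_eq_one (by rw [pow_two]; exact h1)
      rw [Subgroup.orderOf_coe, D.orderOf_r] at h2
      have := Nat.le_of_dvd two_pos h2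
      have := D.h_pos
      omega
    refine hr ?_
    rw [← pow_one (rot P D), ← hh, rot_pow_h]
    exact hz
  have hs : refl P D ∉ A := by
    intro hs
    have h := hone _ hs (by rw [Subgroup.orderOf_coe, D.orderOf_s])
    exact D.s_notMem ⟨D.h, (Subtype.ext h).symm⟩
  have hodd : ∀ a b : G, a ∈ A → b ∈ A → Odd (orderOf a) → Odd (orderOf b) →
      Odd (orderOf (a * b)) := fun a b ha hb oa ob =>
    (oa.mul ob).of_dvd_nat (Commute.orderOf_mul_dvd_mul_orderOf (hcomm a ha b hb))
  let K : Subgroup G :=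
    { carrier := {a | a ∈ A ∧ Odd (orderOf a)}
      one_mem' := ⟨one_mem A, by rw [orderOf_one]; exact odd_one⟩
      mul_mem' := fun {a b} ha hb => ⟨mul_mem ha.1 hb.1, hodd a b ha.1 hb.1 ha.2 hb.2⟩
      inv_mem' := fun {a} ha => ⟨inv_mem ha.1, by rw [orderOf_inv]; exact ha.2⟩ }
  have hKodd : Odd (Nat.card K) := by
    rw [← Nat.not_even_iff_odd, even_iff_two_dvd]
    intro h2
    obtain ⟨x, hx⟩ := exists_prime_orderOf_dvd_card' 2 h2
    have h3 : Odd (orderOf (x : G)) := x.2.2
    rw [Subgroup.orderOf_coe, hx] at h3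
    exact absurd h3 (by decide)
  have hinv : ∀ k ∈ A, refl P D * k * (refl P D)⁻¹ = k⁻¹ := by
    intro k hk
    have hsC : refl P D ∈ centralizer ({dz P D} : Set G) :=
      sylow_le_centralizer_dz P D (SetLike.coe_mem _)
    have h1 := hsq _ (mul_mem hsC (hle hk)) fun e => hs ((mul_mem_cancel_right hk).1 e)
    rw [inv_eq_of_mul_eq_one_right (hsq _ hsC hs)]
    exact eq_inv_of_mul_eq_one_left (by rw [← h1]; group)
  -- the elements of the abelian part
  have hsplitA : ∀ a ∈ A, ∃ k ∈ K, ∃ p ∈ (P : Subgroup G), a = k * p := by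
    intro a ha
    obtain ⟨e, m, hm, hom⟩ :=
      Nat.exists_eq_pow_mul_and_not_dvd (orderOf_pos a).ne' 2 (by norm_num)
    obtain ⟨c, hc1, hdiv⟩ : ∃ c : ℕ, m ∣ c ∧ c ≡ 1 [MOD 2 ^ e] := by
      have hco : Nat.Coprime m (2 ^ e) :=
        (Nat.coprime_two_right.2 (Nat.not_even_iff_odd.1 fun h => hm (even_iff_two_dvd.1 h))).pow_right e
      obtain ⟨c, h1, h2⟩ := Nat.chineseRemainder hco 0 1
      exact ⟨c, (Nat.modEq_zero_iff_dvd).1 h1, h2⟩
    have hp : (a ^ c) ^ 2 ^ e = 1 := by
      obtain ⟨d, rfl⟩ := hc1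
      rw [← pow_mul, show m * d * 2 ^ e = 2 ^ e * m * d by ring, ← hom, pow_mul, pow_orderOf_eq_one,
        one_pow]
    have hk : a * (a ^ c)⁻¹ ∈ K := by
      refine ⟨mul_mem ha (inv_mem (pow_mem ha _)), ?_⟩
      refine Odd.of_dvd_nat (Nat.not_even_iff_odd.1 fun h => hm (even_iff_two_dvd.1 h))
        (orderOf_dvd_of_pow_eq_one ?_)
      have hcm : Commute a (a ^ c)⁻¹ := ((Commute.refl a).pow_right c).inv_right
      rw [hcm.mul_pow, inv_pow, ← pow_mul]
      rw [mul_inv_eq_one, pow_eq_pow_iff_modEq, hom]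
      simpa using (hdiv.mul_right' m).symm
    refine ⟨_, hk, a ^ c, ?_, by rw [inv_mul_cancel_right]⟩
    -- a 2-element of the abelian part lies in the Sylow subgroup
    have hzp : IsPGroup 2 (zpowers (a ^ c)) := by
      obtain ⟨i, -, hi⟩ := (Nat.dvd_prime_pow Nat.prime_two).1 (orderOf_dvd_of_pow_eq_one hp)
      exact IsPGroup.of_card (n := i) (by rw [Nat.card_zpowers, hi])
    have hnorm : (P : Subgroup G) ≤ normalizer (zpowers (a ^ c) : Set G) := by
      intro x hx
      refine mem_normalizer_iff_of_finite fun y hy => ?_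
      obtain ⟨i, rfl⟩ := mem_zpowers_iff.1 hy
      rcases D.cases ⟨x, hx⟩ with ⟨l, hl⟩ | ⟨l, hl⟩
      · have hxA : x ∈ A := by
          rw [show x = rot P D ^ l by simpa using congrArg Subtype.val hl]
          exact zpow_mem hr l
        rw [hcomm x hxA _ (zpow_mem (pow_mem ha c) i), mul_inv_cancel_right]
        exact zpow_mem (mem_zpowers _) i
      · have hx' : x = rot P D ^ l * refl P D := by simpa using congrArg Subtype.val hl
        have hri := zpow_mem hr l
        have hai := zpow_mem (pow_mem ha c) i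
        rw [hx', show rot P D ^ l * refl P D * (a ^ c) ^ i * (rot P D ^ l * refl P D)⁻¹ =
          rot P D ^ l * (refl P D * (a ^ c) ^ i * (refl P D)⁻¹) * (rot P D ^ l)⁻¹ by group,
          hinv _ hai, hcomm _ hri _ (inv_mem hai), mul_inv_cancel_right]
        exact inv_mem (zpow_mem (mem_zpowers _) i)
    have hsup := hzp.to_sup_of_normal_left' P.2 hnorm
    exact (P.is_maximal' hsup le_sup_right).le (mem_sup_left (mem_zpowers _))
  refine ⟨K, hKodd, fun k hk => hcomm _ hr k hk.1, fun k hk => hinv k hk.1, fun x hx => ?_⟩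
  by_cases hxA : x ∈ A
  · exact hsplitA x hxA
  · have hxs : x * refl P D ∈ A := by
      by_contra hno
      have hsC : refl P D ∈ centralizer ({dz P D} : Set G) :=
        sylow_le_centralizer_dz P D (SetLike.coe_mem _)
      -- three outside elements would invert and centralize the rotations
      have hinvr : ∀ y ∈ centralizer ({dz P D} : Set G), y ∉ A → ∀ a ∈ A, y * a * y⁻¹ = a⁻¹ := by
        intro y hy hyA a ha
        have h1 := hsq _ (mul_mem hy (hle ha)) fun e => hyA ((mul_mem_cancel_right ha).1 e)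
        rw [inv_eq_of_mul_eq_one_right (hsq _ hy hyA)]
        exact eq_inv_of_mul_eq_one_left (by rw [← h1]; group)
      have hexp : ∀ a ∈ A, a * a = 1 := fun a ha => by
        have h1 := hinvr _ (mul_mem hx hsC) hno a ha
        rw [show x * refl P D * a * (x * refl P D)⁻¹ = x * (refl P D * a * (refl P D)⁻¹) * x⁻¹ by
          group, hinv a ha, ← conj_inv, hinvr x hx hxA a ha, inv_inv] at h1
        exact mul_eq_one_iff_eq_inv.2 h1
      -- then the abelian part is generated by the central involution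
      have hA2 : ∀ a ∈ A, a = 1 ∨ a = dz P D := fun a ha =>
        or_iff_not_imp_left.2 fun h1 => hone a ha (invol_of_mul_self (hexp a ha) h1)
      have hxc : x * refl P D = refl P D * x := by
        have h1 := hsq _ (mul_mem hx hsC) hno
        rw [mul_eq_one_iff_eq_inv, mul_inv_rev, inv_eq_of_mul_eq_one_right (hsq _ hx hxA),
          inv_eq_of_mul_eq_one_right (hsq _ hsC hs)] at h1
        exact h1
      have hc : Commute x (dz P D) := mem_centralizer_singleton_iff.1 hx
      have hsz : Commute (refl P D) (dz P D) := mem_centralizer_singleton_iff.1 hsC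
      have hx2 : orderOf x = 2 := invol_of_mul_self (hsq _ hx hxA) fun e => hxA (e ▸ one_mem A)
      refine no_eight P D (a := dz P D) (b := refl P D) (c := x) ((Subgroup.orderOf_coe _).trans D.orderOf_z)
        ((Subgroup.orderOf_coe _).trans D.orderOf_s) hx2 hsz.symm hc.symm hxc.symm
        (fun e => hs (e ▸ hz)) (fun e => hxA (e ▸ hz)) (fun e => hno ?_) (fun e => hno ?_)
      · rw [e, invol_mul_self ((Subgroup.orderOf_coe _).trans D.orderOf_s)]; exact one_mem A
      · rw [e, mul_assoc, invol_mul_self ((Subgroup.orderOf_coe _).trans D.orderOf_s), mul_one]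
        exact hz
    obtain ⟨k, hk, p, hp, he⟩ := hsplitA _ hxs
    refine ⟨k, hk, p * (refl P D)⁻¹, mul_mem hp (inv_mem (SetLike.coe_mem _)), ?_⟩
    rw [← mul_assoc, ← he, mul_inv_cancel_right]

end CfsgLib.Recog.GenDihedral
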