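import Cfsg.Agent.Lib.Recog.GenDihedral.OneClass
import Cfsg.Agent.Lib.Recog.GenDihedral.Basic
import Mathlib.GroupTheory.FixedPointFree

/-!
In a simple group with dihedral Sylow 2-subgroup, an abelian odd complement of the centralizer of an
involution centralized by the rotations is inverted by the reflections.
-/

set_option autoImplicit false
set_option linter.unusedSectionVars false

namespace CfsgLib.Recog.GenDihedral

open Subgroup CfsgLib.Invol CfsgLib.BlockA.DihedralBlock

universe u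

/-- A fixed-point-free involution inverts a subgroup it normalizes. -/
theorem inverts_of_no_fixed {G : Type u} [Group G] [Finite G] {R : Subgroup G} {a : G}
    (ha : a * a = 1) (hn : ∀ r ∈ R, a * r * a⁻¹ ∈ R)
    (hf : ∀ r ∈ R, a * r * a⁻¹ = r → r = 1) : ∀ r ∈ R, a * r * a⁻¹ = r⁻¹ := by
  let f : R →* R := MonoidHom.mk' (fun r => ⟨a * r * a⁻¹, hn r r.2⟩) fun x y => Subtype.ext (by
    show a * ((x : G) * y) * a⁻¹ = a * x * a⁻¹ * (a * y * a⁻¹)
    group)
  have hfree : MonoidHom.FixedPointFree f := fun r hr => Subtype.ext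
    (hf r r.2 (congrArg Subtype.val hr))
  have hinv : Function.Involutive f := fun r => Subtype.ext (by
    show a * (a * r * a⁻¹) * a⁻¹ = r
    rw [show a * (a * r * a⁻¹) * a⁻¹ = (a * a) * r * (a * a)⁻¹ by group, ha]
    group)
  exact fun r hr => congrArg Subtype.val (congrFun (hfree.coe_eq_inv_of_involutive hinv) ⟨r, hr⟩)

/-- An element of odd order with a 2-power power in a subgroup lies in it. -/
theorem mem_of_pow_two_pow {G : Type u} [Group G] {K : Subgroup G} {v : G} {k : ℕ}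
    (ho : Odd (orderOf v)) (h : v ^ 2 ^ k ∈ K) : v ∈ K := by
  obtain ⟨m, hm⟩ := exists_pow_eq_self_of_coprime
    (x := v) (n := 2 ^ k) ((Nat.coprime_two_left.2 ho).pow_left k)
  exact hm ▸ pow_mem h m

/-- The odd elements of a product with a normalizing 2-subgroup. -/
theorem odd_mem_of_split {G : Type u} [Group G] [Finite G] {K P : Subgroup G} (hP : IsPGroup 2 P)
    (hn : ∀ p ∈ P, ∀ x ∈ K, p * x * p⁻¹ ∈ K) {n p : G} (hnK : n ∈ K) (hp : p ∈ P)
    (ho : Odd (orderOf (n * p))) : n * p ∈ K := by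
  obtain ⟨k, hk⟩ := hP ⟨p, hp⟩
  have key : ∀ m : ℕ, (n * p) ^ m * (p ^ m)⁻¹ ∈ K := by
    intro m
    induction m with
    | zero => simp
    | succ m ih =>
      have h1 := mul_mem ih (hn _ (pow_mem hp m) n hnK)
      rwa [show (n * p) ^ m * (p ^ m)⁻¹ * (p ^ m * n * (p ^ m)⁻¹) =
        (n * p) ^ (m + 1) * (p ^ (m + 1))⁻¹ by rw [pow_succ, pow_succ]; group] at h1
  refine mem_of_pow_two_pow (k := k) ho ?_
  simpa [show p ^ 2 ^ k = 1 from congrArg Subtype.val hk] using key (2 ^ k)

variable {L : Type u} [Group L] [Finite L]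

/-- **Generalized dihedral data.** -/
theorem gen_of_rot_commute [IsSimpleGroup L] (hna : ¬ IsMulCommutative L) (P : Sylow 2 L)
    (D : DihData (P : Subgroup L)) (K : Subgroup L) (hK : Odd (Nat.card K))
    (hKc : ∀ a ∈ K, ∀ b ∈ K, Commute a b) (hKC : K ≤ centralizer ({dz P D} : Set L))
    (hKn : ∀ p ∈ (P : Subgroup L), ∀ x ∈ K, p * x * p⁻¹ ∈ K)
    (hrot : ∀ x ∈ K, Commute (rot P D) x)
    (hsplit : ∀ x ∈ centralizer ({dz P D} : Set L), ∃ k ∈ K, ∃ p ∈ (P : Subgroup L), x = k * p) :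
    CfsgLib.Recog.GenDih.Gen P D K := by
  classical
  have : Fact (Nat.Prime 2) := ⟨Nat.prime_two⟩
  set c := dz P D with hc
  have hdt : ∀ a : ℤ, dt P D a = rot P D ^ a * refl P D := CfsgLib.Recog.GenDih.dt_eq
  set W : Subgroup L := K ⊓ centralizer ({refl P D} : Set L) with hW
  have hWP : ∀ x ∈ W, ∀ p ∈ (P : Subgroup L), Commute p x := by
    intro x hx p hp
    have h1 : Commute (refl P D) x := (mem_centralizer_singleton_iff.1 hx.2).symm
    rcases CfsgLib.Recog.GenDih.mem_sylow_cases (D := D) hp with ⟨i, rfl⟩ | ⟨i, rfl⟩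
    · exact (hrot x hx.1).zpow_left i
    · rw [hdt]; exact ((hrot x hx.1).zpow_left i).mul_left h1
  suffices hWb : W = ⊥ by
    refine ⟨hK, hrot, ?_, hsplit⟩
    refine inverts_of_no_fixed (invol_mul_self ((Subgroup.orderOf_coe _).trans D.orderOf_s))
      (hKn _ (SetLike.coe_mem _)) fun r hr h => ?_
    exact mem_bot.1 (hWb.le ⟨hr, mem_centralizer_singleton_iff.2 (mul_inv_eq_iff_eq_mul.1 h).symm⟩)
  by_contra hWne
  set M := normalizer (W : Set L) with hM
  have hCM : centralizer ({c} : Set L) ≤ M := by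
    intro x hx
    refine mem_normalizer_iff_of_finite fun y hy => ?_
    obtain ⟨k, hk, p, hp, rfl⟩ := hsplit x hx
    rw [show k * p * y * (k * p)⁻¹ = k * (p * y * p⁻¹) * k⁻¹ by group, (hWP y hy p hp).eq,
      mul_inv_cancel_right, (hKc k hk y hy.1).eq, mul_inv_cancel_right]
    exact hy
  have hPM : (P : Subgroup L) ≤ M := (sylow_le_centralizer_dz P D).trans hCM
  have honeL : ∀ a b : L, orderOf a = 2 → orderOf b = 2 → IsConj a b :=
    one_class_of_no_index_two P D (CfsgLib.Invol.index_ne_two_of_simple hna)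
  have hc2 : orderOf c = 2 := CfsgLib.Recog.GenDih.dz_orderOf
  -- reflections are conjugate to the centre inside `M`
  have hmove : ∀ a : ℤ, ∃ k ∈ M, k * dt P D a * k⁻¹ = c := by
    intro a
    have hu2 : orderOf (dt P D a) = 2 := CfsgLib.Recog.GenDih.dt_orderOf a
    obtain ⟨g, hg⟩ := isConj_iff.1 (honeL (dt P D a) c hu2 hc2)
    obtain ⟨k, hk, hkP⟩ := exists_conj_extend P (fun s hs => dz_commute P D hs) hg
      (H := zpowers c) (isPGroup_zpowers_of_invol hc2) (by
        intro h hh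
        obtain ⟨i, rfl⟩ := mem_zpowers_iff.1 hh
        exact (dz_commute P D (CfsgLib.Recog.GenDih.dt_mem a)).zpow_left i)
    refine ⟨k, mem_normalizer_iff_of_finite fun w hw => ?_, hk⟩
    have hu' := hkP c (mem_zpowers c)
    set v := k * w * k⁻¹ with hv
    have hcomm : ∀ {x y : L}, Commute x y → Commute (k * x * k⁻¹) (k * y * k⁻¹) := fun {x y} h => by
      simpa using h.map (MulAut.conj k).toMonoidHom
    have hvc : Commute c v := by rw [show c = k * dt P D a * k⁻¹ from hk.symm]; exact hcomm (hWP w hw _ (CfsgLib.Recog.GenDih.dt_mem a))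
    have hvu : Commute (k * c * k⁻¹) v := hcomm (hWP w hw _ CfsgLib.Recog.GenDih.dz_mem)
    have hvo : Odd (orderOf v) := by
      rw [hv, CfsgLib.Invol.orderOf_conj_eq]
      exact hK.of_dvd_nat (Subgroup.orderOf_dvd_natCard _ hw.1)
    obtain ⟨n, hn, p, hp, e⟩ := hsplit v (mem_centralizer_singleton_iff.2 hvc.symm.eq)
    have hvK : v ∈ K := e ▸ odd_mem_of_split P.2 hKn hn hp (e ▸ hvo)
    refine ⟨hvK, mem_centralizer_singleton_iff.2 ?_⟩
    have hu2' : orderOf (⟨_, hu'⟩ : (P : Subgroup L)) = 2 := by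
      rw [orderOf_mk, CfsgLib.Invol.orderOf_conj_eq, hc2]
    rcases D.invol_cases hu2' with e' | ⟨b, e'⟩
    · exfalso
      have e'' : k * c * k⁻¹ = c := congrArg Subtype.val e'
      exact CfsgLib.Recog.GenDih.dt_ne_dz a
        (mul_left_cancel (mul_right_cancel (hk.trans e''.symm)) :)
    · have e'' : k * c * k⁻¹ = dt P D b := congrArg Subtype.val e'
      rw [e'', hdt] at hvu
      have h1 : Commute ((rot P D ^ b)⁻¹ * (rot P D ^ b * refl P D)) v :=
        (((hrot v hvK).zpow_left b).inv_left).mul_left hvu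
      rw [inv_mul_cancel_left] at h1
      exact h1.symm.eq
  -- one class in `M`
  have honeM : ∀ s t : M, orderOf s = 2 → orderOf t = 2 → IsConj s t := by
    have key : ∀ s : M, orderOf s = 2 → IsConj s ⟨c, hPM CfsgLib.Recog.GenDih.dz_mem⟩ := by
      intro s hs
      obtain ⟨g, hg⟩ := exists_conj_invol_mem_sylow (P.subtype hPM) hs
      have hg' : ((g * s * g⁻¹ : M) : L) ∈ (P : Subgroup L) := hg
      have h1 : IsConj s (g * s * g⁻¹) := isConj_iff.2 ⟨g, rfl⟩
      refine h1.trans ?_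
      rcases D.invol_cases (u := ⟨_, hg'⟩) (by
        rw [orderOf_mk, Subgroup.orderOf_coe, CfsgLib.Invol.orderOf_conj_eq, hs]) with e | ⟨b, e⟩
      · rw [show g * s * g⁻¹ = (⟨c, hPM CfsgLib.Recog.GenDih.dz_mem⟩ : M) from
          Subtype.ext (congrArg Subtype.val e :)]
      · obtain ⟨k, hk, hkb⟩ := hmove b
        refine isConj_iff.2 ⟨⟨k, hk⟩, Subtype.ext ?_⟩
        show k * ((g * s * g⁻¹ : M) : L) * k⁻¹ = c
        rw [show ((g * s * g⁻¹ : M) : L) = dt P D b from congrArg Subtype.val e, hkb]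
    exact fun s t hs ht => (key s hs).trans (key t ht).symm
  have hMt : M ≠ ⊤ := fun e => by
    rcases (normalizer_eq_top_iff.1 e).eq_bot_or_eq_top with h | h
    · exact hWne h
    · exact hna ⟨⟨fun a b => (hKc a (h.ge (mem_top a)).1 b (h.ge (mem_top b)).1).eq⟩⟩
  obtain ⟨h60, hh, hi, -⟩ := altFive_of_one_class P D hna M hMt hCM honeM
  have hcardM : Nat.card M = 12 := by
    have := M.card_mul_index; rw [hi, h60] at this; omega
  -- everything in `M` centralizes the central involution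
  set X := W ⊔ (P : Subgroup L) with hX
  have hXM : X ≤ M := sup_le le_normalizer hPM
  have hXC : X ≤ centralizer ({c} : Set L) := sup_le (inf_le_left.trans hKC) (sylow_le_centralizer_dz P D)
  have h4 : 4 ∣ Nat.card X := by
    have := card_dvd_of_le (le_sup_right : (P : Subgroup L) ≤ X)
    rwa [D.card_eq, hh] at this
  have h3 : 3 ∣ Nat.card X := by
    refine dvd_trans ?_ (card_dvd_of_le (le_sup_left : W ≤ X))
    have hWodd : Odd (Nat.card W) := hK.of_dvd_nat (card_dvd_of_le inf_le_left)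
    have hd := card_dvd_of_le (le_normalizer : W ≤ M)
    rw [hcardM] at hd
    have h1 : Nat.card W ≠ 1 := fun e => hWne (Subgroup.card_eq_one.1 e)
    have h2 : Nat.card W ∣ 3 := Nat.Coprime.dvd_of_dvd_mul_left
      ((Nat.coprime_two_right.2 hWodd).pow_right 2 :) (show Nat.card W ∣ 2 ^ 2 * 3 by norm_num; exact hd)
    rcases (Nat.dvd_prime Nat.prime_three).1 h2 with e | e
    · exact absurd e h1
    · rw [e]
  have hXeq : X = M := eq_of_le_of_card_ge hXM (by
    rw [hcardM]
    exact Nat.le_of_dvd Nat.card_pos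
      ((Nat.Coprime.mul_dvd_of_dvd_of_dvd (by norm_num : Nat.Coprime 4 3) h4 h3)))
  obtain ⟨k, hk, hk'⟩ := hmove 0
  have hkc : Commute k c := mem_centralizer_singleton_iff.1 (hXC (hXeq ▸ hk))
  refine CfsgLib.Recog.GenDih.dt_ne_dz (D := D) 0 ?_
  calc dt P D 0 = k⁻¹ * (k * dt P D 0 * k⁻¹) * k := by group
    _ = k⁻¹ * c * k := by rw [hk']
    _ = c := by rw [mul_assoc, ← hkc.eq, inv_mul_cancel_left]

end CfsgLib.Recog.GenDihedral
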