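import Cfsg.Agent.Lib.Recog.GenDihedral.DihedralFacts
import Cfsg.Agent.Lib.BlockA.DihedralCount
import Cfsg.Agent.Lib.KnownC.AutPSLMain
import Cfsg.Agent.Lib.KnownC.FieldAut
import Cfsg.Agent.Lib.Fusion.SimplePSLTwo
import Cfsg.Agent.Lib.Transfer.Basic
import Cfsg.Agent.Lib.Classical.SLOrder
import Cfsg.Agent.Lib.Geom.RedundantPSL
import Cfsg.Agent.Lib.ClassK.SmallSimple
import Cfsg.Agent.Lib.Invol.MetacyclicTwoSolvable
import Cfsg.Agent.Lib.Recog.GenDihedral.ReduceBase

/-!
Almost simple groups over `PSL₂(q)`, `q` odd, with dihedral Sylow 2-subgroup, in which an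
involution centralizer is generated by 2-elements and elements conjugate to their inverses: they
are `PSL₂(q)` or `PGL₂(q)`.
-/

set_option autoImplicit false
set_option linter.unusedSectionVars false
set_option maxHeartbeats 800000

namespace CfsgLib.Recog.GenDihedral

open Subgroup CfsgLib.Invol Matrix CfsgLib.KnownC
open scoped MatrixGroups

universe u

section Field

variable {F : Type} [Field F] [Fintype F]

theorem two_ne_zero_of_odd (hodd : Odd (Fintype.card F)) : (2 : F) ≠ 0 := by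
  intro h
  obtain ⟨k, hk⟩ := hodd
  have h0 := FiniteField.cast_card_eq_zero F
  rw [hk] at h0
  push_cast at h0
  rw [h, zero_mul, zero_add] at h0
  exact one_ne_zero h0

theorem ringAut_comm (σ τ : F ≃+* F) : σ * τ = τ * σ := by
  obtain ⟨p, hp⟩ := CharP.exists F
  obtain ⟨n, hpr, hn⟩ := FiniteField.card F p
  have := Fact.mk hpr
  obtain ⟨-, ⟨e⟩⟩ := exists_zmod_mulEquiv_ringAut (F := F) hn
  obtain ⟨a, rfl⟩ := e.surjective σ
  obtain ⟨b, rfl⟩ := e.surjective τ
  rw [← map_mul, ← map_mul, mul_comm]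

/-- An element fixed by an automorphism of order two is a square. -/
theorem isSquare_of_fixed (h2 : (2 : F) ≠ 0) {σ : F ≃+* F} (hσ : σ ≠ 1) (hσ2 : σ * σ = 1) {a : F}
    (ha : σ a = a) : IsSquare a := by
  classical
  have hss : ∀ x, σ (σ x) = x := fun x => RingEquiv.congr_fun hσ2 x
  obtain ⟨u, hu⟩ : ∃ u, σ u ≠ u := by
    by_contra h
    push Not at h
    exact hσ (RingEquiv.ext h)
  set β := u - σ u with hβ
  have hβ0 : β ≠ 0 := sub_ne_zero.2 (Ne.symm hu)
  have hσβ : σ β = -β := by rw [hβ, map_sub, hss]; ring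
  let K : Subfield F := RingHom.eqLocusField (σ : F →+* F) (RingHom.id F)
  have hmem : ∀ x, x ∈ K ↔ σ x = x := fun x => Iff.rfl
  let : Fintype K := Fintype.ofFinite K
  by_cases ha0 : a = 0
  · exact ⟨0, by rw [ha0, zero_mul]⟩
  let a' : K := ⟨a, (hmem a).2 ha⟩
  let b' : K := ⟨β * β, (hmem _).2 (by rw [map_mul, hσβ, neg_mul_neg])⟩
  have ha' : a' ≠ 0 := fun e => ha0 (congrArg Subtype.val e)
  have hb' : b' ≠ 0 := fun e => mul_self_ne_zero.2 hβ0 (congrArg Subtype.val e)
  have hbn : ¬ IsSquare b' := by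
    rintro ⟨w, hw⟩
    have hw' : β * β = (w : F) * w := congrArg Subtype.val hw
    have hwf : σ (w : F) = w := (hmem _).1 w.2
    rcases mul_self_eq_mul_self_iff.1 hw' with e | e
    · rw [e, hwf] at hσβ
      exact hβ0 (by rw [e]; exact (mul_eq_zero.1 (show (2 : F) * w = 0 by linear_combination hσβ)).resolve_left h2)
    · rw [e, map_neg, hwf, neg_neg] at hσβ
      exact hβ0 (by rw [e, (mul_eq_zero.1 (show (2 : F) * w = 0 by linear_combination -hσβ)).resolve_left h2,
        neg_zero])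
  by_cases hsq : IsSquare a'
  · obtain ⟨w, hw⟩ := hsq
    exact ⟨w, congrArg Subtype.val hw⟩
  · have h1 : quadraticChar K (a' * b') = 1 := by
      rw [map_mul, quadraticChar_neg_one_iff_not_isSquare.2 hsq,
        quadraticChar_neg_one_iff_not_isSquare.2 hbn]
      norm_num
    obtain ⟨w, hw⟩ := (quadraticChar_one_iff_isSquare (mul_ne_zero ha' hb')).1 h1
    refine ⟨(w : F) / β, ?_⟩
    have hw' : a * (β * β) = (w : F) * w := congrArg Subtype.val hw
    field_simp
    linear_combination hw'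

/-- The determinant of a semilinear involution with nontrivial field part is a square. -/
theorem isSquare_of_norm (h2 : (2 : F) ≠ 0) {σ : F ≃+* F} (hσ : σ ≠ 1) (hσ2 : σ * σ = 1) {δ l : F}
    (hl0 : l ≠ 0) (hl : σ l = l) (hδ : δ * σ δ = l * l) : IsSquare δ := by
  have hss : ∀ x, σ (σ x) = x := fun x => RingEquiv.congr_fun hσ2 x
  have hδ0 : δ ≠ 0 := fun e => by
    rw [e, zero_mul] at hδ; exact mul_self_ne_zero.2 hl0 hδ.symm
  set ε := δ / l with hε
  have hε1 : ε * σ ε = 1 := by
    rw [hε, map_div₀, hl, div_mul_div_comm, hδ, div_self (mul_self_ne_zero.2 hl0)]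
  obtain ⟨a, ha⟩ : ∃ a, a + ε * σ a ≠ 0 := by
    by_contra h
    push Not at h
    obtain ⟨u, hu⟩ : ∃ u, σ u ≠ u := by
      by_contra h'
      push Not at h'
      exact hσ (RingEquiv.ext h')
    have h1 := h 1
    rw [map_one, mul_one] at h1
    refine hu ?_
    have h' := h u
    linear_combination -h' + σ u * h1
  set w := a + ε * σ a with hw
  have hwσ : ε * σ w = w := by
    rw [hw, map_add, map_mul, hss]
    linear_combination a * hε1
  have hσw : σ w ≠ 0 := fun e => ha (by rw [← hwσ, e, mul_zero])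
  obtain ⟨n, hn⟩ := isSquare_of_fixed h2 hσ hσ2 (a := l * (w * σ w)) (by
    rw [map_mul, map_mul, hl, hss, mul_comm (σ w)])
  refine ⟨n / σ w, ?_⟩
  rw [div_mul_div_comm, ← hn, eq_div_iff (mul_ne_zero hσw hσw)]
  have hδl : δ = ε * l := by rw [hε, div_mul_cancel₀ δ hl0]
  rw [hδl]
  linear_combination l * σ w * hwσ

end Field

section Models

variable {F : Type} [Field F] [Fintype F]

local notation "PSL2" => Matrix.ProjectiveSpecialLinearGroup (Fin 2) F

/-- An inner automorphism as a semilinear one. -/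
theorem semiAut_toGL (s : SL(2, F)) :
    semiAut (SpecialLinearGroup.toGL s) (RingEquiv.refl F) =
      MulAut.conj (QuotientGroup.mk s : PSL2) := by
  refine MulEquiv.ext fun x => ?_
  obtain ⟨t, rfl⟩ := QuotientGroup.mk_surjective x
  rw [semiAut_mk, MulAut.conj_apply, ← QuotientGroup.mk_inv, ← QuotientGroup.mk_mul,
    ← QuotientGroup.mk_mul]
  refine congrArg (QuotientGroup.mk : SL(2, F) → PSL2) (Subtype.ext ?_)
  rw [slConj_coe, slField_coe]
  show (s : Matrix (Fin 2) (Fin 2) F) * (t : Matrix (Fin 2) (Fin 2) F).map (RingEquiv.refl F) *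
    ((SpecialLinearGroup.toGL s)⁻¹ : GL (Fin 2) F).1 =
      (s : Matrix (Fin 2) (Fin 2) F) * (t : Matrix (Fin 2) (Fin 2) F) *
        ((s⁻¹ : SL(2, F)) : Matrix (Fin 2) (Fin 2) F)
  rw [← map_inv, show (t : Matrix (Fin 2) (Fin 2) F).map (RingEquiv.refl F) =
    (t : Matrix (Fin 2) (Fin 2) F) from Matrix.ext fun a b => rfl]
  rfl

/-- Two commuting involutions fixed by every field automorphism. -/
theorem exists_four (h2 : (2 : F) ≠ 0) :
    ∃ i j : PSL2, orderOf i = 2 ∧ orderOf j = 2 ∧ Commute i j ∧ i ≠ j ∧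
      ∀ σ : F ≃+* F, semiAut 1 σ i = i ∧ semiAut 1 σ j = j := by
  obtain ⟨p, hp⟩ := CharP.exists F
  obtain ⟨n, hpr, hn⟩ := FiniteField.card F p
  have := Fact.mk hpr
  obtain ⟨c₀, d₀, hcd₀⟩ := ZMod.sq_add_sq p (-1 : ZMod p)
  set f : ZMod p →+* F := ZMod.castHom dvd_rfl F
  set c := f c₀ with hc
  set d := f d₀ with hd
  have hcd : c ^ 2 + d ^ 2 = -1 := by rw [hc, hd, ← map_pow, ← map_pow, ← map_add, hcd₀, map_neg, map_one]
  have hfix : ∀ (σ : F ≃+* F) (x : ZMod p), σ (f x) = f x := fun σ x =>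
    RingHom.congr_fun (Subsingleton.elim ((σ : F →+* F).comp f) f) x
  set i : SL(2, F) := ⟨!![0, 1; -1, 0], by simp [Matrix.det_fin_two_of]⟩ with hi
  set j : SL(2, F) := ⟨!![c, d; d, -c], by
    rw [Matrix.det_fin_two_of]; linear_combination -hcd⟩ with hj
  have hic : (i : Matrix (Fin 2) (Fin 2) F) = !![0, 1; -1, 0] := rfl
  have hjc : (j : Matrix (Fin 2) (Fin 2) F) = !![c, d; d, -c] := rfl
  have hneg : (-1 : SL(2, F)) ∈ Subgroup.center SL(2, F) :=
    mem_center_iff.2 fun g => Subtype.ext (by simp)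
  have hsc : ∀ g : SL(2, F), g ∈ Subgroup.center SL(2, F) →
      g.1 0 1 = 0 ∧ g.1 1 0 = 0 ∧ g.1 0 0 = g.1 1 1 := fun g hg => by
    obtain ⟨r, -, hr⟩ := Matrix.SpecialLinearGroup.mem_center_iff.1 hg
    rw [← hr]; simp
  have hord : ∀ x : SL(2, F), x * x = -1 → x ∉ Subgroup.center SL(2, F) →
      orderOf (QuotientGroup.mk x : PSL2) = 2 := fun x hx hxc => by
    refine invol_of_mul_self ?_ fun e => hxc ((QuotientGroup.eq_one_iff x).1 e)
    rw [← QuotientGroup.mk_mul, hx]
    exact (QuotientGroup.eq_one_iff _).2 hneg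
  have hii : i * i = -1 := Subtype.ext (by
    show (i : Matrix (Fin 2) (Fin 2) F) * i = _
    rw [hic]; ext a b; fin_cases a <;> fin_cases b <;> simp)
  have hjj : j * j = -1 := Subtype.ext (by
    show (j : Matrix (Fin 2) (Fin 2) F) * j = _
    rw [hjc]; ext a b; fin_cases a <;> fin_cases b <;> simp <;>
      first | ring1 | linear_combination hcd)
  have hji : j * i = -1 * (i * j) := Subtype.ext (by
    show (j : Matrix (Fin 2) (Fin 2) F) * i = -1 * ((i : Matrix (Fin 2) (Fin 2) F) * j)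
    rw [hic, hjc]
    ext a b; fin_cases a <;> fin_cases b <;> simp)
  refine ⟨QuotientGroup.mk i, QuotientGroup.mk j, hord i hii fun h => ?_, hord j hjj fun h => ?_,
    ?_, fun e => ?_, fun σ => ⟨?_, ?_⟩⟩
  · have := (hsc i h).1
    rw [hic] at this; simp at this
  · obtain ⟨h1, -, h3⟩ := hsc j h
    rw [hjc] at h1 h3
    simp at h1 h3
    have hc0 : c = 0 := (mul_eq_zero.1 (show (2 : F) * c = 0 by linear_combination h3)).resolve_left h2
    rw [hc0, h1] at hcd
    simp at hcd
  · show (QuotientGroup.mk i : PSL2) * QuotientGroup.mk j = QuotientGroup.mk j * QuotientGroup.mk i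
    rw [← QuotientGroup.mk_mul, ← QuotientGroup.mk_mul, hji, QuotientGroup.mk_mul,
      QuotientGroup.mk_mul, QuotientGroup.mk_mul,
      (QuotientGroup.eq_one_iff (-1 : SL(2, F))).2 hneg, one_mul]
  · have h := hsc _ (QuotientGroup.eq.1 e)
    obtain ⟨h1, -, h3⟩ := h
    change (((i⁻¹ * j : SL(2, F))) : Matrix (Fin 2) (Fin 2) F) 0 1 = 0 at h1
    rw [show i⁻¹ = -1 * i from (eq_inv_of_mul_eq_one_left (by
      rw [mul_assoc, hii]; exact Subtype.ext (by simp))).symm] at h1 h3
    change ((-1 : Matrix (Fin 2) (Fin 2) F) * (i : Matrix (Fin 2) (Fin 2) F) *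
      (j : Matrix (Fin 2) (Fin 2) F)) 0 1 = 0 at h1
    change ((-1 : Matrix (Fin 2) (Fin 2) F) * (i : Matrix (Fin 2) (Fin 2) F) *
      (j : Matrix (Fin 2) (Fin 2) F)) 0 0 = ((-1 : Matrix (Fin 2) (Fin 2) F) *
      (i : Matrix (Fin 2) (Fin 2) F) * (j : Matrix (Fin 2) (Fin 2) F)) 1 1 at h3
    rw [hic, hjc] at h1 h3
    simp [Matrix.mul_apply, Fin.sum_univ_two] at h1 h3
    have hd0 : d = 0 := (mul_eq_zero.1 (show (2 : F) * d = 0 by linear_combination -h3)).resolve_left h2
    rw [hd0, h1] at hcd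
    simp at hcd
  · rw [semiAut_mk]
    refine congrArg (QuotientGroup.mk : SL(2, F) → PSL2) (Subtype.ext ?_)
    rw [slConj_coe, slField_coe, hic, inv_one]
    ext a b; fin_cases a <;> fin_cases b <;> simp
  · rw [semiAut_mk]
    refine congrArg (QuotientGroup.mk : SL(2, F) → PSL2) (Subtype.ext ?_)
    rw [slConj_coe, slField_coe, hjc, inv_one]
    ext a b; fin_cases a <;> fin_cases b <;> simp [hc, hd, hfix]

/-- The action of `PGL₂` as linear automorphisms. -/
theorem exists_pgl_hom :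
    ∃ ψ : Matrix.ProjGenLinGroup (Fin 2) F →* MulAut PSL2, Function.Injective ψ ∧
      ∀ g : GL (Fin 2) F, semiAut g (RingEquiv.refl F) ∈ ψ.range := by
  let ψ₀ : GL (Fin 2) F →* MulAut PSL2 :=
    MonoidHom.mk' (fun g => semiAut g (RingEquiv.refl F)) fun g h => by
      rw [semiAut_mul]
      rfl
  have hψ₀ : ∀ g, ψ₀ g = semiAut g (RingEquiv.refl F) := fun g => rfl
  have hker : Subgroup.center (GL (Fin 2) F) ≤ ψ₀.ker := fun g hg =>
    MonoidHom.mem_ker.2 ((semiAut_eq_one_iff le_rfl _ _).2 ⟨rfl, hg⟩)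
  refine ⟨QuotientGroup.lift _ ψ₀ hker, ?_, fun g => ⟨Matrix.ProjGenLinGroup.mk g, rfl⟩⟩
  refine (injective_iff_map_eq_one _).2 fun x hx => ?_
  obtain ⟨g, rfl⟩ := Matrix.ProjGenLinGroup.mk_surjective x
  exact (QuotientGroup.eq_one_iff g).2 ((semiAut_eq_one_iff le_rfl g _).1 hx).2

theorem card_pgl_eq_two_mul (hodd : Odd (Fintype.card F)) :
    Nat.card (Matrix.ProjGenLinGroup (Fin 2) F) = 2 * Nat.card PSL2 := by
  obtain ⟨k, hk⟩ := hodd
  have h := CfsgLib.Geom.Moebius.card_psl_two_gcd (F := F)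
  rw [Nat.gcd_eq_left ⟨k, by omega⟩] at h
  rw [h, CfsgLib.Classical.card_pgl, CfsgLib.Classical.card_sl_two_eq,
    show Fintype.card F ^ 2 - 1 = (Fintype.card F + 1) * (Fintype.card F - 1) by
      rw [← Nat.sq_sub_sq, one_pow]]

end Models

section Main

variable {Q : Type u} [Group Q] [Finite Q] {F : Type} [Field F] [Fintype F]

/-- **Extensions of `PSL₂(q)` with dihedral Sylow 2-subgroup.** -/
theorem psl_or_pgl (hodd : Odd (Fintype.card F)) (h5 : 4 ≤ Fintype.card F) (T : Sylow 2 Q)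
    (E : DihData (T : Subgroup Q)) (L : Subgroup Q) [L.Normal]
    (e : L ≃* Matrix.ProjectiveSpecialLinearGroup (Fin 2) F)
    (hC : centralizer (L : Set Q) = ⊥) (c : Q) (hcL : c ∈ L) (hc : orderOf c = 2)
    (hgen : centralizer ({c} : Set Q) ≤
      closure (((T : Subgroup Q) : Set Q) ∪ {x | ∃ y, y * x * y⁻¹ = x⁻¹})) :
    Nonempty (Q ≃* Matrix.ProjectiveSpecialLinearGroup (Fin 2) F) ∨
      Nonempty (Q ≃* Matrix.ProjGenLinGroup (Fin 2) F) := by
  classical
  have : Fact (Nat.Prime 2) := ⟨Nat.prime_two⟩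
  have h2 : (2 : F) ≠ 0 := two_ne_zero_of_odd hodd
  -- the action on the socle
  let φ : Q →* MulAut (Matrix.ProjectiveSpecialLinearGroup (Fin 2) F) :=
    (MulAut.congr e).toMonoidHom.comp MulAut.conjNormal
  have hφ : ∀ (x : Q) (l : L), φ x (e l) = e (MulAut.conjNormal x l) := fun x l => by
    show e (MulAut.conjNormal x (e.symm (e l))) = _
    rw [MulEquiv.symm_apply_apply]
  have hφinj : Function.Injective φ := by
    rw [injective_iff_map_eq_one]
    intro x hx
    have : x ∈ centralizer (L : Set Q) := mem_centralizer_iff.2 fun l hl => by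
      have h1 := hφ x ⟨l, hl⟩
      rw [hx, MulAut.one_apply] at h1
      have h2' := congrArg Subtype.val (e.injective h1)
      rw [MulAut.conjNormal_apply] at h2'
      exact (eq_mul_inv_iff_mul_eq.1 h2')
    rw [hC] at this
    exact mem_bot.1 this
  have hφL : ∀ l : L, φ (l : Q) = MulAut.conj (e l) := fun l => by
    refine MulEquiv.ext fun y => ?_
    obtain ⟨m, rfl⟩ := e.surjective y
    rw [hφ, MulAut.conj_apply, ← map_inv, ← map_mul, ← map_mul]
    exact congrArg e (Subtype.ext (MulAut.conjNormal_apply _ _))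
  -- the field component
  have hcases : ∀ x, ∃ g σ, φ x = semiAut g σ := fun x =>
    (mulAut_psl_cases le_rfl (φ x)).resolve_right fun h => absurd h.1 (by norm_num)
  choose gl fd hgf using hcases
  let π : Q →* (F ≃+* F) := MonoidHom.mk' fd fun x y => by
    have h := map_mul φ x y
    rw [hgf, hgf, hgf, semiAut_mul] at h
    exact ((semiAut_eq_iff le_rfl _ _ _ _).1 h).1
  have hπ : ∀ x, π x = fd x := fun x => rfl
  have hfd : ∀ x g σ, φ x = semiAut g σ → π x = σ := fun x g σ h => by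
    rw [hgf] at h
    exact ((semiAut_eq_iff le_rfl _ _ _ _).1 h).1
  have hπL : ∀ l ∈ L, π l = 1 := fun l hl => by
    obtain ⟨s, hs⟩ := QuotientGroup.mk_surjective (e ⟨l, hl⟩)
    exact hfd l _ _ (by rw [hφL ⟨l, hl⟩, ← hs, ← semiAut_toGL]; rfl)
  -- the centralizer of the involution covers the quotient
  have hQ : ∀ x : Q, ∃ l ∈ L, ∃ y ∈ centralizer ({c} : Set Q), x = l * y := by
    intro x
    have ho1 : orderOf (e ⟨c, hcL⟩) = 2 := by
      rw [MulEquiv.orderOf_eq, orderOf_mk, hc]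
    have ho2 : orderOf (e ⟨x * c * x⁻¹, (inferInstance : L.Normal).conj_mem c hcL x⟩) = 2 := by
      rw [MulEquiv.orderOf_eq, orderOf_mk, CfsgLib.Invol.orderOf_conj_eq, hc]
    obtain ⟨g, hg⟩ := isConj_iff.1 (CfsgLib.Fusion.psl_two_involutions_conj hodd _ _ ho1 ho2)
    obtain ⟨l, rfl⟩ := e.surjective g
    rw [← map_inv, ← map_mul, ← map_mul] at hg
    have hg' : (l : Q) * c * (l : Q)⁻¹ = x * c * x⁻¹ := congrArg Subtype.val (e.injective hg)
    refine ⟨l, l.2, (l : Q)⁻¹ * x, mem_centralizer_singleton_iff.2 ?_, by group⟩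
    calc (l : Q)⁻¹ * x * c = (l : Q)⁻¹ * (x * c * x⁻¹) * x := by group
      _ = (l : Q)⁻¹ * ((l : Q) * c * (l : Q)⁻¹) * x := by rw [hg']
      _ = _ := by group
  -- the field component is a 2-group
  have hgal : ∀ x, ∃ k : ℕ, (π x) ^ 2 ^ k = 1 := by
    let K : Subgroup Q :=
      { carrier := {x | ∃ k : ℕ, (π x) ^ 2 ^ k = 1}
        one_mem' := ⟨0, by rw [map_one, one_pow]⟩
        mul_mem' := fun {a b} ⟨k, hk⟩ ⟨m, hm⟩ => ⟨k + m, by
          rw [map_mul, Commute.mul_pow (ringAut_comm (π a) (π b)), pow_add, pow_mul, hk, one_pow,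
            one_mul, mul_comm, pow_mul, hm, one_pow]⟩
        inv_mem' := fun {a} ⟨k, hk⟩ => ⟨k, by rw [map_inv, inv_pow, hk, inv_one]⟩ }
    intro x
    obtain ⟨l, hl, y, hy, rfl⟩ := hQ x
    have hK : closure (((T : Subgroup Q) : Set Q) ∪ {x | ∃ y, y * x * y⁻¹ = x⁻¹}) ≤ K := by
      rw [closure_le]
      rintro z (hz | ⟨w, hw⟩)
      · obtain ⟨k, hk⟩ := T.2 ⟨z, hz⟩
        refine ⟨k, ?_⟩
        rw [← map_pow, show z ^ 2 ^ k = 1 from congrArg Subtype.val hk, map_one]
      · refine ⟨1, ?_⟩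
        have h1 := congrArg π hw
        rw [map_mul, map_mul, map_inv, map_inv, ringAut_comm (π w), mul_inv_cancel_right] at h1
        rw [pow_one, pow_two]
        exact mul_eq_one_iff_eq_inv.2 h1
    obtain ⟨k, hk⟩ := hK (hgen hy)
    exact ⟨k, by rw [map_mul, hπL l hl, one_mul, hk]⟩
  -- the index is a power of two
  obtain ⟨ψ, hψinj, hψ⟩ := exists_pgl_hom (F := F)
  have hπker : ∀ x, π x = 1 → φ x ∈ ψ.range := fun x hx => by
    rw [hgf x, ← hπ, hx]; exact hψ _
  have hcardL : Nat.card L = Nat.card (Matrix.ProjectiveSpecialLinearGroup (Fin 2) F) :=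
    Nat.card_congr e.toEquiv
  have hLpos : 0 < Nat.card L := Nat.card_pos
  have hkerle : Nat.card π.ker ∣ 2 * Nat.card L := by
    rw [hcardL, ← card_pgl_eq_two_mul hodd, Nat.card_congr (MonoidHom.ofInjective hψinj).toEquiv]
    exact (Nat.card_congr ((π.ker).equivMapOfInjective φ hφinj).toEquiv) ▸
      card_dvd_of_le (by rintro _ ⟨x, hx, rfl⟩; exact hπker x hx)
  have hindex : ∃ k, L.index ∣ 2 ^ k := by
    have hrange : IsPGroup 2 π.range := by
      rintro ⟨_, x, rfl⟩
      obtain ⟨k, hk⟩ := hgal x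
      exact ⟨k, Subtype.ext hk⟩
    have : Finite (F ≃+* F) := Finite.of_injective (fun σ => (σ : F → F)) DFunLike.coe_injective
    obtain ⟨k, hk⟩ := hrange.exists_card_eq
    refine ⟨k + 1, Nat.dvd_of_mul_dvd_mul_left hLpos ?_⟩
    rw [L.card_mul_index, ← π.ker.card_mul_index, Subgroup.index_ker, hk, pow_succ,
      show Nat.card L * (2 ^ k * 2) = 2 * Nat.card L * 2 ^ k by ring]
    exact mul_dvd_mul_right hkerle _
  -- the trace on the Sylow subgroup
  set R := L.subgroupOf (T : Subgroup Q) with hR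
  have hLns : ¬ Group.IsSolvable L := fun hs => by
    have := CfsgLib.ClassK.isSimpleGroup_psl_two (F := F) h5
    have h1 := IsSimpleGroup.comm_iff_isSolvable.2
      (Group.isSolvable_of_surjective (f := e.toMonoidHom) e.surjective)
    obtain ⟨i, j, hi, hj, -, hne, hfix⟩ := exists_four (F := F) h2
    have hcen : ∀ g : Matrix.ProjectiveSpecialLinearGroup (Fin 2) F, zpowers i ≤ ⊤ := fun g => le_top
    have hN : (zpowers i).Normal := ⟨fun n hn g => by rwa [h1 g n, mul_inv_cancel_right]⟩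
    rcases hN.eq_bot_or_eq_top with hb | ht
    · exact invol_ne_one hi (zpowers_eq_bot.1 hb)
    · have hjm : j ∈ zpowers i := ht ▸ mem_top j
      exact hne (CfsgLib.BlockA.DihedralBlock.invol_zpowers_unique (mem_zpowers i) hjm hi hj)
  have hRnc : ¬ IsCyclic R := by
    intro hcyc
    obtain ⟨P, hP⟩ := CfsgLib.Transfer.exists_sylow_eq_subgroupOf T L
    refine hLns (isSolvable_of_cyclic_sylow P ?_)
    let f : (P : Subgroup L) →* R := MonoidHom.mk'
      (fun p => ⟨⟨((p : L) : Q), hP.le p.2⟩, (p : L).2⟩)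
      (fun a b => rfl)
    exact isCyclic_of_injective f fun a b h => Subtype.ext (Subtype.ext (congrArg
      (fun z : R => ((z : (T : Subgroup Q)) : Q)) h))
  obtain ⟨j, -, hj, hjtop, hcov⟩ := normal_noncyclic E R hRnc
  set x₀ : (T : Subgroup Q) := E.r ^ (j + 1) * E.s with hx₀
  have hTsplit : ∀ t ∈ (T : Subgroup Q), t ∈ L ∨ (x₀ : Q) * t ∈ L := fun t ht =>
    hcov ⟨t, ht⟩
  have hx2 : orderOf (x₀ : Q) = 2 := (Subgroup.orderOf_coe _).trans (E.orderOf_zy _)
  -- `Q` is the product with the Sylow subgroup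
  have hprod : ∀ x : Q, ∃ l ∈ L, ∃ t ∈ (T : Subgroup Q), x = l * t := by
    have htop : L ⊔ (T : Subgroup Q) = ⊤ := by
      rw [← index_eq_one]
      refine Nat.dvd_one.1 ?_
      obtain ⟨k, hk⟩ := hindex
      have h1 := (index_dvd_of_le (show L ≤ L ⊔ (T : Subgroup Q) from le_sup_left)).trans hk
      have h2' := index_dvd_of_le (show (T : Subgroup Q) ≤ L ⊔ (T : Subgroup Q) from le_sup_right)
      exact (Nat.Coprime.pow_left k ((Nat.Prime.coprime_iff_not_dvd Nat.prime_two).2
        T.not_dvd_index)) ▸ Nat.dvd_gcd h1 h2'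
    intro x
    have hx : x ∈ (↑(L ⊔ (T : Subgroup Q)) : Set Q) := by rw [htop]; trivial
    rw [Subgroup.normal_mul L (T : Subgroup Q)] at hx
    obtain ⟨l, hl, t, ht, rfl⟩ := hx
    exact ⟨l, hl, t, ht, rfl⟩
  by_cases hxL : (x₀ : Q) ∈ L
  · have hL : L = ⊤ := eq_top_iff.2 fun x _ => by
      obtain ⟨l, hl, t, ht, rfl⟩ := hprod x
      exact mul_mem hl ((hTsplit t ht).elim id fun h => (mul_mem_cancel_left hxL).1 h)
    exact Or.inl ⟨((MulEquiv.subgroupCongr hL).trans Subgroup.topEquiv).symm.trans e⟩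
  · have hxx := invol_mul_self hx2
    have hπ2 : π x₀ * π x₀ = 1 := by rw [← map_mul, hxx, map_one]
    have hπ1 : π x₀ = 1 := by
      by_contra hσ
      set g := gl x₀
      set σ := π x₀ with hσdef
      have hg : φ x₀ = semiAut g σ := hgf _
      have h1 : semiAut (g * GeneralLinearGroup.map (σ : F →+* F) g) (σ * σ) = 1 := by
        rw [← semiAut_mul, ← hg, ← map_mul, hxx, map_one]
      obtain ⟨-, hcen⟩ := (semiAut_eq_one_iff le_rfl _ _).1 h1
      rw [Matrix.GeneralLinearGroup.center_eq_range_scalar] at hcen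
      obtain ⟨l, hl⟩ := hcen
      set g' := GeneralLinearGroup.map (σ : F →+* F) g with hg'
      have hss : ∀ a, σ (σ a) = a := fun a => RingEquiv.congr_fun hπ2 a
      -- the scalar is fixed
      have hlfix : σ (l : F) = l := by
        have h3 : g' * g = Matrix.GeneralLinearGroup.scalar (Fin 2) l := by
          have hcomm : Commute (Matrix.GeneralLinearGroup.scalar (Fin 2) l) g := by
            refine (mem_center_iff.1 ?_ g).symm
            rw [Matrix.GeneralLinearGroup.center_eq_range_scalar]; exact ⟨l, rfl⟩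
          calc g' * g = g⁻¹ * (g * g') * g := by group
            _ = g⁻¹ * (Matrix.GeneralLinearGroup.scalar (Fin 2) l * g) := by rw [hl, mul_assoc]
            _ = Matrix.GeneralLinearGroup.scalar (Fin 2) l := by
              rw [hcomm.eq, inv_mul_cancel_left]
        have h4 : GeneralLinearGroup.map (σ : F →+* F) g' = g :=
          Units.ext (Matrix.ext fun a b => hss _)
        have h5 := congrArg (GeneralLinearGroup.map (σ : F →+* F)) h3
        rw [map_mul, h4, ← hg', ← hl] at h5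
        have h6 := congrArg (fun u : GL (Fin 2) F => (u : Matrix (Fin 2) (Fin 2) F) 0 0) h5
        simpa using h6.symm
      have hdet : g.1.det * σ g.1.det = (l : F) * l := by
        have h5 := congrArg (fun u : GL (Fin 2) F => (u : Matrix (Fin 2) (Fin 2) F).det) hl
        have h6 : g'.1.det = σ g.1.det := (RingHom.map_det (σ : F →+* F) g.1).symm
        simp only [Units.val_mul, Matrix.det_mul, h6] at h5
        rw [← h5]
        simp [Matrix.GeneralLinearGroup.scalar, Matrix.scalar_apply, Matrix.det_diagonal, sq]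
      obtain ⟨μ, hμ⟩ := isSquare_of_norm h2 hσ hπ2 l.ne_zero hlfix hdet
      have hμ0 : μ ≠ 0 := fun e0 => g.det_ne_zero (by rw [hμ, e0, mul_zero])
      set s : SL(2, F) := ⟨μ⁻¹ • g.1, by
        rw [Matrix.det_smul, Fintype.card_fin, hμ]; field_simp⟩ with hs
      have hgs : semiAut g σ = semiAut (SpecialLinearGroup.toGL s) σ := by
        refine (semiAut_eq_iff le_rfl _ _ _ _).2 ⟨rfl, ?_⟩
        rw [Matrix.GeneralLinearGroup.center_eq_range_scalar]
        refine ⟨Units.mk0 μ hμ0, ?_⟩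
        rw [eq_inv_mul_iff_mul_eq]
        refine Units.ext ?_
        show (μ⁻¹ • g.1) * Matrix.scalar (Fin 2) μ = g.1
        rw [Matrix.scalar_apply, ← Matrix.smul_one_eq_diagonal, Matrix.smul_mul, Matrix.mul_smul,
          mul_one, smul_smul, inv_mul_cancel₀ hμ0, one_smul]
      obtain ⟨l₀, hl₀⟩ := e.surjective (QuotientGroup.mk s)
      set y := (l₀ : Q)⁻¹ * x₀ with hy
      have hφy : φ y = semiAut 1 σ := by
        have hsplit : semiAut (SpecialLinearGroup.toGL s) σ =
            semiAut (SpecialLinearGroup.toGL s) (RingEquiv.refl F) * semiAut 1 σ := by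
          rw [semiAut_mul, map_one, mul_one]
          rfl
        rw [hy, map_mul, map_inv, hφL, hl₀, hg, hgs, hsplit, semiAut_toGL, inv_mul_cancel_left]
      have hyy : y * y = 1 := hφinj (by
        rw [map_mul, hφy, semiAut_mul, map_one, mul_one, map_one,
          show σ * σ = RingEquiv.refl F from hπ2, semiAut_one])
      have hyL : y ∉ L := fun h => hxL (by
        simpa [hy] using mul_mem l₀.2 h)
      have hy2 : orderOf y = 2 := invol_of_mul_self hyy fun h => hyL (h ▸ one_mem L)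
      obtain ⟨i, k, hi, hk, hik, hne, hfix⟩ := exists_four (F := F) h2
      obtain ⟨i', rfl⟩ := e.surjective i
      obtain ⟨k', rfl⟩ := e.surjective k
      have hcm : ∀ u : L, semiAut 1 σ (e u) = e u → Commute (u : Q) y := fun u hu => by
        rw [← hφy, hφ] at hu
        have := congrArg Subtype.val (e.injective hu)
        rw [MulAut.conjNormal_apply] at this
        exact (mul_inv_eq_iff_eq_mul.1 this).symm
      refine no_eight T E (a := (i' : Q)) (b := (k' : Q)) (c := y)
        (by rw [Subgroup.orderOf_coe, ← MulEquiv.orderOf_eq e, hi])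
        (by rw [Subgroup.orderOf_coe, ← MulEquiv.orderOf_eq e, hk]) hy2
        (congrArg Subtype.val (show i' * k' = k' * i' from e.injective (by
          rw [map_mul, map_mul]; exact hik.eq)))
        (hcm i' (hfix σ).1) (hcm k' (hfix σ).2) (fun h => hne (congrArg e (Subtype.ext h)))
        (fun h => hyL (h ▸ i'.2)) (fun h => hyL (h ▸ k'.2))
        (fun h => hyL (h ▸ mul_mem i'.2 k'.2))
    -- all of `Q` acts linearly
    have hall : ∀ x, π x = 1 := by
      intro x
      obtain ⟨l, hl, t, ht, rfl⟩ := hprod x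
      rw [map_mul, hπL l hl, one_mul]
      rcases hTsplit t ht with h | h
      · exact hπL t h
      · have := hπL _ h
        rwa [map_mul, hπ1, one_mul] at this
    have hle : φ.range ≤ ψ.range := by rintro _ ⟨x, rfl⟩; exact hπker x (hall x)
    have h2L : 2 * Nat.card L ≤ Nat.card Q := by
      rw [← L.card_mul_index, mul_comm 2]
      refine Nat.mul_le_mul_left _ ?_
      have h0 : L.index ≠ 0 := index_ne_zero_of_finite
      have h1 : L.index ≠ 1 := fun h => hxL (index_eq_one.1 h ▸ mem_top _)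
      omega
    have heq : φ.range = ψ.range := Subgroup.eq_of_le_of_card_ge hle (by
      rw [← Nat.card_congr (MonoidHom.ofInjective hψinj).toEquiv,
        ← Nat.card_congr (MonoidHom.ofInjective hφinj).toEquiv, card_pgl_eq_two_mul hodd, ← hcardL]
      exact h2L)
    exact Or.inr ⟨(MonoidHom.ofInjective hφinj).trans
      ((MulEquiv.subgroupCongr heq).trans (MonoidHom.ofInjective hψinj).symm)⟩

end Main

end CfsgLib.Recog.GenDihedral
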