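import Cfsg.Agent.Lib.Recog.GenDihedral.Small
import Cfsg.Agent.Lib.Comp.BenderPair
import Cfsg.Agent.Lib.Solvable.HallHigman
import Cfsg.Agent.Lib.FT.OddOrder

/-!
# Maximal subgroups over the centraliser whose odd core is moved by the centre
-/

set_option autoImplicit false
set_option linter.unusedSectionVars false
set_option linter.style.haveILetI false

namespace CfsgLib.Recog.GenDih

open Subgroup CfsgLib.Invol CfsgLib.Comp

universe u

variable {G : Type u} [Group G] [Finite G]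

/-- The Fitting subgroup as a subgroup of `G`. -/
abbrev FIn (M : Subgroup G) : Subgroup G := (Cfsg.fittingSubgroup M).map M.subtype

theorem le_normalizer_FIn (M : Subgroup G) : M ≤ normalizer (FIn M : Set G) :=
  haveI := CfsgLib.Comp.fittingSubgroup_normal M
  le_normalizer_map_subtype _

theorem conj_mem_of_le {M X : Subgroup G} (h : M ≤ normalizer (X : Set G)) {m x : G} (hm : m ∈ M)
    (hx : x ∈ X) : m * x * m⁻¹ ∈ X := (mem_normalizer_iff.1 (h hm) x).1 hx

/-- An involution acting without fixed points on an odd subgroup inverts it. -/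
theorem inv_of_fpf {X : Subgroup G} {j : G} (hj : orderOf j = 2) (hn : ∀ x ∈ X, j * x * j⁻¹ ∈ X)
    (hfix : ∀ x ∈ X, Commute x j → x = 1) {x : G} (hx : x ∈ X) : j * x * j⁻¹ = x⁻¹ := by
  let φ : X →* X := MonoidHom.mk' (fun v => ⟨j * v * j⁻¹, hn v v.2⟩) fun a b => Subtype.ext (by
    show j * ((a : G) * b) * j⁻¹ = j * (a : G) * j⁻¹ * (j * (b : G) * j⁻¹); group)
  have h := MonoidHom.FixedPointFree.coe_eq_inv_of_involutive (φ := φ) (fun v hv => ?_) (fun v => ?_)
  · exact congrArg Subtype.val (congrFun h ⟨x, hx⟩)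
  · have he : j * (v : G) * j⁻¹ = v := congrArg Subtype.val hv
    exact Subtype.ext (hfix v v.2 (mul_inv_eq_iff_eq_mul.1 he).symm)
  · refine Subtype.ext ?_
    show j * (j * (v : G) * j⁻¹) * j⁻¹ = v
    calc j * (j * (v : G) * j⁻¹) * j⁻¹ = (j * j) * v * (j * j)⁻¹ := by group
      _ = v := by rw [invol_mul_self hj]; group

variable {S : Sylow 2 G} {D : DihData (S : Subgroup G)} {K : Subgroup G}

/-- The hard case. -/
structure Pair (S : Sylow 2 G) (D : DihData (S : Subgroup G)) (M : Subgroup G) : Prop where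
  coatom : IsCoatom M
  le : centralizer ({dz S D} : Set G) ≤ M
  notone : ¬ ∀ t ∈ M, orderOf t = 2 → MConj M (dz S D) t
  notcore : ¬ oddIn M ≤ centralizer ({dz S D} : Set G)

theorem Gen.exists_conj_mem (hG : Gen S D K) (h1 : OneClass G) {i x : G} (hi : orderOf i = 2)
    (hxi : Commute x i) (hx : Odd (orderOf x)) :
    ∃ g : G, g * dz S D * g⁻¹ = i ∧ g⁻¹ * x * g ∈ K := by
  obtain ⟨g, hg⟩ := isConj_iff.1 (h1 _ i (dz_orderOf (S := S) (D := D)) hi)
  refine ⟨g, hg, hG.odd_mem ?_ (by rw [orderOf_conj_inv]; exact hx)⟩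
  rw [mem_centralizer_singleton_iff]
  calc g⁻¹ * x * g * dz S D = g⁻¹ * (x * (g * dz S D * g⁻¹)) * g := by group
    _ = g⁻¹ * ((g * dz S D * g⁻¹) * x) * g := by rw [hg, hxi.eq]
    _ = dz S D * (g⁻¹ * x * g) := by group

/-- The centraliser of an involution normalises the cyclic subgroups of odd order it centralises. -/
theorem Gen.cent_le_normalizer (hG : Gen S D K) (h1 : OneClass G) {i : G} (hi : orderOf i = 2)
    {Y : Subgroup G} (hY : ∀ y ∈ Y, Commute y i ∧ Odd (orderOf y)) :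
    centralizer ({i} : Set G) ≤ normalizer (Y : Set G) := by
  obtain ⟨g, rfl⟩ := isConj_iff.1 (h1 _ i (dz_orderOf (S := S) (D := D)) hi)
  have hG' := hG.conj g
  rw [← dihConj_dz]
  refine hG'.cent_normalizes fun y hy => hG'.odd_mem ?_ (hY y hy).2
  rw [dihConj_dz]
  exact mem_centralizer_singleton_iff.2 (hY y hy).1.eq

theorem Gen.not_comm (hG : Gen S D K) (hK : K ≠ ⊥) : ¬ IsMulCommutative G := fun hc => by
  obtain ⟨y, hy, hy1⟩ := K.ne_bot_iff_exists_ne_one.1 hK |> fun ⟨y, hy⟩ =>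
    (⟨y.1, y.2, fun e => hy (Subtype.ext e)⟩ : ∃ y ∈ K, y ≠ 1)
  have h := hG.dt_inv hy 0
  rw [hc.is_comm.comm, inv_mul_cancel_left] at h
  refine hy1 (eq_one_of_sq (odd_orderOf_of_mem hG.odd hy) ?_)
  nth_rewrite 2 [h]
  exact mul_inv_cancel y

/-- A maximal subgroup over the normaliser of an odd subgroup. -/
theorem exists_coatom_normalizer [IsSimpleGroup G] {Y : Subgroup G} (hY : Y ≠ ⊥)
    (hodd : Odd (Nat.card Y)) {s : G} (hs : orderOf s = 2) :
    ∃ M : Subgroup G, IsCoatom M ∧ normalizer (Y : Set G) ≤ M := by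
  have hne : normalizer (Y : Set G) ≠ ⊤ := by
    intro h
    rcases (normalizer_eq_top_iff.1 h).eq_bot_or_eq_top with e | e
    · exact hY e
    · rw [e, card_top] at hodd
      exact Nat.not_even_iff_odd.2 hodd (even_iff_two_dvd.2 (hs ▸ orderOf_dvd_natCard s))
  rcases eq_top_or_exists_le_coatom (normalizer (Y : Set G)) with h | h
  · exact absurd h hne
  · exact h

theorem radP_eq_bot_of_not_dvd {q : ℕ} (hq : q.Prime) {M : Subgroup G}
    (h : ¬ q ∣ Nat.card (Cfsg.fittingSubgroup M)) : radP q M = ⊥ := by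
  haveI := Fact.mk hq
  have hle : Cfsg.pCore q M ≤ Cfsg.fittingSubgroup M := CfsgLib.Solvable.pCore_le_fittingSubgroup q
  have hbot : Cfsg.pCore q M = ⊥ := by
    by_contra hne
    obtain ⟨n, hn⟩ := (CfsgLib.Solvable.pCore_isPGroup (G := M) q).exists_card_eq
    rcases n with _ | n
    · exact hne (Subgroup.eq_bot_of_card_eq _ (hn.trans (pow_zero q)))
    · exact h ((dvd_pow_self q (Nat.succ_ne_zero n)).trans (hn ▸ Subgroup.card_dvd_of_le hle))
  rw [radP, hbot, Subgroup.map_bot]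

namespace Pair

variable {M : Subgroup G} (hP : Pair S D M) (hG : Gen S D K) (h1 : OneClass G) (hK : K ≠ ⊥)
include hP hG h1 hK

omit h1 in
theorem pCore_two : Cfsg.pCore 2 M = ⊥ := by
  have : Fact (Nat.Prime 2) := ⟨Nat.prime_two⟩
  have hS : (S : Subgroup G) ≤ M := Gen.sylow_le hP.le
  haveI := CfsgLib.Solvable.pCore_normal 2 M
  have huniq : ∀ u : M, u ∈ Cfsg.pCore 2 M → orderOf u = 2 → (u : G) = dz S D := by
    intro u hu huo
    have huS : (u : G) ∈ (S : Subgroup G) :=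
      mem_subgroupOf.1 (CfsgLib.Solvable.pCore_le_sylow (S.subtype hS) hu)
    by_contra hne
    refine hK (eq_bot_iff.2 fun k hk => mem_bot.2 ?_)
    have hkM : k ∈ M := hP.le (hG.le_cent hk)
    have h2 : u * ((⟨k, hkM⟩ : M) * u⁻¹ * (⟨k, hkM⟩ : M)⁻¹) ∈ Cfsg.pCore 2 M :=
      mul_mem hu ((CfsgLib.Solvable.pCore_normal 2 M).conj_mem _ (inv_mem hu) _)
    have h3 : ((u * ((⟨k, hkM⟩ : M) * u⁻¹ * (⟨k, hkM⟩ : M)⁻¹) : M) : G) = k⁻¹ * k⁻¹ := by
      show (u : G) * (k * (u : G)⁻¹ * k⁻¹) = _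
      rw [← mul_assoc, ← mul_assoc, hG.invol_inv_K (sylow_le_cent huS)
        (by rw [Subgroup.orderOf_coe]; exact huo) hne hk]
    have h4 : k⁻¹ * k⁻¹ ∈ (S : Subgroup G) :=
      h3 ▸ mem_subgroupOf.1 (CfsgLib.Solvable.pCore_le_sylow (S.subtype hS) h2)
    exact inv_eq_one.1 (eq_one_of_sq (odd_orderOf_of_mem hG.odd (inv_mem hk))
      (hG.inf_sylow (mul_mem (inv_mem hk) (inv_mem hk)) h4))
  by_contra hne
  obtain ⟨n, hn⟩ := (CfsgLib.Solvable.pCore_isPGroup (G := M) 2).exists_card_eq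
  rcases n with _ | n
  · exact hne (Subgroup.eq_bot_of_card_eq _ (hn.trans (pow_zero 2)))
  obtain ⟨⟨u, hu⟩, huo⟩ := exists_prime_orderOf_dvd_card' 2 (hn ▸ dvd_pow_self 2 (Nat.succ_ne_zero n))
  rw [Subgroup.orderOf_mk] at huo
  have hu' := huniq u hu huo
  refine hP.notcore fun o ho => mem_centralizer_singleton_iff.2 ?_
  have hoM : o ∈ M := by
    obtain ⟨w, -, rfl⟩ := ho
    exact w.2
  have h2 := huniq _ ((CfsgLib.Solvable.pCore_normal 2 M).conj_mem u hu ⟨o, hoM⟩)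
    (by rw [orderOf_conj_eq]; exact huo)
  change o * (u : G) * o⁻¹ = dz S D at h2
  rw [hu'] at h2
  exact mul_inv_eq_iff_eq_mul.1 h2

omit h1 in
theorem fit_odd : Odd (Nat.card (Cfsg.fittingSubgroup M)) := by
  rw [← Nat.not_even_iff_odd, even_iff_two_dvd]
  intro h
  exact radP_ne_bot_of_dvd (M := M) Nat.prime_two h (by rw [radP, hP.pCore_two hG hK, Subgroup.map_bot])

omit h1 in
theorem fIn_odd : Odd (Nat.card (FIn M)) := by
  rw [card_map_of_injective (subtype_injective _)]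
  exact hP.fit_odd hG hK

omit h1 in
theorem fit_le_oddIn : FIn M ≤ oddIn M :=
  le_oddIn (map_subtype_le _) (hP.fIn_odd hG hK) (le_normalizer_FIn M)

omit h1 in
/-- An involution of `M` centralising `F(M)` centralises `O(M)`. -/
theorem cent_core {i : G} (hiM : i ∈ M) (hi : orderOf i = 2) (hF : ∀ f ∈ FIn M, Commute i f) {o : G}
    (ho : o ∈ oddIn M) : Commute i o := by
  obtain ⟨w, hw, rfl⟩ := ho
  haveI : (Cfsg.oddCore M).Normal := CfsgLib.Solvable.pPrimeCore_normal 2 _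
  haveI : (Cfsg.fittingSubgroup M).Normal := CfsgLib.Comp.fittingSubgroup_normal M
  have hOodd : Odd (Nat.card (Cfsg.oddCore M)) :=
    Nat.coprime_two_right.1 (CfsgLib.Solvable.pPrimeCore_coprime 2)
  obtain ⟨j, hj⟩ : ∃ j : M, j = ⟨i, hiM⟩ := ⟨_, rfl⟩
  have hjF : ∀ f ∈ Cfsg.fittingSubgroup M, Commute j f := fun f hf =>
    Subtype.ext (by rw [hj]; exact (hF f ⟨f, hf, rfl⟩).eq)
  have hjj : j * j = 1 := Subtype.ext (by rw [hj]; exact invol_mul_self hi)
  have hji : j⁻¹ = j := inv_eq_of_mul_eq_one_right hjj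
  obtain ⟨v, hv⟩ : ∃ v : M, v = j * w * j⁻¹ * w⁻¹ := ⟨_, rfl⟩
  have hvO : v ∈ Cfsg.oddCore M :=
    hv ▸ mul_mem (Subgroup.Normal.conj_mem inferInstance w hw j) (inv_mem hw)
  have hcl : Cfsg.oddCore M ⊓ centralizer (Cfsg.fittingSubgroup M : Set M) ≤
      Cfsg.fittingSubgroup M :=
    CfsgLib.Comp.le_fittingSubgroup_of_isSolvable
      (Subgroup.Normal.isSubnormal inferInstance)
      (CfsgLib.FT.odd_order_solvable
        (hOodd.of_dvd_nat (Subgroup.card_dvd_of_le inf_le_left))) inf_le_right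
  have hvF : v ∈ Cfsg.fittingSubgroup M := by
    refine hcl ⟨hvO, mem_centralizer_iff.2 fun f hf => ?_⟩
    have e1 : Commute j f := hjF f hf
    have e2 : Commute j (w⁻¹ * f * w) := by
      refine hjF _ ?_
      have := Subgroup.Normal.conj_mem (H := Cfsg.fittingSubgroup M) inferInstance f hf w⁻¹
      rwa [inv_inv] at this
    have h : v * f * v⁻¹ = f := by
      calc v * f * v⁻¹ = j * w * (j⁻¹ * (w⁻¹ * f * w) * j) * w⁻¹ * j⁻¹ := by rw [hv]; group
        _ = j * w * (w⁻¹ * f * w) * w⁻¹ * j⁻¹ := by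
          rw [show j⁻¹ * (w⁻¹ * f * w) * j = w⁻¹ * f * w by
            rw [mul_assoc, ← e2.eq, inv_mul_cancel_left]]
        _ = j * f * j⁻¹ := by group
        _ = f := by rw [e1.eq, mul_inv_cancel_right]
    exact (mul_inv_eq_iff_eq_mul.1 h).symm
  have h2 : j * v * j⁻¹ = v⁻¹ := by
    rw [hv, hji]
    calc j * (j * w * j * w⁻¹) * j = (j * j) * w * j * w⁻¹ * j := by group
      _ = w * j⁻¹ * w⁻¹ * j⁻¹ := by rw [hjj, hji, one_mul]
      _ = (j * w * j * w⁻¹)⁻¹ := by group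
  rw [(hjF v hvF).eq, mul_inv_cancel_right] at h2
  have hv1 : v = 1 := eq_one_of_sq (odd_orderOf_of_mem hOodd hvO) (by
    nth_rewrite 2 [h2]
    exact mul_inv_cancel v)
  rw [hv, mul_inv_eq_one] at hv1
  have := congrArg Subtype.val (mul_inv_eq_iff_eq_mul.1 hv1)
  rw [hj] at this
  exact this

omit h1 in
theorem not_cent : ¬ ∀ f ∈ FIn M, Commute (dz S D) f := fun h =>
  hP.notcore fun _ ho => mem_centralizer_singleton_iff.2
    (hP.cent_core hG hK (hP.le (sylow_le_cent dz_mem)) dz_orderOf h ho).symm.eq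

theorem cent_fit : centralizer (Cfsg.fittingSubgroup M : Set M) ≤ Cfsg.fittingSubgroup M := by
  haveI : (Cfsg.fittingSubgroup M).Normal := CfsgLib.Comp.fittingSubgroup_normal M
  set Z := centralizer (Cfsg.fittingSubgroup M : Set M) with hZ
  rcases Nat.even_or_odd (Nat.card Z) with hev | hodd
  swap
  · exact CfsgLib.Comp.le_fittingSubgroup_of_isSolvable (Subgroup.Normal.isSubnormal inferInstance)
      (CfsgLib.FT.odd_order_solvable hodd) le_rfl
  exfalso
  have : Fact (Nat.Prime 2) := ⟨Nat.prime_two⟩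
  obtain ⟨⟨u, hu⟩, huo⟩ := exists_prime_orderOf_dvd_card' 2 (even_iff_two_dvd.1 hev)
  rw [Subgroup.orderOf_mk] at huo
  have hS : (S : Subgroup G) ≤ M := Gen.sylow_le hP.le
  obtain ⟨m, hm⟩ := exists_conj_invol_mem_sylow (S.subtype hS) huo
  obtain ⟨i, hi⟩ : ∃ i : M, i = m * u * m⁻¹ := ⟨_, rfl⟩
  have hiS : (i : G) ∈ (S : Subgroup G) := hi ▸ hm
  have hi2 : orderOf (i : G) = 2 := by rw [Subgroup.orderOf_coe, hi, orderOf_conj_eq]; exact huo
  have hiF : ∀ f ∈ FIn M, Commute (i : G) f := by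
    rintro _ ⟨f, hf, rfl⟩
    have hiZ : i ∈ Z := hi ▸ (inferInstance : Z.Normal).conj_mem u hu m
    exact (congrArg Subtype.val (mem_centralizer_iff.1 hiZ f hf)).symm
  by_cases hne : (i : G) = dz S D
  · exact hP.not_cent hG hK fun f hf => hne ▸ hiF f hf
  rcases Nat.lt_or_ge D.h 2 with hh | hh
  · rcases hG.fusion hP.le with hnone | hone | ⟨a, -, -, h⟩
    · refine hK (eq_bot_iff.2 fun k hk => mem_bot.2 ?_)
      have hkO := hG.mem_oddIn_of_none hP.le hnone (hP.le (hG.le_cent hk))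
        (odd_orderOf_of_mem hG.odd hk)
      have h2 := hG.invol_inv_K (sylow_le_cent hiS) hi2 hne hk
      rw [(hP.cent_core hG hK i.2 hi2 hiF hkO).eq, mul_inv_cancel_right] at h2
      refine eq_one_of_sq (odd_orderOf_of_mem hG.odd hk) ?_
      nth_rewrite 2 [h2]
      exact mul_inv_cancel k
    · exact hP.notone hone
    · omega
  · obtain ⟨p, hp, hpx⟩ := hG.exists_half hh (sylow_le_cent hiS) hi2 hne
    refine hP.not_cent hG hK fun f hf => ?_
    have h2 : Commute (dz S D * (i : G)) f := by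
      rw [← hpx]
      have hf' := conj_mem_of_le (le_normalizer_FIn M) (inv_mem (hP.le hp)) hf
      rw [inv_inv] at hf'
      have := (hiF _ hf').map (MulAut.conj p)
      simp only [MulAut.conj_apply] at this
      rwa [show p * (p⁻¹ * f * p) * p⁻¹ = f by group] at this
    have := h2.mul_left (hiF f hf)
    rwa [mul_assoc, invol_mul_self hi2, mul_one] at this

theorem layer_bot : Cfsg.layer M = ⊥ :=
  (CfsgLib.Comp.centralizer_fitting_le_iff M).1 (hP.cent_fit hG h1 hK)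

theorem leads {N Q : Subgroup G} (hQ : Q ≠ ⊥) (hQF : Q ≤ FIn M)
    (h : FIn M ⊓ normalizer (Q : Set G) ≤ N) : Cfsg.leadsTo M N := by
  refine ⟨Q, hQ, hQF, ?_⟩
  rwa [Cfsg.generalizedFittingSubgroup, hP.layer_bot hG h1 hK, bot_sup_eq]

/-- An involution of `S` not fused with the centre in `M` with a fixed point on `F(M)`. -/
theorem exists_w : ∃ w ∈ (S : Subgroup G), orderOf w = 2 ∧ w ≠ dz S D ∧ ¬ MConj M (dz S D) w ∧
    ∃ x ∈ FIn M, (orderOf x).Prime ∧ Commute x w := by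
  have hS : (S : Subgroup G) ≤ M := Gen.sylow_le hP.le
  have hFodd := hP.fIn_odd hG hK
  obtain ⟨j, hj⟩ : ∃ j, ¬ MConj M (dz S D) (dt S D j) := by
    by_contra hall
    push Not at hall
    rcases hG.fusion hP.le with hnone | hone | ⟨a, -, hb, -⟩
    exacts [hnone 0 (hall 0), hP.notone hone, hb (hall _)]
  have hj' : ¬ MConj M (dz S D) (dt S D (D.h + j)) := by
    rcases hG.fusion hP.le with hnone | hone | ⟨a, -, -, hh⟩
    · exact hnone _
    · exact absurd hone hP.notone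
    · intro h
      obtain ⟨p, hp, hpx⟩ := hG.exists_half hh (sylow_le_cent (dt_mem j)) (dt_orderOf j) (dt_ne_dz j)
      rw [dz_mul_dt] at hpx
      exact hj (h.trans' (MConj.symm' ⟨p, hP.le hp, hpx⟩))
  by_cases hfix : ∃ w, (w = dt S D j ∨ w = dt S D (D.h + j)) ∧ ∃ f ∈ FIn M, f ≠ 1 ∧ Commute f w
  · obtain ⟨w, hw, f, hf, hf1, hfw⟩ := hfix
    have hx : ∃ x ∈ FIn M, (orderOf x).Prime ∧ Commute x w := by
      obtain ⟨q, hq, hqd⟩ := Nat.exists_prime_and_dvd (fun e => hf1 (orderOf_eq_one_iff.1 e))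
      exact ⟨f ^ (orderOf f / q), pow_mem hf _, by
        rw [orderOf_pow_orderOf_div (orderOf_pos f).ne' hqd]; exact hq, hfw.pow_left _⟩
    rcases hw with rfl | rfl
    · exact ⟨_, dt_mem j, dt_orderOf j, dt_ne_dz j, hj, hx⟩
    · exact ⟨_, dt_mem _, dt_orderOf _, dt_ne_dz _, hj', hx⟩
  · push Not at hfix
    exfalso
    have hinv : ∀ i, (i = j ∨ i = (D.h : ℤ) + j) → ∀ f ∈ FIn M,
        dt S D i * f * (dt S D i)⁻¹ = f⁻¹ := fun i hi f hf =>
      inv_of_fpf (dt_orderOf i) (fun x hx => conj_mem_of_le (le_normalizer_FIn M) (hS (dt_mem i)) hx)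
        (fun x hx hxc => by
          by_contra hx1
          exact hfix (dt S D i) (hi.imp (congrArg (dt S D)) (congrArg (dt S D))) x hx hx1 hxc) hf
    refine hP.not_cent hG hK fun f hf => ?_
    have e : dt S D ((D.h : ℤ) + j) * dt S D j = dz S D := by
      rw [← dz_mul_dt, mul_assoc, invol_mul_self (dt_orderOf j), mul_one]
    refine mul_inv_eq_iff_eq_mul.1 ?_
    rw [← e, show dt S D ((D.h : ℤ) + j) * dt S D j * f * (dt S D ((D.h : ℤ) + j) * dt S D j)⁻¹ =
      dt S D ((D.h : ℤ) + j) * (dt S D j * f * (dt S D j)⁻¹) * (dt S D ((D.h : ℤ) + j))⁻¹ by group,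
      hinv j (Or.inl rfl) f hf, hinv _ (Or.inr rfl) _ (inv_mem hf), inv_inv]

end Pair

end CfsgLib.Recog.GenDih
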