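import Cfsg.Agent.Lib.StructC.CentFour.FixCentralizer
import Cfsg.Agent.Lib.BlockA.DihedralOrder
import Cfsg.Agent.Lib.InvChar.BSWChars
import Cfsg.Agent.Lib.Geom.SimpleSixty

/-!
The index lemma for dihedral Sylow 2-subgroups: a proper subgroup containing the centralizer of a
central involution and having one class of involutions has index at most five, so in a simple group
it occurs only in the alternating group of degree five.
-/

set_option autoImplicit false
set_option linter.unusedSectionVars false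
set_option maxHeartbeats 1000000

namespace CfsgLib.Recog.GenDihedral

open Subgroup CfsgLib.Invol CfsgLib.BlockA.DihedralBlock

universe u

theorem dihedral_bounds {x d : ℤ} (hx : 1 ≤ x) (hd : d = 1 ∨ d = -1) (h4 : 4 ∣ x - d) (hne : x ≠ d) :
    3 * (x - d) ^ 2 ≤ 8 * (x * (x + d)) ∧ 8 * (x * (x + d)) ≤ 15 * (x - d) ^ 2 := by
  obtain ⟨k, hk⟩ := h4
  rcases hd with rfl | rfl
  · have h5 : 5 ≤ x := by omega
    constructor <;> nlinarith [mul_nonneg (sub_nonneg.2 h5) (show (0 : ℤ) ≤ x by omega)]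
  · have h3 : 3 ≤ x := by omega
    constructor <;> nlinarith [mul_nonneg (sub_nonneg.2 h3) (show (0 : ℤ) ≤ x by omega)]

theorem klein_upper {x y w e f g : ℤ} (hx : 1 ≤ x) (hy : 1 ≤ y) (hw : 1 ≤ w) (ox : Odd x)
    (oy : Odd y) (ow : Odd w) (he : e = 1 ∨ e = -1) (hf : f = 1 ∨ f = -1) (hg : g = 1 ∨ g = -1)
    (hsum : 1 + e * x + f * y + g * w = 0) (hne : (x + e) * (y + f) * (w + g) ≠ 0) :
    8 * (x * y * w) ≤ 15 * ((x + e) * (y + f) * (w + g)) := by
  have one : ∀ p q r : ℤ, 1 ≤ p → 1 ≤ q → r = p + q + 1 →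
      8 * (p * q * r) ≤ 15 * ((p + 1) * (q + 1) * (r + -1)) := by
    rintro p q r hp hq rfl
    have : 0 ≤ p * q := mul_nonneg (by omega) (by omega)
    nlinarith [mul_nonneg this (show (0 : ℤ) ≤ p + q by omega)]
  have two : ∀ p q r : ℤ, Odd p → Odd q → 1 ≤ p → 1 ≤ q → r + 1 = p + q → (p + -1) * (q + -1) ≠ 0 →
      8 * (r * p * q) ≤ 15 * ((r + 1) * (p + -1) * (q + -1)) := by
    rintro p q r ⟨a, rfl⟩ ⟨b, rfl⟩ hp hq hr hpq
    obtain ⟨h1, h2⟩ := mul_ne_zero_iff.1 hpq
    obtain rfl : r = 2 * a + 2 * b + 1 := by omega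
    have ha : 1 ≤ a := by omega
    have hb : 1 ≤ b := by omega
    nlinarith [mul_nonneg (sub_nonneg.2 ha) (sub_nonneg.2 hb),
      mul_nonneg (mul_nonneg (sub_nonneg.2 ha) (sub_nonneg.2 hb)) (show (0 : ℤ) ≤ a + b by omega),
      mul_nonneg (sub_nonneg.2 ha) (show (0 : ℤ) ≤ a + b by omega),
      mul_nonneg (sub_nonneg.2 hb) (show (0 : ℤ) ≤ a + b by omega)]
  obtain ⟨⟨h1, h2⟩, h3⟩ : (x + e ≠ 0 ∧ y + f ≠ 0) ∧ w + g ≠ 0 :=
    ⟨mul_ne_zero_iff.1 (mul_ne_zero_iff.1 hne).1, (mul_ne_zero_iff.1 hne).2⟩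
  rcases he with rfl | rfl <;> rcases hf with rfl | rfl <;> rcases hg with rfl | rfl
  · omega
  · exact one x y w hx hy (by omega)
  · have := one x w y hx hw (by omega); linarith
  · have := two y w x oy ow hy hw (by omega) (mul_ne_zero h2 h3); linarith
  · have := one y w x hy hw (by omega); linarith
  · have := two x w y ox ow hx hw (by omega) (mul_ne_zero h1 h3); linarith
  · have := two x y w ox oy hx hy (by omega) (mul_ne_zero h1 h2); linarith
  · omega

variable {G : Type u} [Group G] [Finite G] (P : Sylow 2 G) (D : DihData (P : Subgroup G))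

theorem isKleinFour_of_h_one (hh : D.h = 1) : IsKleinFour (P : Subgroup G) := by
  refine CfsgLib.BlockA.isKleinFour_of_sq (by rw [D.card_eq, hh]) fun u => ?_
  rw [← pow_two, ← orderOf_dvd_iff_pow_eq_one]
  rcases D.cases u with ⟨i, rfl⟩ | ⟨i, rfl⟩
  · have h2 : D.r ^ 2 = 1 := by
      rw [← orderOf_dvd_iff_pow_eq_one, D.orderOf_r, hh]
    rw [orderOf_dvd_iff_pow_eq_one, ← zpow_natCast, zpow_comm, zpow_natCast, h2, one_zpow]
  · rw [D.orderOf_zy i]

/-- The order formula as a bounded multiple of the centralizer data, order at least eight. -/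
theorem dihedral_order_bounds (hh : 2 ≤ D.h)
    (hone : ∀ s t : G, orderOf s = 2 → orderOf t = 2 → IsConj s t) :
    ∃ f : ℚ, 3 ≤ 8 * f ∧ 8 * f ≤ 15 ∧ (Nat.card G : ℚ) = f *
      (2 * (Nat.card (centralizer ({dz P D} : Set G)) : ℚ) ^ 3 *
        (1 / (Nat.card (centralizer ({dz P D, dt P D 0} : Set G)) : ℚ) +
          1 / (Nat.card (centralizer ({dz P D, dt P D 1} : Set G)) : ℚ)) ^ 2) := by
  classical
  have := Fintype.ofFinite G
  obtain ⟨M, hM⟩ := CfsgLib.BlockB.exists_isPModular Nat.prime_two (p := 2)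
  have := hM.2.1.isPrime
  obtain ⟨ζ, hζ⟩ : ∃ ζ : ℂ, IsPrimitiveRoot ζ (2 * D.h) :=
    ⟨_, Complex.isPrimitiveRoot_exp _ (by omega)⟩
  obtain ⟨χ₁, χ₂, χ₃, χ', δ₁, δ₂, δ₃, S⟩ := exists_shape hM P D hh hζ
  obtain ⟨hne, hord⟩ := order_formula hM P D hh hζ S hone
  set x := Cfsg.charDegree (χ₁ : G → ℂ) with hx
  -- the congruence of the degree
  have h4 : (4 : ℤ) ∣ (x : ℤ) - δ₁ := by
    set R := zpowers (rot P D) with hR
    have := Fintype.ofFinite R
    obtain ⟨n, hn⟩ := CfsgLib.InvChar.BSW.sum_subgroup_eq R χ₁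
    have ho : orderOf (rot P D) = 2 * D.h := orderOf_rot P D
    have hcard : Nat.card R = 2 * D.h := by rw [hR, Nat.card_zpowers, ho]
    have hval : ∀ v : R, (χ₁ : G → ℂ) v = (if v = 1 then (x : ℂ) - δ₁ else 0) + δ₁ := by
      intro v
      split_ifs with hv
      · rw [hv, sub_add_cancel, hx, CfsgLib.BlockB.irr_degree_cast]; rfl
      · rw [zero_add]
        obtain ⟨l, hl⟩ := mem_powers_iff_mem_zpowers.2 v.2
        simp only at hl
        have := S.val₁ l fun hd => hv (Subtype.ext (by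
          rw [← hl, OneMemClass.coe_one]
          exact orderOf_dvd_iff_pow_eq_one.1 (ho ▸ hd : orderOf (rot P D) ∣ l)))
        rwa [hl] at this
    rw [Finset.sum_congr rfl fun v _ => hval v, Finset.sum_add_distrib, Finset.sum_ite_eq',
      if_pos (Finset.mem_univ _), Finset.sum_const, Finset.card_univ, ← Nat.card_eq_fintype_card,
      hcard, nsmul_eq_mul] at hn
    have hn' : (x : ℤ) - δ₁ = (2 * D.h : ℕ) * ((n : ℤ) - δ₁) := by
      apply Int.cast_injective (α := ℂ)
      push_cast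
      push_cast at hn
      linear_combination hn
    rw [hn']
    obtain ⟨k, hk⟩ := D.h_pow
    rcases k with _ | k
    · simp at hk; omega
    · exact Dvd.dvd.mul_right (by
        rw [hk, pow_succ]; exact ⟨(2 ^ k : ℕ), by push_cast; ring⟩) _
  have hpos : (1 : ℤ) ≤ x := by exact_mod_cast CfsgLib.BlockB.irr_degree_pos χ₁
  obtain ⟨b1, b2⟩ := dihedral_bounds hpos S.sgn₁ h4 hne
  have hsq : (0 : ℚ) < ((x : ℚ) - δ₁) ^ 2 := by
    refine pow_two_pos_of_ne_zero (sub_ne_zero.2 fun e => hne ?_)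
    exact_mod_cast e
  refine ⟨(x : ℚ) * (x + δ₁) / ((x : ℚ) - δ₁) ^ 2, ?_, ?_, ?_⟩
  · rw [mul_div_assoc', le_div_iff₀ hsq]; exact_mod_cast b1
  · rw [mul_div_assoc', div_le_iff₀ hsq]; exact_mod_cast b2
  · rw [div_mul_eq_mul_div, eq_div_iff hsq.ne', hord]
    ring

/-- The order formula as a bounded multiple of the centralizer data, Klein four case. -/
theorem klein_order_bounds (hP : IsKleinFour (P : Subgroup G)) {s : G}
    (hs : s ∈ (P : Subgroup G)) (hs1 : s ≠ 1)
    (hone : ∀ a b : G, orderOf a = 2 → orderOf b = 2 → IsConj a b) :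
    ∃ f : ℚ, 3 ≤ 8 * f ∧ 8 * f ≤ 15 ∧ (Nat.card G : ℚ) = f *
      (8 * (Nat.card (centralizer ({s} : Set G)) : ℚ) ^ 3 /
        (Nat.card (centralizer ((P : Subgroup G) : Set G)) : ℚ) ^ 2) := by
  classical
  have := Fintype.ofFinite G
  obtain ⟨M, hM⟩ := CfsgLib.BlockB.exists_isPModular Nat.prime_two (p := 2)
  have := hM.2.1.isPrime
  obtain ⟨hcard4, hvals⟩ := CfsgLib.BlockA.klein_principal_card hM P hP hone hs hs1
  set B := Cfsg.principalBlock M G with hB
  have htriv : CfsgLib.Block.trivIrr ∈ B := CfsgLib.Block.one_mem_principalBlock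
  have h3 : (B \ {CfsgLib.Block.trivIrr}).ncard = 3 := by
    rw [Set.ncard_sdiff_singleton_of_mem htriv, ← Nat.card_coe_set_eq, hcard4]
  obtain ⟨χ₁, χ₂, χ₃, h12, h13, h23, he⟩ := Set.ncard_eq_three.1 h3
  have hmem : ∀ χ, χ = χ₁ ∨ χ = χ₂ ∨ χ = χ₃ → χ ∈ B ∧ χ ≠ CfsgLib.Block.trivIrr := by
    intro χ hχ
    have : χ ∈ B \ {CfsgLib.Block.trivIrr} := by rw [he]; simpa using hχ
    simpa using this
  have hBset : Cfsg.principalBlock M G = {χ : Cfsg.IrrCharacter G |
      (χ : G → ℂ) = (fun _ => 1) ∨ χ = χ₁ ∨ χ = χ₂ ∨ χ = χ₃} := by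
    ext χ
    constructor
    · intro hχ
      by_cases e : χ = CfsgLib.Block.trivIrr
      · exact Or.inl (by rw [e]; rfl)
      · exact Or.inr (by
          have : χ ∈ B \ {CfsgLib.Block.trivIrr} := ⟨hχ, e⟩
          rw [he] at this
          simpa using this)
    · rintro (e | e)
      · rw [show χ = CfsgLib.Block.trivIrr from Subtype.ext e]; exact htriv
      · exact (hmem χ e).1
  have hdist : (χ₁ : G → ℂ) ≠ (fun _ => 1) ∧ (χ₂ : G → ℂ) ≠ (fun _ => 1) ∧
      (χ₃ : G → ℂ) ≠ (fun _ => 1) ∧ χ₁ ≠ χ₂ ∧ χ₁ ≠ χ₃ ∧ χ₂ ≠ χ₃ :=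
    ⟨fun e => (hmem χ₁ (Or.inl rfl)).2 (Subtype.ext e),
      fun e => (hmem χ₂ (Or.inr (Or.inl rfl))).2 (Subtype.ext e),
      fun e => (hmem χ₃ (Or.inr (Or.inr rfl))).2 (Subtype.ext e), h12, h13, h23⟩
  have hss : s * s = 1 := invol_mul_self (CfsgLib.Invol.klein_orderOf hP hs hs1)
  have hsgn : ∀ χ : Cfsg.IrrCharacter G, χ ∈ B → ∃ e : ℤ, (e = 1 ∨ e = -1) ∧
      (χ : G → ℂ) s = e ∧ Odd (Cfsg.charDegree (χ : G → ℂ) : ℤ) := fun χ hχ => by
    have ho : Odd (Cfsg.charDegree (χ : G → ℂ) : ℤ) := by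
      exact_mod_cast CfsgLib.BlockA.odd_degree_of_invol (CfsgLib.Char.irr_isCharacter χ.2) hss
        (hvals χ hχ)
    rcases hvals χ hχ with e | e
    · exact ⟨1, Or.inl rfl, by simpa using e, ho⟩
    · exact ⟨-1, Or.inr rfl, by simpa using e, ho⟩
  obtain ⟨e₁, he₁, v₁, o₁⟩ := hsgn χ₁ (hmem _ (Or.inl rfl)).1
  obtain ⟨e₂, he₂, v₂, o₂⟩ := hsgn χ₂ (hmem _ (Or.inr (Or.inl rfl))).1
  obtain ⟨e₃, he₃, v₃, o₃⟩ := hsgn χ₃ (hmem _ (Or.inr (Or.inr rfl))).1
  have hrel := CfsgLib.BlockA.klein_degree_relation hM hP hone hs hs1 hBset hdist ⟨v₁, v₂, v₃⟩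
  have hord := CfsgLib.BlockA.klein_order_formula hM hP hone hs hs1 hBset hdist ⟨v₁, v₂, v₃⟩
    ⟨he₁, he₂, he₃⟩
  have hp : ∀ χ : Cfsg.IrrCharacter G, (1 : ℤ) ≤ Cfsg.charDegree (χ : G → ℂ) := fun χ => by
    exact_mod_cast CfsgLib.BlockB.irr_degree_pos χ
  set x : ℤ := (Cfsg.charDegree (χ₁ : G → ℂ) : ℤ)
  set y : ℤ := (Cfsg.charDegree (χ₂ : G → ℂ) : ℤ)
  set w : ℤ := (Cfsg.charDegree (χ₃ : G → ℂ) : ℤ)
  set c : ℕ := Nat.card (centralizer ({s} : Set G)) with hc
  set cP : ℕ := Nat.card (centralizer ((P : Subgroup G) : Set G)) with hcP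
  have hprod : 0 < x * y * w :=
    mul_pos (mul_pos (by linarith [hp χ₁]) (by linarith [hp χ₂])) (by linarith [hp χ₃])
  have hcpos : (0 : ℤ) < c := by exact_mod_cast (Nat.card_pos (α := centralizer ({s} : Set G)))
  have hPpos : (0 : ℤ) < cP := by
    exact_mod_cast (Nat.card_pos (α := centralizer ((P : Subgroup G) : Set G)))
  have hne : 0 < (x + e₁) * (y + e₂) * (w + e₃) := by
    have h0 : 0 < 8 * (c : ℤ) ^ 3 * (x * y * w) := by positivity
    rw [← hord] at h0
    exact pos_of_mul_pos_right (pos_of_mul_pos_left h0 (sq_nonneg _)) (Int.natCast_nonneg _)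
  have b1 := CfsgLib.StructC.CentFour.klein_ratio (hp χ₁) (hp χ₂) (hp χ₃) he₁ he₂ he₃ hrel
  have b2 := klein_upper (hp χ₁) (hp χ₂) (hp χ₃) o₁ o₂ o₃ he₁ he₂ he₃ hrel hne.ne'
  have hq : (0 : ℚ) < ((x + e₁) * (y + e₂) * (w + e₃) : ℤ) := Int.cast_pos.2 hne
  refine ⟨((x * y * w : ℤ) : ℚ) / ((x + e₁) * (y + e₂) * (w + e₃) : ℤ), ?_, ?_, ?_⟩
  · rw [mul_div_assoc', le_div_iff₀ hq]; exact_mod_cast b1
  · rw [mul_div_assoc', div_le_iff₀ hq]; exact_mod_cast b2
  · have hordQ := congrArg (fun z : ℤ => (z : ℚ)) hord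
    push_cast at hordQ
    have hP0 : ((cP : ℚ)) ^ 2 ≠ 0 := pow_ne_zero _ (by exact_mod_cast hPpos.ne')
    rw [div_mul_div_comm, eq_div_iff (mul_ne_zero hq.ne' hP0)]
    push_cast
    linear_combination hordQ

/-- Centralizers inside a subgroup that contains them. -/
theorem card_centralizer_preimage {M : Subgroup G} (s : Set G) (hs : s ⊆ M)
    (hC : centralizer s ≤ M) :
    Nat.card (centralizer (M.subtype ⁻¹' s)) = Nat.card (centralizer s) :=
  Nat.card_congr
    { toFun := fun x => ⟨((x : M) : G), mem_centralizer_iff.2 fun y hy =>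
        congrArg Subtype.val (mem_centralizer_iff.1 x.2 ⟨y, hs hy⟩ hy)⟩
      invFun := fun x => ⟨⟨x, hC x.2⟩, mem_centralizer_iff.2 fun y hy =>
        Subtype.ext (mem_centralizer_iff.1 x.2 _ hy)⟩
      left_inv := fun x => rfl
      right_inv := fun x => rfl }

/-- A normal form moved along an isomorphism. -/
noncomputable def mapData {S T : Type*} [Group S] [Group T] (e : S ≃* T) (E : DihData S) :
    DihData T where
  h := E.h
  r := e E.r
  s := e E.s
  h_pos := E.h_pos
  h_pow := E.h_pow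
  orderOf_r := (MulEquiv.orderOf_eq e E.r).trans E.orderOf_r
  orderOf_s := (MulEquiv.orderOf_eq e E.s).trans E.orderOf_s
  conj_r := by simpa only [map_mul, map_inv] using congrArg e E.conj_r
  s_notMem := fun ⟨i, hi⟩ => E.s_notMem ⟨i, e.injective (by simpa using hi)⟩
  cases := fun u => by
    obtain ⟨v, rfl⟩ : ∃ v, e v = u := ⟨e.symm u, e.apply_symm_apply u⟩
    rcases E.cases v with ⟨i, hi⟩ | ⟨i, hi⟩
    · exact Or.inl ⟨i, by rw [hi, map_zpow]⟩
    · exact Or.inr ⟨i, by rw [hi, map_mul, map_zpow]⟩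
  card_eq := (Nat.card_congr e.toEquiv).symm.trans E.card_eq

theorem sylow_le_of_centralizer_le {M : Subgroup G} (hC : centralizer ({dz P D} : Set G) ≤ M) :
    (P : Subgroup G) ≤ M :=
  (sylow_le_centralizer_dz P D).trans hC

include D in
/-- **The index lemma.** A subgroup with one class of involutions containing the centralizer of a
central involution has index at most five. -/
theorem index_le_five_of_one_class
    (hone : ∀ s t : G, orderOf s = 2 → orderOf t = 2 → IsConj s t) (M : Subgroup G)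
    (hC : centralizer ({dz P D} : Set G) ≤ M)
    (honeM : ∀ s t : M, orderOf s = 2 → orderOf t = 2 → IsConj s t) : M.index ≤ 5 := by
  classical
  have hPM := sylow_le_of_centralizer_le P D hC
  set Q : Sylow 2 M := P.subtype hPM with hQ
  let e : (P : Subgroup G) ≃* (Q : Subgroup M) := (subgroupOfEquivOfLe hPM).symm
  set E : DihData (Q : Subgroup M) := mapData e D with hE
  have hval : ∀ u : (P : Subgroup G), (((e u : (Q : Subgroup M)) : M) : G) = u := fun u => rfl
  have hez : ((dz Q E : M) : G) = dz P D := by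
    simp only [dz, DihData.z, hE, mapData, ← map_zpow]
    exact hval _
  have het : ∀ j, ((dt Q E j : M) : G) = dt P D j := fun j => by
    simp only [dt, hE, mapData, ← map_zpow, ← map_mul]
    exact hval _
  have hz : orderOf (dz P D) = 2 := (Subgroup.orderOf_coe _).trans D.orderOf_z
  obtain ⟨f, f', K, hK, hf, hf', hG, hM⟩ : ∃ f f' K : ℚ, 0 < K ∧ 8 * f ≤ 15 ∧ 3 ≤ 8 * f' ∧
      (Nat.card G : ℚ) = f * K ∧ (Nat.card M : ℚ) = f' * K := by
    have hcen : Nat.card (centralizer ({dz Q E} : Set M)) =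
        Nat.card (centralizer ({dz P D} : Set G)) := by
      rw [← card_centralizer_preimage {dz P D} (Set.singleton_subset_iff.2
        (hPM (SetLike.coe_mem _))) hC]
      refine congrArg (fun A : Set M => Nat.card (centralizer A)) ?_
      ext v
      simp [Subtype.ext_iff, hez]
    have cpos : (0 : ℚ) < Nat.card (centralizer ({dz P D} : Set G)) := Nat.cast_pos.2 Nat.card_pos
    rcases Nat.lt_or_ge D.h 2 with hh | hh
    · have hh1 : D.h = 1 := le_antisymm (by omega) D.h_pos
      have hKP := isKleinFour_of_h_one P D hh1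
      have hKQ := isKleinFour_of_h_one Q E hh1
      obtain ⟨f, -, hf, hG⟩ := klein_order_bounds P hKP (SetLike.coe_mem D.z)
        (invol_ne_one hz) hone
      obtain ⟨f', hf', -, hM⟩ := klein_order_bounds Q hKQ (SetLike.coe_mem E.z)
        (invol_ne_one ((Subgroup.orderOf_coe _).trans E.orderOf_z)) honeM
      have hcP : Nat.card (centralizer ((Q : Subgroup M) : Set M)) =
          Nat.card (centralizer ((P : Subgroup G) : Set G)) := by
        rw [← card_centralizer_preimage ((P : Subgroup G) : Set G) hPM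
          ((centralizer_le (Set.singleton_subset_iff.2 (SetLike.coe_mem D.z))).trans hC)]
        rfl
      rw [hcen, hcP] at hM
      refine ⟨f, f', _, ?_, hf, hf', hG, hM⟩
      exact div_pos (mul_pos (by norm_num) (pow_pos cpos 3)) (pow_pos (Nat.cast_pos.2 Nat.card_pos) 2)
    · obtain ⟨f, -, hf, hG⟩ := dihedral_order_bounds P D hh hone
      obtain ⟨f', hf', -, hM⟩ := dihedral_order_bounds Q E hh honeM
      have hpair : ∀ j, Nat.card (centralizer ({dz Q E, dt Q E j} : Set M)) =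
          Nat.card (centralizer ({dz P D, dt P D j} : Set G)) := by
        intro j
        rw [← card_centralizer_preimage {dz P D, dt P D j}
          (Set.insert_subset (hPM (SetLike.coe_mem _))
            (Set.singleton_subset_iff.2 (hPM (SetLike.coe_mem _))))
          ((centralizer_le (Set.singleton_subset_iff.2 (Set.mem_insert _ _))).trans hC)]
        refine congrArg (fun A : Set M => Nat.card (centralizer A)) ?_
        ext v
        simp only [Set.mem_preimage, Set.mem_insert_iff, Set.mem_singleton_iff, Subtype.ext_iff,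
          hez, het, Subgroup.coe_subtype]
      rw [hcen, hpair 0, hpair 1] at hM
      refine ⟨f, f', _, ?_, hf, hf', hG, hM⟩
      exact mul_pos (mul_pos two_pos (pow_pos cpos 3)) (pow_pos
        (add_pos (one_div_pos.2 (Nat.cast_pos.2 Nat.card_pos))
          (one_div_pos.2 (Nat.cast_pos.2 Nat.card_pos))) 2)
  have hi := M.card_mul_index
  have hiQ : (Nat.card M : ℚ) * M.index = Nat.card G := by exact_mod_cast hi
  have : (Nat.card M : ℚ) * M.index ≤ (Nat.card M : ℚ) * 5 := by
    rw [hiQ, hG, hM]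
    nlinarith
  exact_mod_cast le_of_mul_le_mul_left this (Nat.cast_pos.2 Nat.card_pos)

include D in
/-- In a simple group the index lemma leaves only the alternating group of degree five. -/
theorem altFive_of_one_class [IsSimpleGroup G] (hna : ¬ IsMulCommutative G) (M : Subgroup G)
    (hM : M ≠ ⊤) (hC : centralizer ({dz P D} : Set G) ≤ M)
    (honeM : ∀ s t : M, orderOf s = 2 → orderOf t = 2 → IsConj s t) :
    Nat.card G = 60 ∧ D.h = 1 ∧ M.index = 5 ∧ Nonempty (G ≃* alternatingGroup (Fin 5)) := by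
  classical
  have h2 := CfsgLib.Invol.index_ne_two_of_simple hna
  have hi : M.index = 5 := le_antisymm
    (index_le_five_of_one_class P D (one_class_of_no_index_two P D h2) M hC honeM)
    (CfsgLib.Invol.five_le_index hna hM)
  have := Fintype.ofFinite (G ⧸ M)
  set φ := MulAction.toPermHom G (G ⧸ M) with hφ
  have heven : ∀ g, φ g ∈ alternatingGroup (G ⧸ M) := by
    intro g
    rw [Equiv.Perm.mem_alternatingGroup]
    rcases ((Equiv.Perm.sign.comp φ).normal_ker).eq_bot_or_eq_top with h | h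
    · exfalso
      rw [MonoidHom.ker_eq_bot_iff] at h
      exact hna ⟨⟨fun a b => h (by simp only [map_mul]; exact mul_comm _ _)⟩⟩
    · exact (h ▸ mem_top g : g ∈ (Equiv.Perm.sign.comp φ).ker)
  have hinj : Function.Injective (φ.codRestrict _ heven) := fun a b he =>
    CfsgLib.Invol.toPermHom_injective_of_simple hM (congrArg Subtype.val he)
  have hd := Subgroup.card_dvd_of_injective _ hinj
  have : Nontrivial (G ⧸ M) := Fintype.one_lt_card_iff_nontrivial.1 (by
    rw [← Nat.card_eq_fintype_card, ← Subgroup.index_eq_card, hi]; norm_num)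
  rw [nat_card_alternatingGroup, ← Subgroup.index_eq_card, hi,
    show (Nat.factorial 5) / 2 = 60 by decide] at hd
  have h13 := CfsgLib.Invol.thirteen_le_card_of_simple hna
  have h4 : 4 * D.h ∣ Nat.card G := D.card_eq ▸ (P : Subgroup G).card_subgroup_dvd_card
  have hh : D.h = 1 := by
    obtain ⟨k, hk⟩ := D.h_pow
    rcases k with _ | k
    · simpa using hk
    · exfalso
      have : 8 ∣ 60 := dvd_trans (Dvd.dvd.trans ⟨2 ^ k, by rw [hk, pow_succ]; ring⟩ h4) hd
      norm_num at this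
  have h5 : 5 ∣ Nat.card G := hi ▸ M.index_dvd_card
  have h20 : 20 ∣ Nat.card G := by
    rw [hh] at h4
    exact (Nat.Coprime.mul_dvd_of_dvd_of_dvd (by norm_num : Nat.Coprime 4 5) h4 h5)
  have h60 : Nat.card G = 60 := by
    obtain ⟨c, hc⟩ := h20
    rw [hc] at hd h13 ⊢
    have hc3 : c ∣ 3 := Nat.dvd_of_mul_dvd_mul_left (show 0 < 20 by norm_num) hd
    rcases (Nat.dvd_prime Nat.prime_three).1 hc3 with rfl | rfl
    · exfalso
      have : Fact (Nat.Prime 5) := ⟨by norm_num⟩
      let Q : Sylow 5 G := default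
      have hQc : Nat.card (Q : Subgroup G) = 5 := by
        rw [Q.card_eq_multiplicity, hc]
        have : (20 : ℕ).factorization 5 = 1 := by
          rw [show (20 : ℕ) = 4 * 5 by norm_num, Nat.factorization_mul (by norm_num) (by norm_num),
            Finsupp.add_apply, Nat.factorization_eq_zero_of_not_dvd (by norm_num),
            Nat.Prime.factorization_self (by norm_num)]
        rw [this]; norm_num
      have hQi : (Q : Subgroup G).index = 4 := by
        have := (Q : Subgroup G).card_mul_index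
        rw [hQc, hc] at this
        omega
      have hQt : (Q : Subgroup G) ≠ ⊤ := fun e => by rw [e, Subgroup.index_top] at hQi; omega
      have := CfsgLib.Invol.five_le_index hna hQt
      omega
    · norm_num
  exact ⟨h60, hh, hi, CfsgLib.Geom.equiv_altFive_of_simple_sixty h60⟩

end CfsgLib.Recog.GenDihedral
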