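import Cfsg.Agent.Lib.Recog.GenDihedral.Basic
import Cfsg.Prelude.Def_CaseTheorems

/-!
# Subgroups containing the centraliser, conjugates, and fusion in subgroups
-/

set_option autoImplicit false
set_option linter.unusedSectionVars false

namespace CfsgLib.Recog.GenDih

open Subgroup CfsgLib.Invol

universe u v

/-- Dihedral data along an isomorphism. -/
def dihMap {A : Type u} {B : Type v} [Group A] [Group B] (e : A ≃* B) (D : DihData A) : DihData B where
  h := D.h
  r := e D.r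
  s := e D.s
  h_pos := D.h_pos
  h_pow := D.h_pow
  orderOf_r := by rw [MulEquiv.orderOf_eq, D.orderOf_r]
  orderOf_s := by rw [MulEquiv.orderOf_eq, D.orderOf_s]
  conj_r := by rw [← map_mul, ← map_inv, ← map_mul, D.conj_r, map_inv]
  s_notMem := fun h => D.s_notMem (by
    obtain ⟨i, hi⟩ := mem_zpowers_iff.1 h
    rw [← map_zpow] at hi
    exact mem_zpowers_iff.2 ⟨i, e.injective hi⟩)
  cases := fun u => by
    rcases D.cases (e.symm u) with ⟨i, hi⟩ | ⟨i, hi⟩
    · exact Or.inl ⟨i, by rw [← map_zpow, ← hi, MulEquiv.apply_symm_apply]⟩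
    · exact Or.inr ⟨i, by rw [← map_zpow, ← map_mul, ← hi, MulEquiv.apply_symm_apply]⟩
  card_eq := by rw [Nat.card_congr e.symm.toEquiv, D.card_eq]

variable {G : Type u} [Group G] [Finite G] {S : Sylow 2 G} {D : DihData (S : Subgroup G)}
  {K : Subgroup G}

/-- The dihedral data of `S` inside a subgroup containing it. -/
def dihSub (D : DihData (S : Subgroup G)) {M : Subgroup G} (h : (S : Subgroup G) ≤ M) :
    DihData ((S.subtype h : Sylow 2 M) : Subgroup M) :=
  dihMap (Subgroup.subgroupOfEquivOfLe h).symm D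

theorem dihSub_dz {M : Subgroup G} (h : (S : Subgroup G) ≤ M) :
    ((dz (S.subtype h) (dihSub D h) : M) : G) = dz S D := by
  show ((((Subgroup.subgroupOfEquivOfLe h).symm D.r) ^ (D.h : ℤ) : _) : G) = _
  rw [← map_zpow]
  rfl

theorem dihSub_dt {M : Subgroup G} (h : (S : Subgroup G) ≤ M) (j : ℤ) :
    ((dt (S.subtype h) (dihSub D h) j : M) : G) = dt S D j := by
  show ((((Subgroup.subgroupOfEquivOfLe h).symm D.r) ^ j *
    (Subgroup.subgroupOfEquivOfLe h).symm D.s : _) : G) = _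
  rw [← map_zpow, ← map_mul]
  rfl

theorem dihSub_h {M : Subgroup G} (h : (S : Subgroup G) ≤ M) : (dihSub D h).h = D.h := rfl

theorem Gen.sylow_le {M : Subgroup G} (hM : centralizer ({dz S D} : Set G) ≤ M) :
    (S : Subgroup G) ≤ M := sylow_le_cent.trans hM

/-- The hypothesis passes to subgroups containing the centraliser. -/
theorem Gen.sub (hG : Gen S D K) {M : Subgroup G} (hM : centralizer ({dz S D} : Set G) ≤ M) :
    Gen (S.subtype (Gen.sylow_le hM)) (dihSub D (Gen.sylow_le hM)) (K.subgroupOf M) where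
  odd := by rw [Nat.card_congr (subgroupOfEquivOfLe (hG.le_cent.trans hM)).toEquiv]; exact hG.odd
  rot := fun k hk => Subtype.ext (hG.rot (k : G) (mem_subgroupOf.1 hk)).eq
  refl := fun k hk => Subtype.ext (hG.refl (k : G) (mem_subgroupOf.1 hk))
  split := fun x hx => by
    have hx' : (x : G) ∈ centralizer ({dz S D} : Set G) := by
      rw [mem_centralizer_singleton_iff] at hx ⊢
      have h := congrArg Subtype.val hx
      rwa [Subgroup.coe_mul, Subgroup.coe_mul, dihSub_dz] at h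
    obtain ⟨k, hk, p, hp, e⟩ := hG.split _ hx'
    exact ⟨⟨k, hM (hG.le_cent hk)⟩, mem_subgroupOf.2 hk, ⟨p, Gen.sylow_le hM hp⟩, hp, Subtype.ext e⟩

/-- Conjugate data. -/
def dihConj (D : DihData (S : Subgroup G)) (g : G) : DihData ((g • S : Sylow 2 G) : Subgroup G) :=
  dihMap (Subgroup.equivSMul (MulAut.conj g) (S : Subgroup G)) D

theorem dihConj_dz (g : G) : dz (g • S) (dihConj D g) = g * dz S D * g⁻¹ := by
  show (((Subgroup.equivSMul (MulAut.conj g) (S : Subgroup G) D.r) ^ (D.h : ℤ) : _) : G) = _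
  rw [← map_zpow]
  rfl

theorem mem_map_conj {g x : G} {H : Subgroup G} :
    x ∈ H.map (MulAut.conj g).toMonoidHom ↔ g⁻¹ * x * g ∈ H := by
  constructor
  · rintro ⟨y, hy, rfl⟩
    simpa [mul_assoc] using hy
  · exact fun h => ⟨_, h, by simp [mul_assoc]⟩

/-- The hypothesis for a conjugate. -/
theorem Gen.conj (hG : Gen S D K) (g : G) :
    Gen (g • S) (dihConj D g) (K.map (MulAut.conj g).toMonoidHom) where
  odd := by rw [card_map_of_injective (MulAut.conj g).injective]; exact hG.odd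
  rot := by
    rintro _ ⟨k, hk, rfl⟩
    exact (hG.rot k hk).map (MulAut.conj g)
  refl := by
    rintro _ ⟨k, hk, rfl⟩
    show MulAut.conj g _ * MulAut.conj g k * (MulAut.conj g _)⁻¹ = (MulAut.conj g k)⁻¹
    rw [← map_inv, ← map_inv, ← map_mul, ← map_mul, hG.refl k hk]
  split := fun x hx => by
    rw [dihConj_dz, mem_centralizer_singleton_iff] at hx
    obtain ⟨k, hk, p, hp, e⟩ := hG.split (g⁻¹ * x * g) (by
      rw [mem_centralizer_singleton_iff]
      calc g⁻¹ * x * g * dz S D = g⁻¹ * (x * (g * dz S D * g⁻¹)) * g := by group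
        _ = g⁻¹ * ((g * dz S D * g⁻¹) * x) * g := by rw [hx]
        _ = dz S D * (g⁻¹ * x * g) := by group)
    refine ⟨_, mem_map_of_mem _ hk, MulAut.conj g p, ⟨p, hp, rfl⟩, ?_⟩
    show x = MulAut.conj g k * MulAut.conj g p
    rw [← map_mul, ← e]
    simp [mul_assoc]

/-- Conjugacy inside a subgroup. -/
def MConj (M : Subgroup G) (a b : G) : Prop := ∃ m ∈ M, m * a * m⁻¹ = b

theorem MConj.symm' {M : Subgroup G} {a b : G} (h : MConj M a b) : MConj M b a := by
  obtain ⟨m, hm, rfl⟩ := h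
  exact ⟨m⁻¹, inv_mem hm, by group⟩

theorem MConj.trans' {M : Subgroup G} {a b c : G} (h : MConj M a b) (h' : MConj M b c) :
    MConj M a c := by
  obtain ⟨m, hm, rfl⟩ := h
  obtain ⟨n, hn, rfl⟩ := h'
  exact ⟨n * m, mul_mem hn hm, by group⟩

theorem isConj_sub {M : Subgroup G} {a b : M} : IsConj a b ↔ MConj M (a : G) b := by
  rw [isConj_iff]
  constructor
  · rintro ⟨m, hm⟩
    exact ⟨m, m.2, congrArg Subtype.val hm⟩
  · rintro ⟨m, hm, e⟩
    exact ⟨⟨m, hm⟩, Subtype.ext e⟩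

/-- The odd core as a subgroup of `G`. -/
abbrev oddIn (M : Subgroup G) : Subgroup G := (Cfsg.oddCore M).map M.subtype

theorem oddIn_odd (M : Subgroup G) : Odd (Nat.card (oddIn M)) := by
  rw [card_map_of_injective (subtype_injective _)]
  exact Nat.coprime_two_right.1 (CfsgLib.Solvable.pPrimeCore_coprime 2)

theorem le_normalizer_oddIn (M : Subgroup G) : M ≤ normalizer (oddIn M : Set G) := fun m hm => by
  refine CfsgLib.Invol.mem_normalizer_iff_of_finite ?_
  rintro _ ⟨x, hx, rfl⟩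
  exact ⟨⟨m, hm⟩ * x * ⟨m, hm⟩⁻¹, (CfsgLib.Solvable.pPrimeCore_normal 2 _).conj_mem _ hx _, rfl⟩

theorem le_oddIn {M X : Subgroup G} (hle : X ≤ M) (hX : Odd (Nat.card X))
    (hn : M ≤ normalizer (X : Set G)) : X ≤ oddIn M := by
  intro x hx
  refine ⟨⟨x, hle hx⟩, CfsgLib.Solvable.le_pPrimeCore (N := X.subgroupOf M) ?_ ?_ (mem_subgroupOf.2 hx), rfl⟩
  · exact ⟨fun y hy m => mem_subgroupOf.2 ((mem_normalizer_iff.1 (hn m.2) _).1 (mem_subgroupOf.1 hy))⟩
  · rw [Nat.card_congr (subgroupOfEquivOfLe hle).toEquiv]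
    exact Nat.coprime_two_right.2 hX

/-- The three fusion patterns. -/
theorem Gen.fusion (hG : Gen S D K) {M : Subgroup G} (hM : centralizer ({dz S D} : Set G) ≤ M) :
    (∀ j, ¬ MConj M (dz S D) (dt S D j)) ∨
      (∀ t ∈ M, orderOf t = 2 → MConj M (dz S D) t) ∨
      ∃ a, MConj M (dz S D) (dt S D a) ∧ ¬ MConj M (dz S D) (dt S D (a + 1)) ∧ 2 ≤ D.h := by
  have hS := Gen.sylow_le (S := S) (D := D) hM
  have conv : ∀ j, MConj M (dz S D) (dt S D j) ↔
      IsConj (dz (S.subtype hS) (dihSub D hS)) (dt (S.subtype hS) (dihSub D hS) j) := fun j => by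
    rw [isConj_sub, dihSub_dz, dihSub_dt]
  by_cases h : ∀ j, ¬ MConj M (dz S D) (dt S D j)
  · exact Or.inl h
  push Not at h
  obtain ⟨a, ha⟩ := h
  by_cases hb : MConj M (dz S D) (dt S D (a + 1))
  · refine Or.inr (Or.inl fun t htM ht => ?_)
    have hall : ∀ j : ℤ, IsConj (dz (S.subtype hS) (dihSub D hS)) (dt (S.subtype hS) (dihSub D hS) j) := by
      intro j
      rcases Int.even_or_odd (j - a) with hj | hj
      · exact ((conv a).1 ha).trans (isConj_dt _ _ hj)
      · exact ((conv _).1 hb).trans (isConj_dt _ _ (by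
          rw [show j - (a + 1) = j - a - 1 by ring]; exact hj.sub_odd odd_one))
    have key : IsConj (dz (S.subtype hS) (dihSub D hS)) (⟨t, htM⟩ : M) := by
      rcases invol_dih (S.subtype hS) (dihSub D hS) (t := ⟨t, htM⟩)
        (by rw [← Subgroup.orderOf_coe]; exact ht) with e | e | e
      exacts [e.symm, (hall 0).trans e.symm, (hall 1).trans e.symm]
    have := isConj_sub.1 key
    rwa [dihSub_dz] at this
  · refine Or.inr (Or.inr ⟨a, ha, hb, ?_⟩)
    by_contra hh
    have hh1 : (dihSub D hS).h = 1 := by have := D.h_pos; rw [dihSub_h]; omega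
    exact hb ((conv _).2 (four_group_fuse _ _ hh1 ((conv a).1 ha)))

/-- Without fusion, `M = O(M) S`. -/
theorem Gen.split_of_none (hG : Gen S D K) {M : Subgroup G} (hM : centralizer ({dz S D} : Set G) ≤ M)
    (hno : ∀ j, ¬ MConj M (dz S D) (dt S D j)) {x : G} (hx : x ∈ M) :
    ∃ o ∈ oddIn M, ∃ p ∈ (S : Subgroup G), x = o * p := by
  have hS := Gen.sylow_le (S := S) (D := D) hM
  have hno' : ∀ j, ¬ IsConj (dz (S.subtype hS) (dihSub D hS)) (dt (S.subtype hS) (dihSub D hS) j) :=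
    fun j h => hno j (by have := isConj_sub.1 h; rwa [dihSub_dz, dihSub_dt] at this)
  have hcompl := hasNormalPComplement_of_cyclic_focal (S.subtype hS)
    ((zpowers (dihSub D hS).r).map ((S.subtype hS : Sylow 2 M) : Subgroup M).subtype)
    (by rw [MonoidHom.map_zpowers]; infer_instance)
    (residual_le_rot _ _ (hno' 0) (hno' 1))
  obtain ⟨N, hN, hNc⟩ :=
    (CfsgLib.Transfer.hasNormalPComplement_iff_exists_isComplement' (S.subtype hS)).1 hcompl
  obtain ⟨k, hk, p, hp, he⟩ := mem_sup_of_normal_left.1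
    ((hNc.sup_eq_top ▸ mem_top _) : (⟨x, hx⟩ : M) ∈ N ⊔ ((S.subtype hS : Sylow 2 M) : Subgroup M))
  refine ⟨k, ⟨k, ?_, rfl⟩, p, hp, (congrArg Subtype.val he).symm⟩
  refine CfsgLib.Solvable.le_pPrimeCore hN ?_ hk
  have : Fact (Nat.Prime 2) := ⟨Nat.prime_two⟩
  rw [← hNc.index_eq_card]
  exact ((Nat.Prime.coprime_iff_not_dvd Nat.prime_two).2 (S.subtype hS).not_dvd_index).symm

/-- Odd elements lie in the odd core when there is no fusion. -/
theorem Gen.mem_oddIn_of_none (hG : Gen S D K) {M : Subgroup G}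
    (hM : centralizer ({dz S D} : Set G) ≤ M) (hno : ∀ j, ¬ MConj M (dz S D) (dt S D j)) {x : G}
    (hx : x ∈ M) (ho : Odd (orderOf x)) : x ∈ oddIn M := by
  have hS := Gen.sylow_le (S := S) (D := D) hM
  obtain ⟨n, hn⟩ : ∃ n, n = orderOf x := ⟨_, rfl⟩
  haveI : (Cfsg.oddCore M).Normal := CfsgLib.Solvable.pPrimeCore_normal 2 _
  obtain ⟨o, ho', p, hp, e⟩ := hG.split_of_none hM hno hx
  obtain ⟨o', ho'', rfl⟩ := ho'
  have h1 : QuotientGroup.mk' (Cfsg.oddCore M) (⟨x, hx⟩ : M) =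
      QuotientGroup.mk' (Cfsg.oddCore M) (⟨p, hS hp⟩ : M) := by
    rw [show (⟨x, hx⟩ : M) = o' * ⟨p, hS hp⟩ from Subtype.ext e, map_mul,
      show QuotientGroup.mk' (Cfsg.oddCore M) o' = 1 from (QuotientGroup.eq_one_iff _).2 ho'', one_mul]
  obtain ⟨k, hk⟩ := S.2 ⟨p, hp⟩
  have h2 : QuotientGroup.mk' (Cfsg.oddCore M) (⟨x, hx⟩ : M) = 1 := by
    refine orderOf_eq_one_iff.1 (Nat.eq_one_of_dvd_coprimes
      ((Nat.coprime_two_left.2 (hn ▸ ho)).pow_left k) ?_ ?_)
    · rw [h1]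
      refine (orderOf_map_dvd _ _).trans (orderOf_dvd_of_pow_eq_one (Subtype.ext ?_))
      exact (congrArg Subtype.val hk :)
    · refine (orderOf_map_dvd _ _).trans (orderOf_dvd_of_pow_eq_one (Subtype.ext ?_))
      show x ^ n = 1
      rw [hn, pow_orderOf_eq_one]
  exact ⟨⟨x, hx⟩, (QuotientGroup.eq_one_iff _).1 h2, rfl⟩

end CfsgLib.Recog.GenDih
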