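import Cfsg.Agent.Lib.Recog.GenDihedral.TwoFull
import Cfsg.Agent.Lib.InvChar.CommutingPairs
import Cfsg.Agent.Lib.InvChar.BSWDihedral
import Cfsg.Agent.Lib.Invol.Dihedral

/-!
# Simple groups with a generalized dihedral involution centraliser are `PSL₂(q)`
-/

set_option autoImplicit false
set_option linter.unusedSectionVars false
set_option linter.style.haveILetI false

namespace CfsgLib.Recog.GenDih

open Subgroup CfsgLib.Invol CfsgLib.Comp

universe u

variable {G : Type u} [Group G] [Finite G] {S : Sylow 2 G} {D : DihData (S : Subgroup G)}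
  {K : Subgroup G}

/-- For `h ≥ 2` the centralisers of the centre and of a non-fused reflection generate too much. -/
theorem Gen.contra_two [IsSimpleGroup G] (hG : Gen S D K) (hh : 2 ≤ D.h) (h1 : OneClass G)
    (hK : K ≠ ⊥) {M : Subgroup G} (hP : Pair S D M) {w : G} (hwS : w ∈ (S : Subgroup G))
    (hw : orderOf w = 2) (hne : w ≠ dz S D) (hnc : ¬ MConj M (dz S D) w)
    (hwM : centralizer ({w} : Set G) ≤ M) : False := by
  classical
  have hS := Gen.sylow_le (S := S) (D := D) hP.le
  obtain ⟨j, rfl⟩ : ∃ j, w = dt S D j := by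
    rcases D.invol_cases (u := ⟨w, hwS⟩) (by rw [← Subgroup.orderOf_coe]; exact hw) with e | ⟨i, e⟩
    · exact absurd (congrArg Subtype.val e) hne
    · exact ⟨i, congrArg Subtype.val e⟩
  have hmc : ∀ u v, MConj M u v → centralizer ({u} : Set G) ≤ M → centralizer ({v} : Set G) ≤ M := by
    rintro u _ ⟨m, hm, rfl⟩ hu x hx
    rw [mem_centralizer_singleton_iff] at hx
    have h := hu (show m⁻¹ * x * m ∈ centralizer ({u} : Set G) from mem_centralizer_singleton_iff.2 (by
      calc m⁻¹ * x * m * u = m⁻¹ * (x * (m * u * m⁻¹)) * m := by group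
        _ = m⁻¹ * ((m * u * m⁻¹) * x) * m := by rw [hx]
        _ = u * (m⁻¹ * x * m) := by group))
    have h' := mul_mem (mul_mem hm h) (inv_mem hm)
    rwa [show m * (m⁻¹ * x * m) * m⁻¹ = x by group] at h'
  have hpar : ∀ i i', Even (i' - i) → MConj M (dt S D i) (dt S D i') := by
    rintro i i' ⟨a, ha⟩
    refine ⟨((D.r ^ a : (S : Subgroup G)) : G), hS (SetLike.coe_mem _), congrArg Subtype.val
      (show D.r ^ a * (D.r ^ i * D.s) * (D.r ^ a)⁻¹ = D.r ^ i' * D.s by
        rw [D.conj_refl]; congr 2; linarith)⟩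
  rcases hG.fusion hP.le with hno | hone | ⟨a, ha, hb, -⟩
  · -- no fusion: the odd core is invariant under an element fusing `c` with `c * w`
    obtain ⟨g, hg⟩ := isConj_iff.1 (h1 (dt S D j) _ hw (dz_orderOf (S := S) (D := D)))
    have hjU : dt S D j ∈ dU S D j := ⟨_, Or.inr (Or.inr (Or.inl rfl)), rfl⟩
    have hzU : dz S D ∈ dU S D j := ⟨_, Or.inr (Or.inl rfl), rfl⟩
    have : Fact (Nat.Prime 2) := ⟨Nat.prime_two⟩
    obtain ⟨k, hk, hkU⟩ := exists_conj_extend S (fun s hs => dz_commute S D hs) hg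
      (H := dU S D j) (S.2.to_le (map_subtype_le _)) (by
        intro a ha
        have h := (hG.cent_pair j).ge ha
        rw [mem_centralizer_iff] at h
        exact (h _ (Or.inr rfl)).symm)
    obtain ⟨p, hp, hpx⟩ := hG.exists_half hh (sylow_le_cent (hkU _ hzU))
      (by rw [orderOf_conj_eq]; exact dz_orderOf) (fun e => dt_ne_dz (S := S) (D := D) j
        ((MulAut.conj k).injective (show k * dt S D j * k⁻¹ = k * dz S D * k⁻¹ by rw [hk, e])))
    obtain ⟨g', hg'⟩ : ∃ g', g' = k⁻¹ * p * k := ⟨_, rfl⟩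
    obtain ⟨v, hv⟩ : ∃ v, v = dz S D * dt S D j := ⟨_, rfl⟩
    have hgw : g' * dt S D j * g'⁻¹ = dt S D j := by
      calc g' * dt S D j * g'⁻¹ = k⁻¹ * (p * (k * dt S D j * k⁻¹) * p⁻¹) * k := by rw [hg']; group
        _ = k⁻¹ * (p * dz S D * p⁻¹) * k := by rw [hk]
        _ = k⁻¹ * (k * dt S D j * k⁻¹) * k := by
          rw [mem_centralizer_singleton_iff.1 hp, mul_inv_cancel_right, hk]
        _ = dt S D j := by group
    have hgc : g' * dz S D * g'⁻¹ = v := by
      calc g' * dz S D * g'⁻¹ = k⁻¹ * (p * (k * dz S D * k⁻¹) * p⁻¹) * k := by rw [hg']; group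
        _ = k⁻¹ * ((k * dt S D j * k⁻¹) * (k * dz S D * k⁻¹)) * k := by rw [hpx, hk]
        _ = dt S D j * dz S D := by group
        _ = v := by rw [hv, (dz_commute S D (dt_mem j)).eq]
    have hvM : centralizer ({v} : Set G) ≤ M := by
      refine hmc (dt S D j) v ?_ hwM
      rw [hv, dz_mul_dt]
      refine hpar _ _ ?_
      obtain ⟨e, he⟩ := D.h_pow
      rcases e with _ | e
      · rw [he] at hh; simp at hh
      · exact ⟨(2 : ℤ) ^ e, by rw [he]; push_cast; ring⟩
    have hgv : g' * v * g'⁻¹ = dz S D := by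
      rw [hv, ← conj_mul, hgc, hgw, hv, mul_assoc, invol_mul_self (dt_orderOf j), mul_one]
    have hv2 : orderOf v = 2 := by rw [hv, dz_mul_dt]; exact dt_orderOf _
    have hOn := le_normalizer_oddIn M
    have key : ∀ u u', g' * u * g'⁻¹ = u' → centralizer ({u'} : Set G) ≤ M →
        ∀ x ∈ oddIn M ⊓ centralizer ({u} : Set G), g' * x * g'⁻¹ ∈ oddIn M := by
      rintro u _ rfl hu' x ⟨hxO, hxu⟩
      refine hG.mem_oddIn_of_none hP.le hno (hu' (mem_centralizer_singleton_iff.2 ?_))
        (by rw [orderOf_conj_eq]; exact odd_orderOf_of_mem (oddIn_odd M) hxO)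
      simpa using ((show Commute x u from mem_centralizer_singleton_iff.1 hxu).map (MulAut.conj g')).eq
    have hle : oddIn M ≤ (oddIn M).comap (MulAut.conj g').toMonoidHom := by
      refine CfsgLib.InvChar.ComClosed.le_of_four (oddIn_odd M) (x := dz S D) (y := dt S D j)
        dz_orderOf hw (dt_ne_dz j).symm (dz_commute S D hwS) (hOn (hS dz_mem)) (hOn (hS hwS))
        ?_ ?_ ?_
      · exact fun x hx => key _ v hgc hvM x hx
      · exact fun x hx => key _ _ hgw hwM x hx
      · rw [← hv]; exact fun x hx => key _ _ hgv hP.le x hx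
    have hg'N : g' ∈ normalizer (oddIn M : Set G) :=
      CfsgLib.Invol.mem_normalizer_iff_of_finite fun x hx => by simpa using hle hx
    have hne0 : oddIn M ≠ ⊥ := fun e => hP.notcore (e ▸ bot_le)
    rw [normalizer_eq_of_isCoatom hP.coatom (map_subtype_le _) hne0 hOn] at hg'N
    exact hno ((D.h : ℤ) + j) ⟨g', hg'N, by rw [hgc, hv, dz_mul_dt]⟩
  · exact hP.notone hone
  · refine hK (hG.noFull h1 hP.coatom.1 fun v hv hv2 => ?_)
    rcases D.invol_cases (u := ⟨v, hv⟩) (by rw [← Subgroup.orderOf_coe]; exact hv2) with e | ⟨i, e⟩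
    · rw [show v = dz S D from congrArg Subtype.val e]; exact hP.le
    · rw [show v = dt S D i from congrArg Subtype.val e]
      rcases Int.even_or_odd (i - a) with h | h
      · exact hmc _ _ (ha.trans' (hpar a i h)) hP.le
      · refine hmc _ _ (hpar j i ?_) hwM
        rcases Int.even_or_odd (j - a) with hj | hj
        · exact absurd (ha.trans' (hpar a j hj)) hnc
        · rw [show i - j = (i - a) - (j - a) by ring]; exact h.sub_odd hj

theorem Pair.contra [IsSimpleGroup G] {M : Subgroup G} (hP : Pair S D M) (hG : Gen S D K)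
    (h1 : OneClass G) (hK : K ≠ ⊥) (hIH : CentHyp G) : False := by
  obtain ⟨w, hwS, hw, hne, hnc, x, hxF, hx, hxw⟩ := hP.exists_w hG h1 hK
  have hS := Gen.sylow_le (S := S) (D := D) hP.le
  obtain ⟨c, hc⟩ : ∃ c, c = dz S D := ⟨_, rfl⟩
  have hc2 : orderOf c = 2 := hc ▸ dz_orderOf
  have hcw : Commute c w := hc ▸ dz_commute S D hwS
  rcases hP.dichotomy hG h1 hK hIH hw (hS hwS) (hc ▸ hcw) hne hnc hxF hx hxw with
    h | ⟨R, P, hR, hRodd, hRM, hwR, hPodd, hPN, hPR⟩
  · rcases Nat.lt_or_ge D.h 2 with hh | hh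
    · exact hG.twoFull (by have := D.h_pos; omega) h1 hK hIH hP.coatom dz_mem dz_orderOf hwS hw
        hne.symm hP.le h
    · exact hG.contra_two hh h1 hK hP hwS hw hne hnc h
  have hv2 : orderOf (c * w) = 2 := invol_of_mul_self
    (by rw [hcw.symm.mul_mul_mul_comm, invol_mul_self hc2, invol_mul_self hw, one_mul])
    (fun e => hne (by
      rw [← hc, ← invol_inv hc2]
      exact (inv_eq_of_mul_eq_one_right e).symm))
  have hn : ∀ v, Commute v w → ∀ ρ ∈ R, v * ρ * v⁻¹ ∈ R := fun v hv ρ hρ =>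
    (mem_normalizer_iff.1 (hwR (mem_centralizer_singleton_iff.2 hv.eq)) ρ).1 hρ
  have hvw : Commute (c * w) w := hcw.mul_left (Commute.refl w)
  have hfc : ∀ ρ ∈ R, Commute ρ c → ρ = 1 := fun ρ hρ hρc => by
    have : ρ ∈ R ⊓ M := ⟨hρ, hP.le (hc ▸ mem_centralizer_singleton_iff.2 hρc.eq)⟩
    rwa [hRM, mem_bot] at this
  have hinvc : ∀ ρ ∈ R, c * ρ * c⁻¹ = ρ⁻¹ := fun ρ hρ => inv_of_fpf hc2 (hn c hcw) hfc hρ
  have pureW : (∀ ρ ∈ R, Commute ρ (c * w) → ρ = 1) → False := fun hf =>
    hG.pure_contra h1 hw (hS hwS) hR hRodd hRM hPodd hPN hPR fun ρ hρ => by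
      refine mul_inv_eq_iff_eq_mul.1 ?_
      rw [show w * ρ * w⁻¹ = c * (c * w * ρ * (c * w)⁻¹) * c⁻¹ by
        have e : c * c = 1 := invol_mul_self hc2
        calc w * ρ * w⁻¹ = (c * c) * w * ρ * w⁻¹ * (c * c)⁻¹ := by rw [e, one_mul, inv_one, mul_one]
          _ = _ := by group,
        inv_of_fpf hv2 (hn _ hvw) hf hρ, hinvc _ (inv_mem hρ), inv_inv]
  rcases Nat.lt_or_ge D.h 2 with hh | hh
  · have hh1 : D.h = 1 := by have := D.h_pos; omega
    have hvS : c * w ∈ (S : Subgroup G) := mul_mem (hc ▸ dz_mem) hwS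
    by_cases hfw : ∀ ρ ∈ R, Commute ρ w → ρ = 1
    · refine hG.pure_contra h1 hv2 (hS hvS) hR hRodd hRM hPodd hPN hPR fun ρ hρ => ?_
      refine mul_inv_eq_iff_eq_mul.1 ?_
      rw [show c * w * ρ * (c * w)⁻¹ = c * (w * ρ * w⁻¹) * c⁻¹ by group,
        inv_of_fpf hw (hn w (Commute.refl w)) hfw hρ, hinvc _ (inv_mem hρ), inv_inv]
    by_cases hfv : ∀ ρ ∈ R, Commute ρ (c * w) → ρ = 1
    · exact pureW hfv
    push Not at hfv
    obtain ⟨u, hu, huv, hu1⟩ := hfv
    have huo := odd_orderOf_of_mem hRodd hu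
    have hcne : c ≠ c * w := fun e => invol_ne_one hw (mul_eq_left.1 e.symm)
    have hwne : w ≠ c * w := fun e => invol_ne_one hc2 (mul_eq_right.1 e.symm)
    obtain ⟨N, hN, hNu⟩ := exists_coatom_normalizer (Y := zpowers u)
      (fun e => hu1 (mem_bot.1 (e ▸ mem_zpowers u))) (by rw [Nat.card_zpowers]; exact huo) hw
    have hY : ∀ y ∈ zpowers u, Commute y (c * w) ∧ Odd (orderOf y) := fun y hy => by
      refine ⟨?_, huo.of_dvd_nat (orderOf_dvd_of_mem_zpowers hy)⟩
      obtain ⟨k, rfl⟩ := mem_zpowers_iff.1 hy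
      exact huv.zpow_left k
    have hvN : centralizer ({c * w} : Set G) ≤ N := (hG.cent_le_normalizer h1 hv2 hY).trans hNu
    have hwN : centralizer ({w} : Set G) ≤ N := by
      intro a ha
      obtain ⟨b, p, hb, hbw, hp, rfl⟩ := hG.split_four hh1 h1 hwS hw (mem_centralizer_singleton_iff.1 ha)
      refine mul_mem ?_ (hvN (mem_centralizer_singleton_iff.2 (commute_four hh1 hp hvS).eq))
      refine (Subgroup.centralizer_le_normalizer _).trans hNu ?_
      have hbu : Commute b u := by
        refine commute_of_sq hb ?_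
        have hbR : b * u * b⁻¹ ∈ R := hn b hbw u hu
        have hcb : c * b * c⁻¹ = b⁻¹ := hG.inv_of_commute h1 hw hc2 (hc ▸ hne) hcw.symm hb hbw
        have e1 := hinvc _ hbR
        rw [show c * (b * u * b⁻¹) * c⁻¹ = (c * b * c⁻¹) * (c * u * c⁻¹) * (c * b * c⁻¹)⁻¹ by group,
          hcb, hinvc u hu] at e1
        have e2 : b⁻¹ * u * b = b * u * b⁻¹ := by
          have := congrArg (·⁻¹) e1
          simpa [mul_assoc] using this
        show b * b * u = u * (b * b)
        calc b * b * u = b * (b * u * b⁻¹) * b := by group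
          _ = b * (b⁻¹ * u * b) * b := by rw [e2]
          _ = u * (b * b) := by group
      rw [mem_centralizer_iff]
      intro y hy
      obtain ⟨k, rfl⟩ := mem_zpowers_iff.1 hy
      exact (hbu.zpow_right k).symm.eq
    exact hG.twoFull hh1 h1 hK hIH hN hwS hw hvS hv2 hwne hwN hvN
  · refine pureW fun ρ hρ hρv => ?_
    obtain ⟨g, hg⟩ := isConj_iff.1 (h1 _ w (dz_orderOf (S := S) (D := D)) hw)
    have hG' := hG.conj g
    have hc' : dz (g • S) (dihConj D g) = w := by rw [dihConj_dz, hg]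
    obtain ⟨q, hq, hqx⟩ := hG'.exists_half hh (x := c)
      (hc'.symm ▸ mem_centralizer_singleton_iff.2 hcw.eq) hc2 (fun e => hne (by rw [← hc, e, hc']))
    rw [hc'] at hq hqx
    have hq' : Commute q w := mem_centralizer_singleton_iff.1 hq
    have h := hfc _ (hn q⁻¹ hq'.inv_left ρ hρ) (by
      have e : q⁻¹ * (w * c) * q⁻¹⁻¹ = c := by rw [← hqx]; group
      have h2 := (show Commute ρ (w * c) from hcw.eq ▸ hρv).map (MulAut.conj q⁻¹)
      simp only [MulAut.conj_apply, e] at h2
      exact h2)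
    exact conj_eq_one_iff.1 h

/-- The centralisers of the nontrivial elements of `K`. -/
theorem cent_le_aux : ∀ (n : ℕ) (G : Type u) [Group G] [Finite G], Nat.card G = n → IsSimpleGroup G →
    ∀ (S : Sylow 2 G) (D : DihData (S : Subgroup G)) (K : Subgroup G), Gen S D K →
      ∀ y ∈ K, y ≠ 1 → centralizer ({y} : Set G) ≤ centralizer ({dz S D} : Set G) := by
  intro n
  induction n using Nat.strong_induction_on with
  | _ n IH =>
    intro G _ _ hn hsimp S D K hG y hy hy1
    have hIH : CentHyp G := fun X _ _ hlt hX T E L hL => IH _ (hn ▸ hlt) X rfl hX T E L hL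
    have hK : K ≠ ⊥ := fun e => hy1 (mem_bot.1 (e ▸ hy))
    have h1 : OneClass G := one_class_of_no_index_two S D fun H hH => by
      rcases (Subgroup.normal_of_index_eq_two hH).eq_bot_or_eq_top with e | e
      · have : Fact (Nat.Prime 2) := ⟨Nat.prime_two⟩
        subst e
        rw [index_bot] at hH
        have h4 := Subgroup.card_le_card_group (S : Subgroup G)
        rw [card_sylow (S := S) (D := D), hH] at h4
        have := D.h_pos
        omega
      · subst e; simp at hH
    obtain ⟨M, hM, hMY⟩ := exists_coatom_normalizer (Y := zpowers y)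
      (fun e => hy1 (mem_bot.1 (e ▸ mem_zpowers y)))
      (by rw [Nat.card_zpowers]; exact odd_orderOf_of_mem hG.odd hy) (dz_orderOf (S := S) (D := D))
    have hCM : centralizer ({dz S D} : Set G) ≤ M :=
      (hG.cent_normalizes (zpowers_le.2 hy)).trans hMY
    have hyM : centralizer ({y} : Set G) ≤ M := by
      refine le_trans (fun a ha => ?_) ((Subgroup.centralizer_le_normalizer _).trans hMY)
      rw [mem_centralizer_iff]
      rintro _ hw
      obtain ⟨k, rfl⟩ := mem_zpowers_iff.1 hw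
      exact ((show Commute a y from mem_centralizer_singleton_iff.1 ha).zpow_right k).symm.eq
    by_cases hone : ∀ t ∈ M, orderOf t = 2 → MConj M (dz S D) t
    · exact absurd (hG.stepA h1 hCM hM.1 hone) hK
    by_cases hcore : oddIn M ≤ centralizer ({dz S D} : Set G)
    · exact fun a ha => hG.small_case h1 hIH hCM hM.1 hone hcore hy hy1 ⟨ha, hyM ha⟩
    · exact (Pair.contra ⟨hM, hCM, hone, hcore⟩ hG h1 hK hIH).elim

theorem Gen.cent_le [hs : IsSimpleGroup G] (hG : Gen S D K) {y : G} (hy : y ∈ K) (hy1 : y ≠ 1) :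
    centralizer ({y} : Set G) ≤ centralizer ({dz S D} : Set G) :=
  cent_le_aux _ G rfl hs S D K hG y hy hy1

theorem Gen.oddCore_eq (hG : Gen S D K) :
    K = (Cfsg.oddCore (centralizer ({dz S D} : Set G))).map (centralizer ({dz S D} : Set G)).subtype := by
  refine le_antisymm (le_oddIn hG.le_cent hG.odd (hG.cent_normalizes le_rfl)) ?_
  rintro _ ⟨x, hx, rfl⟩
  exact hG.odd_mem x.2 (odd_orderOf_of_mem (oddIn_odd _) (mem_map_of_mem _ hx))

/-- **Simple groups with a generalized dihedral involution centraliser are `PSL₂(q)`.** -/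
theorem psl_of_gen [IsSimpleGroup G] (hG : Gen S D K) :
    ∃ (F : Type) (_ : Field F) (_ : Fintype F), Odd (Fintype.card F) ∧
      Nonempty (G ≃* Matrix.ProjectiveSpecialLinearGroup (Fin 2) F) := by
  classical
  have hcard : Nat.card (S : Subgroup G) = 4 * D.h := card_sylow
  have : NeZero (2 * D.h) := ⟨by have := D.h_pos; omega⟩
  have htop : closure ({D.r, D.s} : Set (S : Subgroup G)) = ⊤ := eq_top_iff.2 fun u _ => by
    rcases D.cases u with ⟨i, rfl⟩ | ⟨i, rfl⟩
    · exact zpow_mem (subset_closure (by simp)) i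
    · exact mul_mem (zpow_mem (subset_closure (by simp)) i) (subset_closure (by simp))
  obtain ⟨e0⟩ := exists_mulEquiv_dihedral D.orderOf_r D.orderOf_s D.conj_r D.s_notMem
  let e := ((MulEquiv.subgroupCongr htop).trans Subgroup.topEquiv).symm.trans e0
  refine CfsgLib.InvChar.BSW.psl_of_dihedral S (2 * D.h) (by have := D.h_pos; omega) ⟨e⟩
    (dz S D) dz_orderOf dz_mem (fun s hs => (dz_commute S D hs).eq.symm) K hG.oddCore_eq ?_ ?_ ?_
  · intro hK
    obtain ⟨⟨y, hy⟩, hy1⟩ := K.ne_bot_iff_exists_ne_one.1 hK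
    have hinf : (S : Subgroup G) ⊓ centralizer (K : Set G) = (zpowers D.r).map (S : Subgroup G).subtype := by
      refine le_antisymm ?_ ?_
      · rintro p ⟨hp, hpc⟩
        rcases mem_sylow_cases (D := D) hp with ⟨i, rfl⟩ | ⟨i, rfl⟩
        · exact ⟨D.r ^ i, zpow_mem (mem_zpowers _) i, SubgroupClass.coe_zpow _ _⟩
        · exfalso
          have h := mem_centralizer_iff.1 hpc y hy
          have h2 := hG.dt_inv hy i
          rw [← h, mul_inv_cancel_right] at h2
          have h3 : y * y = 1 := by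
            nth_rewrite 2 [h2]
            exact mul_inv_cancel y
          exact hy1 (Subtype.ext (eq_one_of_sq (odd_orderOf_of_mem hG.odd hy) h3))
      · rintro _ ⟨p, hp, rfl⟩
        obtain ⟨i, rfl⟩ := mem_zpowers_iff.1 hp
        refine ⟨(D.r ^ i : (S : Subgroup G)).2, mem_centralizer_iff.2 fun k hk => ?_⟩
        show k * ((D.r ^ i : (S : Subgroup G)) : G) = ((D.r ^ i : (S : Subgroup G)) : G) * k
        rw [SubgroupClass.coe_zpow]
        exact (hG.rot_zpow hk i).symm.eq
    refine ⟨by rw [hinf, MonoidHom.map_zpowers]; infer_instance, ?_⟩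
    have h := Subgroup.relIndex_mul_relIndex ⊥ ((S : Subgroup G) ⊓ centralizer (K : Set G))
      (S : Subgroup G) bot_le inf_le_left
    rw [relIndex_bot_left, relIndex_bot_left, hcard, hinf, MonoidHom.map_zpowers, Nat.card_zpowers,
      Subgroup.subtype_apply, Subgroup.orderOf_coe, D.orderOf_r] at h
    rw [hinf, MonoidHom.map_zpowers, Subgroup.subtype_apply]
    refine Nat.eq_of_mul_eq_mul_left (show 0 < 2 * D.h by have := D.h_pos; omega) ?_
    linarith
  · intro p hp hpc y hy
    rcases mem_sylow_cases (D := D) hp with ⟨i, rfl⟩ | ⟨i, rfl⟩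
    · exact absurd (mem_centralizer_iff.2 fun k hk => (hG.rot_zpow hk i).symm.eq) hpc
    · exact hG.dt_inv hy i
  · intro Y hYK hY n hn
    obtain ⟨⟨y, hy⟩, hy1⟩ := Y.ne_bot_iff_exists_ne_one.1 hY
    have hy1' : y ≠ 1 := fun e => hy1 (Subtype.ext e)
    obtain ⟨u, hu⟩ : ∃ u, u = n * dz S D * n⁻¹ := ⟨_, rfl⟩
    have hu2 : orderOf u = 2 := by rw [hu, orderOf_conj_eq]; exact dz_orderOf
    have huy : Commute u y := by
      have h := (mem_normalizer_iff.1 (inv_mem hn) y).1 hy
      rw [inv_inv] at h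
      have h2 := (show Commute (n⁻¹ * y * n) (dz S D) from
        mem_centralizer_singleton_iff.1 (hG.le_cent (hYK h))).map (MulAut.conj n)
      simp only [MulAut.conj_apply] at h2
      rw [show n * (n⁻¹ * y * n) * n⁻¹ = y by group, ← hu] at h2
      exact h2.symm
    have huc := hG.cent_le (hYK hy) hy1' (mem_centralizer_singleton_iff.2 huy.eq)
    have hue : u = dz S D := by
      by_contra hne
      have h2 := hG.invol_inv_K huc hu2 hne (hYK hy)
      rw [huy.eq, mul_inv_cancel_right] at h2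
      refine hy1' (eq_one_of_sq (odd_orderOf_of_mem hG.odd (hYK hy)) ?_)
      nth_rewrite 2 [h2]
      exact mul_inv_cancel y
    rw [mem_centralizer_singleton_iff]
    rw [hu] at hue
    exact mul_inv_eq_iff_eq_mul.1 hue

end CfsgLib.Recog.GenDih
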