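import Cfsg.Agent.Lib.Recog.GenDihedral.FixTwo
import Cfsg.Agent.Lib.Invol.BrauerSuzuki
import Cfsg.Agent.Lib.Transfer.Thompson

/-!
An involution outside a maximal subgroup of rank one of a Sylow 2-subgroup with small centralizer
forces solvability when the odd core is trivial.
-/

set_option autoImplicit false

namespace CfsgLib.Recog.GenDihedral

open Subgroup CfsgLib.Invol

universe u

variable {Q : Type u} [Group Q] [Finite Q]

/-- **The semidihedral configuration does not occur.** -/
theorem isSolvable_of_outer_rank_one (hO : ∀ N : Subgroup Q, N.Normal → Odd (Nat.card N) → N = ⊥)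
    (T : Sylow 2 Q) (R : Subgroup Q) (hRT : R ≤ (T : Subgroup Q))
    (hRi : R.relIndex (T : Subgroup Q) = 2) {z c : Q} (hzT : z ∈ (T : Subgroup Q))
    (hz : orderOf z = 2) (hR : ∀ u ∈ R, orderOf u = 2 → u = c)
    (hinv : ∀ u ∈ (T : Subgroup Q), orderOf u = 2 → u = c ∨ IsConj u z)
    (hout : ¬ IsConj z c)
    (hstar : ∀ x : Q, Commute x z → Commute x c → x * x = 1) : Group.IsSolvable Q := by
  classical
  have : Fact (Nat.Prime 2) := ⟨Nat.prime_two⟩
  have hzz := invol_mul_self hz
  obtain ⟨M, hMn, hMi, hzM⟩ | ⟨g, hg⟩ := CfsgLib.Transfer.thompson_transfer_involution T hRT hRi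
    (by rw [pow_two]; exact hzz) hzT
  swap
  · exact absurd (isConj_iff.2 ⟨g, hR _ hg (by rw [CfsgLib.Invol.orderOf_conj_eq, hz])⟩) hout
  refine isSolvable_of_two_index (N := M) ?_
    (IsPGroup.of_card (n := 1) (by rw [← Subgroup.index_eq_card, hMi, pow_one]))
  by_contra hMns
  have hMc : ∀ u ∈ M, orderOf u = 2 → ∀ g : Q, g * u * g⁻¹ ∈ (T : Subgroup Q) → g * u * g⁻¹ = c := by
    intro u hu hu2 g hg
    refine (hinv _ hg (by rw [CfsgLib.Invol.orderOf_conj_eq, hu2])).resolve_right fun h => hzM ?_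
    obtain ⟨k, hk⟩ := isConj_iff.1 h
    exact hk ▸ hMn.conj_mem _ (hMn.conj_mem _ hu g) k
  have huniq : ∀ u ∈ M, ∀ v ∈ M, orderOf u = 2 → orderOf v = 2 → Commute u v → u = v := by
    intro u hu v hv hu2 hv2 huv
    have hp : IsPGroup 2 ↥(zpowers u ⊔ zpowers v) := (isPGroup_zpowers_of_invol hu2).to_sup_of_normal_right'
      (isPGroup_zpowers_of_invol hv2) (by
        refine le_trans ?_ (centralizer_le_normalizer _)
        rw [zpowers_le, mem_centralizer_iff]
        rintro y hy
        obtain ⟨i, rfl⟩ := mem_zpowers_iff.1 hy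
        exact (huv.zpow_right i).eq.symm)
    obtain ⟨g, hg⟩ := exists_conj_mem_sylow T hp
    have h1 := hMc u hu hu2 g (hg u (mem_sup_left (mem_zpowers u)))
    have h2 := hMc v hv hv2 g (hg v (mem_sup_right (mem_zpowers v)))
    exact mul_left_cancel (mul_right_cancel (h1.trans h2.symm))
  have heven : Even (Nat.card M) := by
    by_contra ho
    exact hMns (CfsgLib.FT.odd_order_solvable (Nat.not_even_iff_odd.1 ho))
  obtain ⟨w, hwc, hw2⟩ := centralInvol M heven
    (fun E hE => by
      obtain ⟨a, ha, ha1⟩ : ∃ a ∈ E, a ≠ 1 := E.bot_or_exists_ne_one.resolve_left fun e => by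
        have := hE.card_four; rw [e, card_bot] at this; omega
      have hexp : ∀ v ∈ E, v * v = 1 := fun v hv => by
        have := Monoid.pow_exponent_eq_one (⟨v, hv⟩ : E)
        rw [hE.exponent_two, pow_two] at this
        exact congrArg Subtype.val this
      have hsub : ∀ b ∈ E, b = 1 ∨ b = a := fun b hb => by
        by_cases hb1 : b = 1
        · exact Or.inl hb1
        refine Or.inr (Subtype.ext (huniq _ b.2 _ a.2 ?_ ?_ ?_))
        · rw [Subgroup.orderOf_coe]; exact invol_of_mul_self (hexp b hb) hb1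
        · rw [Subgroup.orderOf_coe]; exact invol_of_mul_self (hexp a ha) ha1
        · have h1 := inv_eq_of_mul_eq_one_right (hexp _ (mul_mem hb ha))
          rw [mul_inv_rev, inv_eq_of_mul_eq_one_right (hexp b hb),
            inv_eq_of_mul_eq_one_right (hexp a ha)] at h1
          exact congrArg Subtype.val h1.symm
      have hle : (E : Set M) ⊆ ({1, a} : Set M) := fun b hb => hsub b hb
      have := Set.ncard_le_ncard hle
      rw [← Nat.card_coe_set_eq, show Nat.card (E : Set M) = 4 from hE.card_four,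
        Set.ncard_pair (Ne.symm ha1)] at this
      omega)
    (fun N hN hodd => by
      have : (Cfsg.oddCore M).Characteristic := CfsgLib.Solvable.pPrimeCore_characteristic 2 M
      have hchar : ((Cfsg.oddCore M).map M.subtype).Normal := inferInstance
      have hb := hO _ hchar (by
        rw [← Nat.card_congr ((Cfsg.oddCore M).equivMapOfInjective _ M.subtype_injective).toEquiv]
        exact odd_card_oddCore M)
      rw [Subgroup.map_eq_bot_iff_of_injective _ M.subtype_injective] at hb
      exact le_bot_iff.1 (hb ▸ le_oddCore hN hodd))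
  have hwM2 : orderOf (w : Q) = 2 := by rw [Subgroup.orderOf_coe, hw2]
  obtain ⟨g, hg⟩ := exists_conj_invol_mem_sylow T hwM2
  have hgc := hMc _ w.2 hwM2 g hg
  have hcM : c ∈ M := hgc ▸ hMn.conj_mem _ w.2 g
  have hccomm : ∀ x ∈ M, Commute x c := fun x hx => by
    have h1 := congrArg Subtype.val (mem_center_iff.1 hwc ⟨g⁻¹ * x * g, by
      simpa using hMn.conj_mem x hx g⁻¹⟩)
    simp only [Subgroup.coe_mul] at h1
    show x * c = c * x
    rw [← hgc]
    calc x * (g * (w : Q) * g⁻¹) = g * ((g⁻¹ * x * g) * w) * g⁻¹ := by group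
      _ = g * (w * (g⁻¹ * x * g)) * g⁻¹ := by rw [h1]
      _ = g * (w : Q) * g⁻¹ * x := by group
  have hc2 : orderOf c = 2 := by rw [← hgc, CfsgLib.Invol.orderOf_conj_eq, hwM2]
  refine hMns (isSolvable_of_fix_le_two M (MulAut.conjNormal z).toMonoidHom ?_ ⟨c, hcM⟩ ?_)
  · intro x
    refine Subtype.ext ?_
    simp only [MulEquiv.coe_toMonoidHom, MulAut.conjNormal_apply]
    rw [show z * (z * (x : Q) * z⁻¹) * z⁻¹ = (z * z) * x * (z * z)⁻¹ by group, hzz]
    group
  · intro x hx
    have h1 := congrArg Subtype.val hx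
    simp only [MulEquiv.coe_toMonoidHom, MulAut.conjNormal_apply] at h1
    have hxz : Commute (x : Q) z := (mul_inv_eq_iff_eq_mul.1 h1).symm
    have hxx := hstar _ hxz (hccomm _ x.2)
    by_cases hx1 : x = 1
    · exact Or.inl hx1
    · refine Or.inr (Subtype.ext (huniq _ x.2 _ hcM ?_ hc2 (hccomm _ x.2)))
      exact invol_of_mul_self hxx fun e => hx1 (Subtype.ext e)

end CfsgLib.Recog.GenDihedral
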