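import Cfsg.Agent.Lib.Recog.GenDihedral.OuterDihedral
import Cfsg.Agent.Lib.Recog.GenDihedral.OuterSemi
import Cfsg.Agent.Lib.Invol.MetacyclicTwo
import Cfsg.Agent.Lib.Invol.QuasiDihedral
import Cfsg.Agent.Lib.Transfer.MaxClass

/-!
Groups with trivial odd core and an involution of a Sylow 2-subgroup centralizing only a four-group
of it.
-/

set_option autoImplicit false
set_option linter.unusedSectionVars false

namespace CfsgLib.Recog.GenDihedral

open Subgroup CfsgLib.Invol

universe u

/-- Involutions of a quaternion group are central. -/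
theorem quaternion_invol_central {k : ℕ} (hk : k ≠ 0) {x : QuaternionGroup k} (hx : orderOf x = 2)
    (y : QuaternionGroup k) : x * y = y * x := by
  have : NeZero k := ⟨hk⟩
  rcases x with i | i
  · have h1 := invol_mul_self hx
    rw [QuaternionGroup.a_mul_a, QuaternionGroup.one_def, QuaternionGroup.a.injEq] at h1
    rcases y with j | j
    · rw [QuaternionGroup.a_mul_a, QuaternionGroup.a_mul_a, add_comm]
    · rw [QuaternionGroup.a_mul_xa, QuaternionGroup.xa_mul_a, QuaternionGroup.xa.injEq]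
      rw [sub_eq_add_neg, ← eq_neg_of_add_eq_zero_left h1]
  · rw [QuaternionGroup.orderOf_xa] at hx
    omega

variable {Q : Type u} [Group Q] [Finite Q]

/-- **The outer case.** -/
theorem exists_psl_of_small_cent (hns : ¬ Group.IsSolvable Q)
    (hO : ∀ N : Subgroup Q, N.Normal → Odd (Nat.card N) → N = ⊥) (T : Sylow 2 Q) {z : Q}
    (hzT : z ∈ (T : Subgroup Q)) (hz : orderOf z = 2)
    (hcard : Nat.card ((T : Subgroup Q) ⊓ centralizer ({z} : Set Q) : Subgroup Q) = 4)
    (hnot : ∀ T' : Sylow 2 Q, ¬ (T' : Subgroup Q) ≤ centralizer ({z} : Set Q))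
    (hstar : ∀ c ∈ (T : Subgroup Q), Commute c z → orderOf c = 2 → c ≠ z →
      ∀ x : Q, Commute x z → Commute x c → x * x = 1) :
    ∃ (F : Type) (_ : Field F) (_ : Fintype F), 3 < Fintype.card F ∧
      (Nonempty (Q ≃* Matrix.ProjectiveSpecialLinearGroup (Fin 2) F) ∨
        Nonempty (Q ≃* Matrix.ProjGenLinGroup (Fin 2) F)) := by
  classical
  have : Fact (Nat.Prime 2) := ⟨Nat.prime_two⟩
  set zT : (T : Subgroup Q) := ⟨z, hzT⟩ with hzTdef
  have hzT2 : orderOf zT = 2 := by rw [hzTdef, orderOf_mk, hz]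
  obtain ⟨n, hn⟩ := T.2.exists_card_eq
  set C : Subgroup (T : Subgroup Q) := (centralizer ({z} : Set Q)).subgroupOf (T : Subgroup Q) with hC
  have hCcard : Nat.card C = 4 := by
    rw [hC, ← inf_subgroupOf_left, Nat.card_congr (subgroupOfEquivOfLe inf_le_left).toEquiv, hcard]
  have hnoT : ¬ ∀ x : (T : Subgroup Q), Commute x zT := fun h =>
    hnot T fun x hx => mem_centralizer_singleton_iff.2 (congrArg Subtype.val (h ⟨x, hx⟩).eq)
  have hn3 : 3 ≤ n := by
    by_contra hlt
    have hle : Nat.card (T : Subgroup Q) ≤ 4 := by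
      rw [hn]; exact Nat.pow_le_pow_right two_pos (show n ≤ 2 by omega)
    refine hnoT fun x => ?_
    have hx : x ∈ C := by
      rw [show C = ⊤ from (Subgroup.card_eq_iff_eq_top C).1
        (le_antisymm (card_le_card_group C) (hCcard ▸ hle))]
      exact mem_top x
    exact Subtype.ext (mem_centralizer_singleton_iff.1 hx)
  have hCcomm : IsMulCommutative C :=
    IsPGroup.isMulCommutative_of_card_eq_prime_sq (p := 2) (by rw [hCcard]; norm_num)
  have hself : centralizer (C : Set (T : Subgroup Q)) = C := by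
    refine le_antisymm (fun s hs => ?_) fun a ha b hb => ?_
    · rw [hC, mem_subgroupOf, mem_centralizer_singleton_iff]
      exact (congrArg Subtype.val ((mem_centralizer_iff.1 hs) zT
        (mem_centralizer_singleton_iff.2 rfl))).symm
    · exact congrArg Subtype.val (hCcomm.is_comm.comm (⟨b, hb⟩ : C) ⟨a, ha⟩)
  have hclass := CfsgLib.Transfer.maxClass_of_self_centralizing (p := 2) hn C
    (by rw [hCcard]; norm_num) hself
  -- the centre is not fused to the involution
  have hout : ∀ c : Q, (T : Subgroup Q) ≤ centralizer ({c} : Set Q) → ¬ IsConj z c := by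
    intro c hc h
    obtain ⟨g, hg⟩ := isConj_iff.1 h
    refine hnot (g⁻¹ • T) fun x hx => ?_
    rw [Sylow.coe_subgroup_smul] at hx
    obtain ⟨t, ht, rfl⟩ := hx
    rw [mem_centralizer_singleton_iff]
    show g⁻¹ * t * g⁻¹⁻¹ * z = z * (g⁻¹ * t * g⁻¹⁻¹)
    have := mem_centralizer_singleton_iff.1 (hc ht)
    rw [← hg] at this
    calc g⁻¹ * t * g⁻¹⁻¹ * z = g⁻¹ * (t * (g * z * g⁻¹)) * g := by group
      _ = g⁻¹ * (g * z * g⁻¹ * t) * g := by rw [this]
      _ = z * (g⁻¹ * t * g⁻¹⁻¹) := by group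
  rcases maxClass_two_types hn3 hn hclass with ⟨k, ⟨e⟩⟩ | ⟨k, ⟨e⟩⟩ | hQD
  · have hk : 2 ≤ k := by
      have hc := Nat.card_congr e.toEquiv
      rw [DihedralGroup.nat_card, hn] at hc
      have : 2 ^ 3 ≤ 2 ^ n := Nat.pow_le_pow_right two_pos hn3
      omega
    obtain ⟨E⟩ := exists_dihData T.2 hk e
    have hcen := fun x (hx : x ∈ (T : Subgroup Q)) =>
      (dz_commute T E hx).symm
    rcases E.invol_cases hzT2 with e' | ⟨i, e'⟩
    · exact absurd (fun x => (e' ▸ (E.commute_z x).symm : Commute x zT)) hnoT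
    have hzi : dt T E i = z := (congrArg Subtype.val e').symm
    refine exists_outer_pgl hns hO T E i ?_ ?_
    · intro x hx hxc
      rw [hzi] at hx
      exact hstar _ (SetLike.coe_mem _) (dz_commute T E hzT) ((Subgroup.orderOf_coe _).trans E.orderOf_z)
        (fun h => hnoT fun y => (show E.z = zT from Subtype.ext h) ▸ (E.commute_z y).symm) x hx hxc
    · rw [hzi]
      exact hout _ fun x hx => mem_centralizer_singleton_iff.2 (hcen x hx).eq
  · exfalso
    have hk : k ≠ 0 := by
      rintro rfl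
      have h0 := Nat.card_congr (e.trans QuaternionGroup.quaternionGroupZeroEquivDihedralGroupZero).toEquiv
      rw [DihedralGroup.nat_card, hn] at h0
      simp at h0
    refine hnoT fun x => e.injective ?_
    rw [map_mul, map_mul]
    exact (quaternion_invol_central hk ((MulEquiv.orderOf_eq e zT).trans hzT2) (e x)).symm
  · exfalso
    obtain ⟨D, m, -, -, -⟩ := exists_qdData hQD
    have hzD : zT ≠ D.z := fun h => hnoT fun x => h ▸ (D.commute_z x).symm
    obtain ⟨i₀, hi₀, hz₀⟩ := (D.eq_of_orderOf_two hzT2).resolve_left hzD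
    set R : Subgroup (T : Subgroup Q) := closure {D.x ^ (2 : ℤ), D.x ^ (1 : ℤ) * D.y} with hRdef
    have hRmem : ∀ u ∈ R, ∃ i : ℤ, u = D.x ^ (2 * i) ∨ u = D.x ^ (2 * i + 1) * D.y := by
      intro u hu
      induction hu using Subgroup.closure_induction with
      | mem u hu =>
        rcases hu with rfl | rfl
        · exact ⟨1, Or.inl (by norm_num)⟩
        · exact ⟨0, Or.inr (by norm_num)⟩
      | one => exact ⟨0, Or.inl (by simp)⟩
      | mul a b _ _ iha ihb =>
        obtain ⟨i, rfl | rfl⟩ := iha <;> obtain ⟨l, rfl | rfl⟩ := ihb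
        · exact ⟨i + l, Or.inl (by rw [← zpow_add]; ring_nf)⟩
        · exact ⟨i + l, Or.inr (by rw [← mul_assoc, ← zpow_add]; ring_nf)⟩
        · exact ⟨i + (2 * (D.m : ℤ) - 1) * l, Or.inr (by rw [D.mul_rule_zy]; ring_nf)⟩
        · exact ⟨i + (2 * (D.m : ℤ) - 1) * l + D.m, Or.inl (by rw [D.mul_rule_yy]; ring_nf)⟩
      | inv a _ iha =>
        obtain ⟨i, rfl | rfl⟩ := iha
        · exact ⟨-i, Or.inl (by rw [← zpow_neg]; ring_nf)⟩
        · exact ⟨-(2 * (D.m : ℤ) - 1) * i - D.m, Or.inr (by rw [D.inv_rule_y]; ring_nf)⟩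
    have hg1 : D.x ^ (2 : ℤ) ∈ R := Subgroup.subset_closure (Set.mem_insert _ _)
    have hg2 : D.x ^ (1 : ℤ) * D.y ∈ R :=
      Subgroup.subset_closure (Set.mem_insert_of_mem _ (Set.mem_singleton _))
    have hRx : ∀ i : ℤ, D.x ^ (2 * i) ∈ R := fun i => by
      rw [zpow_mul]; exact zpow_mem hg1 i
    have hRy : ∀ i : ℤ, D.x ^ (2 * i + 1) * D.y ∈ R := fun i => by
      rw [zpow_add, mul_assoc]; exact mul_mem (hRx i) hg2
    have hxR : D.x ∉ R := fun h => by
      obtain ⟨i, e | e⟩ := hRmem _ h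
      · nth_rewrite 1 [← zpow_one D.x] at e
        rw [D.zpow_eq_zpow_iff] at e
        obtain ⟨q, hq⟩ := e
        have : (2 : ℤ) * (i - 2 * D.m * q) = 1 := by linarith
        omega
      · exact D.zpow_mul_y_ne (2 * i + 1) 1 (by rw [zpow_one]; exact e.symm)
    have hRi : R.index = 2 := by
      rw [index_eq_two_iff]
      refine ⟨D.x, fun b => ?_⟩
      by_cases hb : b ∈ R
      · exact Or.inr ⟨hb, fun h => hxR ((mul_mem_cancel_left hb).1 h)⟩
      · refine Or.inl ⟨?_, hb⟩
        obtain ⟨me, hme⟩ := D.even_m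
        have hme' : (D.m : ℤ) = me + me := by exact_mod_cast hme
        rcases D.cases b with ⟨i, rfl⟩ | ⟨i, rfl⟩
        · obtain ⟨l, rfl | rfl⟩ := Int.even_or_odd' i
          · exact absurd (hRx l) hb
          · have := hRx (l + 1)
            rwa [show 2 * (l + 1) = 2 * l + 1 + 1 by ring, zpow_add, zpow_one] at this
        · obtain ⟨l, rfl | rfl⟩ := Int.even_or_odd' i
          · have := hRy (l + D.m - 1)
            rwa [show 2 * (l + (D.m : ℤ) - 1) + 1 = 2 * l + (2 * (D.m : ℤ) - 1) * 1 by ring,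
              ← D.mul_rule_zy, zpow_one] at this
          · exact absurd (hRy l) hb
    have hRinv : ∀ u ∈ R, orderOf u = 2 → u = D.z := by
      intro u hu hu2
      rcases D.eq_of_orderOf_two hu2 with e | ⟨i, hi, rfl⟩
      · exact e
      · exfalso
        obtain ⟨l, e | e⟩ := hRmem _ hu
        · exact D.zpow_mul_y_ne _ _ e
        · rw [D.zpow_mul_y_eq_iff] at e
          obtain ⟨q, hq⟩ := e
          obtain ⟨p, rfl⟩ := hi
          have : (2 : ℤ) * (l - p - 2 * D.m * q) = -1 := by linarith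
          omega
    refine hns (isSolvable_of_outer_rank_one hO T (R.map (T : Subgroup Q).subtype) (map_subtype_le _)
      ?_ hzT hz (c := (D.z : Q)) ?_ ?_ ?_ ?_)
    · rw [relIndex, subgroupOf, comap_map_eq_self_of_injective (Subgroup.subtype_injective _), hRi]
    · rintro _ ⟨u, hu, rfl⟩ hu2
      rw [Subgroup.coe_subtype, Subgroup.orderOf_coe] at hu2
      exact congrArg Subtype.val (hRinv u hu hu2)
    · intro u hu hu2
      rcases D.eq_of_orderOf_two (s := ⟨u, hu⟩) (by rw [orderOf_mk, hu2]) with e | ⟨i, hi, e⟩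
      · exact Or.inl (congrArg Subtype.val e)
      · refine Or.inr ?_
        obtain ⟨a, ha⟩ := D.exists_conj_shift (hi₀.sub hi)
        exact isConj_iff.2 ⟨((D.x ^ a : (T : Subgroup Q)) : Q),
          congrArg Subtype.val (show D.x ^ a * (⟨u, hu⟩ : (T : Subgroup Q)) * (D.x ^ a)⁻¹ = zT by
            rw [e, ha, hz₀])⟩
    · exact hout _ fun x hx => mem_centralizer_singleton_iff.2
        (congrArg Subtype.val (D.commute_z ⟨x, hx⟩).eq).symm
    · exact hstar _ (SetLike.coe_mem _) (congrArg Subtype.val (D.commute_z zT).eq)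
        ((Subgroup.orderOf_coe _).trans D.orderOf_z) (fun h => hzD (Subtype.ext h.symm))

end CfsgLib.Recog.GenDihedral
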