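import Cfsg.Agent.Lib.Recog.GenDihedral.ReduceOne
import Cfsg.Agent.Lib.Recog.GenDihedral.OuterCases

/-!
One involution in the abelian part and no Sylow 2-subgroup of the group inside the centralizer; the
final case division.
-/

set_option autoImplicit false
set_option linter.unusedSectionVars false

namespace CfsgLib.Recog.GenDihedral

open Subgroup CfsgLib.Invol

universe u

variable {G : Type u} [Group G] [Finite G] {H A : Subgroup G}

namespace DHyp

variable (h : DHyp H A) (hA : ∃ a ∈ A, a * a ≠ 1) {z : G} (hzA : z ∈ A) (hz2 : orderOf z = 2)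
  (huniq : ∀ j ∈ A, orderOf j = 2 → j = z)
include h hA hzA hz2 huniq

/-- A Sylow subgroup of the centralizer that is not one of the group is a four-group. -/
theorem exists_outer_sylow (hno : ∀ T : Sylow 2 G, ¬ (T : Subgroup G) ≤ H) :
    ∃ T : Sylow 2 G, z ∈ (T : Subgroup G) ∧ Nat.card ((T : Subgroup G) ⊓ H : Subgroup G) = 4 ∧
      (∀ x ∈ (T : Subgroup G), x ∈ H → x * x = 1) ∧
      ∀ S : Subgroup G, IsPGroup 2 S → S ≤ H → Nat.card S ≤ 4 := by
  classical
  have : Fact (Nat.Prime 2) := ⟨Nat.prime_two⟩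
  obtain ⟨S₀⟩ : Nonempty (Sylow 2 H) := inferInstance
  set S := (S₀ : Subgroup H).map H.subtype with hS
  have hSH : S ≤ H := map_subtype_le _
  have hSp : IsPGroup 2 S := S₀.2.map _
  obtain ⟨T, hT⟩ := hSp.exists_le_sylow
  have hTH : (T : Subgroup G) ⊓ H = S := by
    refine le_antisymm (fun x hx => ?_) (le_inf hT hSH)
    have h1 : ((T : Subgroup G) ⊓ H).subgroupOf H = (S₀ : Subgroup H) := by
      refine S₀.is_maximal' ?_ fun x hx => ⟨hT ⟨x, hx, rfl⟩, x.2⟩
      exact (T.2.to_le inf_le_left).comap_of_injective H.subtype H.subtype_injective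
    exact ⟨⟨x, hx.2⟩, h1 ▸ hx, rfl⟩
  have hCz := h.cent_invol hA hzA hz2
  have hzc : ∀ x ∈ H, Commute x z := fun x hx =>
    mem_centralizer_singleton_iff.1 (hCz.symm ▸ hx)
  have hzS : z ∈ S := by
    have hp : IsPGroup 2 (zpowers (⟨z, h.lt.le hzA⟩ : H)) := IsPGroup.of_card (n := 1)
      (by rw [Nat.card_zpowers, orderOf_mk, hz2, pow_one])
    have : (zpowers (⟨z, h.lt.le hzA⟩ : H)).Normal := ⟨fun y hy g => by
      obtain ⟨i, rfl⟩ := mem_zpowers_iff.1 hy
      have hg : Commute g (⟨z, h.lt.le hzA⟩ : H) := Subtype.ext (hzc _ g.2).eq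
      rw [(hg.zpow_right i).eq, mul_inv_cancel_right]
      exact zpow_mem (mem_zpowers _) i⟩
    exact ⟨_, hp.le_sylow_of_normal S₀ (mem_zpowers _), rfl⟩
  -- the elements of `A` in `S`
  have hSA : ∀ a ∈ S, a ∈ A → a * a = 1 := by
    intro a ha haA
    by_contra ha2
    have hlt : S.subgroupOf (T : Subgroup G) < ⊤ := lt_top_iff_ne_top.2 fun e =>
      hno T ((subgroupOf_eq_top.1 e).trans hSH)
    have := T.2.isNilpotent
    obtain ⟨s, hsN, hsS⟩ := SetLike.exists_of_lt
      (Group.normalizerCondition_of_isNilpotent (G := (T : Subgroup G)) _ hlt)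
    have hsN' : ∀ x ∈ S, (s : G) * x * (s : G)⁻¹ ∈ S := fun x hx =>
      (mem_normalizer_iff.1 hsN ⟨x, hT hx⟩).1 (show x ∈ S from hx)
    have hsz : (s : G) * z * (s : G)⁻¹ ∈ A := by
      by_contra hA'
      have h1 := h.inverts (hSH (hsN' z hzS)) hA' haA
      -- `a` is the conjugate of an element of `S`
      have hsN'' : (s : G)⁻¹ * a * (s : G) ∈ S := by
        have := (mem_normalizer_iff.1 (inv_mem hsN) ⟨a, hT ha⟩).1 (show a ∈ S from ha)
        simpa [mem_subgroupOf] using this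
      have h2 : Commute ((s : G) * z * (s : G)⁻¹) a := by
        show (s : G) * z * (s : G)⁻¹ * a = a * ((s : G) * z * (s : G)⁻¹)
        calc (s : G) * z * (s : G)⁻¹ * a = s * (z * ((s : G)⁻¹ * a * s)) * (s : G)⁻¹ := by group
          _ = s * ((s : G)⁻¹ * a * s * z) * (s : G)⁻¹ := by rw [(hzc _ (hSH hsN'')).eq]
          _ = _ := by group
      rw [h2.eq, mul_inv_cancel_right] at h1
      exact ha2 (mul_eq_one_iff_eq_inv.2 h1)
    have hsz' := huniq _ hsz (by rw [CfsgLib.Invol.orderOf_conj_eq, hz2])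
    refine hsS ?_
    have hsH : (s : G) ∈ H := by
      rw [← hCz, mem_centralizer_singleton_iff]; exact mul_inv_eq_iff_eq_mul.1 hsz'
    show (s : G) ∈ S
    rw [← hTH]; exact ⟨s.2, hsH⟩
  have hSA2 : ∀ a ∈ S, a ∈ A → a = 1 ∨ a = z := fun a ha haA => by
    by_cases ha1 : a = 1
    · exact Or.inl ha1
    · exact Or.inr (huniq a haA (invol_of_mul_self (hSA a ha haA) ha1))
  have hsq : ∀ x ∈ S, x * x = 1 := fun x hx =>
    if hxA : x ∈ A then hSA x hx hxA else h.mul_self (hSH hx) hxA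
  obtain ⟨k, hk⟩ := hSp.exists_card_eq
  have hcard4 : Nat.card S = 4 := by
    have hdvd : 4 ∣ Nat.card S := by
      obtain ⟨q, hq⟩ := h.four
      have h2 : (2 : ℕ) ^ 2 ∣ Nat.card (S₀ : Subgroup H) :=
        S₀.pow_dvd_card_of_pow_dvd_card ⟨q, by rw [hq]; norm_num⟩
      rwa [Nat.card_congr ((S₀ : Subgroup H).equivMapOfInjective _ H.subtype_injective).toEquiv] at h2
    refine le_antisymm ?_ (Nat.le_of_dvd Nat.card_pos hdvd)
    by_cases hy : ∃ y ∈ S, y ∉ A
    · obtain ⟨y, hy, hyA⟩ := hy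
      have hsub : (S : Set G) ⊆ {1, z, y, z * y} := by
        intro x hx
        simp only [Set.mem_insert_iff, Set.mem_singleton_iff]
        by_cases hxA : x ∈ A
        · rcases hSA2 x hx hxA with e | e <;> simp [e]
        · have hxy := h.mul_mem_or hA (hSH hx) hxA (hSH hy) hyA
          rcases hSA2 _ (mul_mem hx hy) hxy with e | e
          · right; right; left
            rw [eq_inv_of_mul_eq_one_left e, inv_eq_of_mul_eq_one_right (hsq y hy)]
          · right; right; right
            rw [← e, mul_assoc, hsq y hy, mul_one]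
      rw [← SetLike.coe_sort_coe, Nat.card_coe_set_eq]
      refine (Set.ncard_le_ncard hsub).trans ?_
      refine (Set.ncard_insert_le _ _).trans ?_
      have := Set.ncard_insert_le z ({y, z * y} : Set G)
      have := Set.ncard_insert_le y ({z * y} : Set G)
      rw [Set.ncard_singleton] at this
      omega
    · push Not at hy
      have hsub : (S : Set G) ⊆ {1, z} := fun x hx => hSA2 x hx (hy x hx)
      rw [← SetLike.coe_sort_coe, Nat.card_coe_set_eq]
      refine (Set.ncard_le_ncard hsub).trans ?_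
      have := Set.ncard_insert_le 1 ({z} : Set G)
      rw [Set.ncard_singleton] at this
      omega
  refine ⟨T, hT hzS, by rw [hTH, hcard4], fun x hx hxH => hsq x (hTH ▸ ⟨hx, hxH⟩), ?_⟩
  intro U hU hUH
  obtain ⟨T', hT'⟩ := (hU.comap_of_injective H.subtype H.subtype_injective).exists_le_sylow
  rw [← hcard4, hS, ← Nat.card_congr ((S₀ : Subgroup H).equivMapOfInjective _ H.subtype_injective).toEquiv,
    S₀.card_eq_multiplicity, ← T'.card_eq_multiplicity,
    ← Nat.card_congr (subgroupOfEquivOfLe hUH).toEquiv]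
  exact card_le_of_le hT'

/-- **The outer case.** -/
theorem sylow_outside (hns : ¬ Group.IsSolvable G) (hno : ∀ T : Sylow 2 G, ¬ (T : Subgroup G) ≤ H) :
    PSLQuot G := by
  classical
  have : Fact (Nat.Prime 2) := ⟨Nat.prime_two⟩
  obtain ⟨T, hzT, hcard, hsq, hmax⟩ := h.exists_outer_sylow hA hzA hz2 huniq hno
  set K := Cfsg.oddCore G
  have hKn : K.Normal := by show (Cfsg.pPrimeCore 2 G).Normal; infer_instance
  have hK : Odd (Nat.card K) := CfsgLib.Invol.odd_card_oddCore G
  have hmaxK : ∀ N : Subgroup G, N.Normal → Odd (Nat.card N) → N ≤ K := fun N hN ho =>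
    CfsgLib.Invol.le_oddCore hN ho
  obtain ⟨Tb, e, he⟩ := sylow_equiv_map T K hK
  set π := QuotientGroup.mk' K
  have hCz := h.cent_invol hA hzA hz2
  have hcen : ∀ q ∈ centralizer ({π z} : Set (G ⧸ K)), ∃ x ∈ H, π x = q := by
    intro q hq
    obtain ⟨g, rfl⟩ := QuotientGroup.mk'_surjective K q
    have h1 := mem_centralizer_singleton_iff.1 hq
    have h2 : g * z * g⁻¹ * z⁻¹ ∈ K := by
      refine (QuotientGroup.eq_one_iff _).1 ?_
      show π (g * z * g⁻¹ * z⁻¹) = 1
      rw [map_mul, map_mul, map_mul, h1, map_inv, map_inv, mul_inv_cancel_right, mul_inv_cancel]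
    obtain ⟨k, hk, hkg⟩ := lift_centralizer hK hz2 h2
    refine ⟨k * g, hCz ▸ hkg, ?_⟩
    rw [map_mul, show π k = 1 from (QuotientGroup.eq_one_iff k).2 hk, one_mul]
  set zb : (Tb : Subgroup (G ⧸ K)) := e ⟨z, hzT⟩ with hzb
  have hzb' : (zb : G ⧸ K) = π z := he _
  -- elements of the Sylow subgroup commuting with the involution
  have hTcomm : ∀ t : (T : Subgroup G), Commute (e t : G ⧸ K) (π z) → (t : G) ∈ H := by
    intro t ht
    rw [← hzb'] at ht
    have h1 : e t * zb = zb * e t := Subtype.ext ht.eq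
    rw [hzb, ← map_mul, ← map_mul] at h1
    rw [← hCz, mem_centralizer_singleton_iff]
    exact congrArg Subtype.val (e.injective h1)
  refine pslQuot_of_quotient K hK (exists_psl_of_small_cent (not_solvable_quotient K hK hns)
    (odd_normal_quotient_eq_bot K hK hmaxK) Tb (z := π z) (hzb' ▸ zb.2) ?_ ?_ ?_ ?_)
  · rw [← hzb', Subgroup.orderOf_coe, hzb, MulEquiv.orderOf_eq, orderOf_mk, hz2]
  · rw [← hcard]
    refine Nat.card_congr (Equiv.symm (Equiv.ofBijective
      (fun x : ((T : Subgroup G) ⊓ H : Subgroup G) => (⟨(e ⟨x, x.2.1⟩ : G ⧸ K), (e ⟨x, x.2.1⟩).2,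
        mem_centralizer_singleton_iff.2 (by
          rw [he, ← map_mul, ← map_mul]
          exact congrArg π (mem_centralizer_singleton_iff.1
            (hCz.symm ▸ x.2.2 : (x : G) ∈ centralizer ({z} : Set G))))⟩ :
        ((Tb : Subgroup (G ⧸ K)) ⊓ centralizer ({π z} : Set (G ⧸ K)) : Subgroup (G ⧸ K))))
      ⟨fun a b hab => ?_, fun q => ?_⟩))
    · have hab' : e ⟨a, a.2.1⟩ = e ⟨b, b.2.1⟩ := Subtype.ext (Subtype.ext_iff.1 hab :)
      exact Subtype.ext (Subtype.ext_iff.1 (e.injective hab') :)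
    · obtain ⟨t, ht⟩ := e.surjective ⟨q, q.2.1⟩
      have ht' : (e t : G ⧸ K) = q := congrArg Subtype.val ht
      refine ⟨⟨t, t.2, hTcomm t ?_⟩, Subtype.ext ht'⟩
      rw [ht']
      exact mem_centralizer_singleton_iff.1 q.2.2
  · -- no Sylow subgroup centralizes the involution
    intro T' hT'
    have h1 : Nat.card (T' : Subgroup (G ⧸ K)) ∣ Nat.card H := by
      refine (card_dvd_of_le (show (T' : Subgroup (G ⧸ K)) ≤ H.map π from fun q hq => ?_)).trans
        (card_map_dvd _ _)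
      obtain ⟨x, hx, rfl⟩ := hcen q (hT' hq)
      exact ⟨x, hx, rfl⟩
    obtain ⟨n, hn⟩ := T.2.exists_card_eq
    rw [Sylow.card_eq_multiplicity, ← Tb.card_eq_multiplicity, ← Nat.card_congr e.toEquiv, hn] at h1
    obtain ⟨U, hU⟩ := Sylow.exists_subgroup_card_pow_prime 2 h1
    have h4 := hmax (U.map H.subtype) ((IsPGroup.of_card hU).map _) (map_subtype_le _)
    rw [← Nat.card_congr (U.equivMapOfInjective _ H.subtype_injective).toEquiv, hU, ← hn, ← hcard] at h4
    exact hno T ((eq_of_le_of_card_ge inf_le_left h4).ge.trans inf_le_right)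
  · intro c hcT hcz hc2 hcne x hxz hxc
    obtain ⟨t, ht⟩ := e.surjective ⟨c, hcT⟩
    have ht' : π (t : G) = c := by rw [← he, ht]
    have htH : (t : G) ∈ H := hTcomm t (by rw [he, ht']; exact hcz)
    have htA : (t : G) ∉ A := fun htA => by
      by_cases ht1 : (t : G) = 1
      · rw [ht1, map_one] at ht'
        exact invol_ne_one hc2 ht'.symm
      · exact hcne (by rw [← ht', huniq _ htA (invol_of_mul_self (hsq _ t.2 htH) ht1)])
    obtain ⟨y, hy, rfl⟩ := hcen x (mem_centralizer_singleton_iff.2 hxz.eq)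
    by_cases hyA : y ∈ A
    · have h1 := congrArg π (h.inverts htH htA hyA)
      rw [map_mul, map_mul, map_inv, map_inv, ht', ← hxc.eq, mul_inv_cancel_right] at h1
      exact mul_eq_one_iff_eq_inv.2 h1
    · rw [← map_mul, h.mul_self hy hyA, map_one]

end DHyp

/-- **Groups with a centralizer of this shape.** -/
theorem DHyp.pslQuot (h : DHyp H A) (hns : ¬ Group.IsSolvable G) : PSLQuot G := by
  classical
  rcases h.cases with he | hA
  · exact h.exp_two hns he
  obtain ⟨j, hjA, hj2⟩ : ∃ j ∈ A, orderOf j = 2 := by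
    obtain ⟨x, hx, hxA⟩ := h.exists_refl
    have hidx : (A.subgroupOf H).index = 2 := by
      rw [index_eq_two_iff]
      refine ⟨⟨x, hx⟩, fun b => ?_⟩
      rw [mem_subgroupOf, mem_subgroupOf, Subgroup.coe_mul]
      by_cases hb : (b : G) ∈ A
      · exact Or.inr ⟨hb, fun e => hxA ((mul_mem_cancel_left hb).1 e)⟩
      · exact Or.inl ⟨h.mul_mem_or hA b.2 hb hx hxA, hb⟩
    have hc := (A.subgroupOf H).card_mul_index
    rw [hidx, Nat.card_congr (subgroupOfEquivOfLe h.lt.le).toEquiv] at hc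
    refine CfsgLib.Invol.exists_invol_mem ?_
    obtain ⟨q, hq⟩ := h.four
    exact ⟨q, by omega⟩
  by_cases hE : ∃ j₁ ∈ A, ∃ j₂ ∈ A, orderOf j₁ = 2 ∧ orderOf j₂ = 2 ∧ j₁ ≠ j₂
  · exact h.two_rank hA hns hE
  have huniq : ∀ i ∈ A, orderOf i = 2 → i = j := fun i hi hi2 => by
    by_contra hne
    exact hE ⟨i, hi, j, hjA, hi2, hj2, hne⟩
  by_cases hT : ∃ T : Sylow 2 G, (T : Subgroup G) ≤ H
  · obtain ⟨T, hT⟩ := hT
    exact h.sylow_inside hA hjA hj2 huniq hns T hT
  · push Not at hT
    exact h.sylow_outside hA hjA hj2 huniq hns hT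

end CfsgLib.Recog.GenDihedral
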