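import Cfsg.Agent.Lib.Classical.SLGen
import Cfsg.Agent.Lib.Invol.SLTwoOddCyclic

/-!
An automorphism of `SL₂` in characteristic two fixing the upper unitriangular group pointwise is
conjugation by an element of that group.
-/

set_option autoImplicit false

namespace CfsgLib.Recog.GenDihedral.SLTwo

open Matrix
open scoped MatrixGroups

variable {F : Type*} [Field F]

/-- Upper unitriangular element. -/
def up (a : F) : SL(2, F) := ⟨!![1, a; 0, 1], by simp [Matrix.det_fin_two_of]⟩

/-- Lower unitriangular element. -/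
def lo (a : F) : SL(2, F) := ⟨!![1, 0; a, 1], by simp [Matrix.det_fin_two_of]⟩

theorem up_val (a : F) : (up a : Matrix (Fin 2) (Fin 2) F) = !![1, a; 0, 1] := rfl

theorem lo_val (a : F) : (lo a : Matrix (Fin 2) (Fin 2) F) = !![1, 0; a, 1] := rfl

theorem neg_eq (h2 : (2 : F) = 0) (a : F) : -a = a := by linear_combination (-a) * h2

theorem up_sq (h2 : (2 : F) = 0) (a : F) : up a * up a = 1 := by
  refine Subtype.ext ?_
  show (up a).1 * (up a).1 = (1 : Matrix (Fin 2) (Fin 2) F)
  rw [up_val]
  ext i j
  fin_cases i <;> fin_cases j <;> simp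
  linear_combination a * h2

theorem lo_sq (h2 : (2 : F) = 0) (a : F) : lo a * lo a = 1 := by
  refine Subtype.ext ?_
  show (lo a).1 * (lo a).1 = (1 : Matrix (Fin 2) (Fin 2) F)
  rw [lo_val]
  ext i j
  fin_cases i <;> fin_cases j <;> simp
  linear_combination a * h2

theorem closure_up_lo (K : Subgroup SL(2, F)) (hu : ∀ t, up t ∈ K) (hl : ∀ t, lo t ∈ K) : K = ⊤ := by
  refine CfsgLib.Classical.sl_transvection_induction K ?_
  intro i j hij c
  fin_cases i <;> fin_cases j
  · exact absurd rfl hij
  · have e : Matrix.SpecialLinearGroup.transvection hij c = up c := by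
      refine Subtype.ext ?_
      rw [up_val, Matrix.SpecialLinearGroup.transvection_coe]
      ext a b
      fin_cases a <;> fin_cases b <;> simp [Matrix.transvection]
    rw [e]
    exact hu c
  · have e : Matrix.SpecialLinearGroup.transvection hij c = lo c := by
      refine Subtype.ext ?_
      rw [lo_val, Matrix.SpecialLinearGroup.transvection_coe]
      ext a b
      fin_cases a <;> fin_cases b <;> simp [Matrix.transvection]
    rw [e]
    exact hl c
  · exact absurd rfl hij

theorem eq_one_of_entries (h2 : (2 : F) = 0) {g : SL(2, F)} (h01 : g.1 0 1 = 0) (h10 : g.1 1 0 = 0)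
    (hd : g.1 0 0 = g.1 1 1) : g = 1 :=
  CfsgLib.Invol.sl_two_eq_one_of_scalar h2 ⟨h01, h10, hd⟩

/-- An involution has zero trace. -/
theorem diag_of_sq (h2 : (2 : F) = 0) {g : SL(2, F)} (hg : g * g = 1) (h1 : g ≠ 1) :
    g.1 1 1 = g.1 0 0 := by
  by_contra hne
  have hs : g.1 0 0 + g.1 1 1 ≠ 0 := fun h => hne (by linear_combination h - g.1 0 0 * h2)
  have e : g.1 * g.1 = 1 := congrArg Subtype.val hg
  have e00 := congrFun (congrFun e 0) 0
  have e01 := congrFun (congrFun e 0) 1
  have e10 := congrFun (congrFun e 1) 0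
  simp [Matrix.mul_apply, Fin.sum_univ_two] at e00 e01 e10
  have h01 : g.1 0 1 = 0 := (mul_eq_zero.1
    (show g.1 0 1 * (g.1 0 0 + g.1 1 1) = 0 by linear_combination e01)).resolve_right hs
  have hdet := g.2
  rw [Matrix.det_fin_two, h01] at hdet
  rw [h01] at e00
  refine hne ((mul_left_cancel₀ (a := g.1 0 0) (fun h => ?_) ?_))
  · rw [h] at hdet; simp at hdet
  · linear_combination hdet - e00

/-- An element of order three has trace one. -/
theorem trace_of_cube (h2 : (2 : F) = 0) {g : SL(2, F)} (hg : g * g * g = 1) (h1 : g ≠ 1) :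
    g.1 0 0 + g.1 1 1 = 1 := by
  by_contra hne
  have e : g.1 * g.1 * g.1 = 1 := congrArg Subtype.val hg
  have e00 := congrFun (congrFun e 0) 0
  have e01 := congrFun (congrFun e 0) 1
  have e10 := congrFun (congrFun e 1) 0
  have e11 := congrFun (congrFun e 1) 1
  simp [Matrix.mul_apply, Fin.sum_univ_two] at e00 e01 e10 e11
  have hdet := g.2
  rw [Matrix.det_fin_two] at hdet
  set a := g.1 0 0
  set b := g.1 0 1
  set c := g.1 1 0
  set d := g.1 1 1
  have key : (a + d) * (a + d) - 1 ≠ 0 := fun h => hne (sub_eq_zero.1 (mul_self_eq_zero.1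
    (show (a + d - 1) * (a + d - 1) = 0 by linear_combination h - (a + d - 1) * h2)))
  refine h1 (eq_one_of_entries h2 ?_ ?_ ?_)
  · exact (mul_eq_zero.1 (show b * ((a + d) * (a + d) - 1) = 0 by
      linear_combination e01 + b * hdet)).resolve_right key
  · exact (mul_eq_zero.1 (show c * ((a + d) * (a + d) - 1) = 0 by
      linear_combination e10 + c * hdet)).resolve_right key
  · exact sub_eq_zero.1 ((mul_eq_zero.1 (show (a - d) * ((a + d) * (a + d) - 1) = 0 by
      linear_combination e00 - e11 + (a - d) * hdet)).resolve_right key)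

theorem up_lo_cube (h2 : (2 : F) = 0) {a b : F} (hab : a * b = 1) :
    up a * lo b * (up a * lo b) * (up a * lo b) = 1 ∧ up a * lo b ≠ 1 := by
  have hv : (up a * lo b : SL(2, F)).1 = !![0, a; b, 1] := by
    show (up a).1 * (lo b).1 = _
    rw [up_val, lo_val]
    ext i j
    fin_cases i <;> fin_cases j <;> simp [hab]
    linear_combination h2
  refine ⟨Subtype.ext ?_, fun e => ?_⟩
  · show (up a * lo b).1 * (up a * lo b).1 * (up a * lo b).1 = (1 : Matrix (Fin 2) (Fin 2) F)
    rw [hv]
    ext i j
    fin_cases i <;> fin_cases j <;> simp [Matrix.mul_apply, Fin.sum_univ_two]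
    · linear_combination hab
    · linear_combination a * hab + a * h2
    · exact Or.inl (by linear_combination hab + h2)
    · linear_combination 2 * hab + h2
  · have h := congrFun (congrFun (congrArg Subtype.val e) 0) 0
    rw [hv] at h
    simp at h

theorem lo_eq_conj (h2 : (2 : F) = 0) (a : F) :
    up 1 * lo 1 * up 1 * up a * (up 1 * lo 1 * up 1) = lo a := by
  refine Subtype.ext ?_
  show (up 1).1 * (lo 1).1 * (up 1).1 * (up a).1 * ((up 1).1 * (lo 1).1 * (up 1).1) = (lo a).1
  simp only [up_val, lo_val]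
  ext i j
  fin_cases i <;> fin_cases j <;> simp [Matrix.mul_apply, Fin.sum_univ_two]
  all_goals first
    | linear_combination h2
    | linear_combination (2 : F) * h2
    | linear_combination (3 + a) * h2
    | linear_combination (6 + 2 * a) * h2

/-- **Automorphisms fixing the upper root group.** -/
theorem exists_eq_conj_of_fix (h2 : (2 : F) = 0) (x : SL(2, F) ≃* SL(2, F))
    (hx : ∀ a, x (up a) = up a) : ∃ c : F, ∀ g, x g = up c * g * up c := by
  set y := x (lo 1) with hy
  have hlne : lo (1 : F) ≠ 1 := fun e => by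
    have h := congrFun (congrFun (congrArg Subtype.val e) 1) 0
    simp [lo_val] at h
  have hyy : y * y = 1 := by rw [hy, ← map_mul, lo_sq h2, map_one]
  have hy1 : y ≠ 1 := fun e => hlne (x.injective (by rw [← hy, e, map_one]))
  have hd := diag_of_sq h2 hyy hy1
  obtain ⟨hc1, hc2⟩ := up_lo_cube h2 (one_mul (1 : F))
  have htr := trace_of_cube h2 (g := up 1 * y)
    (by rw [hy, ← hx 1, ← map_mul, ← map_mul, ← map_mul, hc1, map_one])
    (fun e => hc2 (x.injective (by rw [map_mul, hx 1, ← hy, e, map_one])))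
  change ((up (1 : F) : Matrix (Fin 2) (Fin 2) F) * (y : Matrix (Fin 2) (Fin 2) F)) 0 0 +
    ((up (1 : F) : Matrix (Fin 2) (Fin 2) F) * (y : Matrix (Fin 2) (Fin 2) F)) 1 1 = 1 at htr
  rw [up_val] at htr
  simp [Matrix.mul_apply, Fin.sum_univ_two] at htr
  have h10 : y.1 1 0 = 1 := by linear_combination htr - hd - y.1 0 0 * h2
  set c := y.1 0 0 + 1 with hc
  refine ⟨c, fun g => ?_⟩
  have hinv : (up c)⁻¹ = up c := inv_eq_of_mul_eq_one_right (up_sq h2 c)
  let K : Subgroup SL(2, F) := x.toMonoidHom.eqLocus (MulAut.conj (up c)).toMonoidHom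
  have hK : ∀ g, g ∈ K ↔ x g = up c * g * up c := fun g => by
    show x g = up c * g * (up c)⁻¹ ↔ _
    rw [hinv]
  have hu : ∀ a, up a ∈ K := fun a => by
    rw [hK, hx]
    refine Subtype.ext ?_
    show (up a).1 = (up c).1 * (up a).1 * (up c).1
    simp only [up_val]
    ext i j
    fin_cases i <;> fin_cases j <;> simp [Matrix.mul_apply, Fin.sum_univ_two]
    linear_combination (-c) * h2
  have hl1 : lo 1 ∈ K := by
    rw [hK, ← hy]
    refine Subtype.ext ?_
    have hdet := y.2
    rw [Matrix.det_fin_two, hd, h10] at hdet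
    show y.1 = (up c).1 * (lo 1).1 * (up c).1
    simp only [up_val, lo_val]
    ext i j
    fin_cases i <;> fin_cases j <;> simp [Matrix.mul_apply, Fin.sum_univ_two, hd, h10, hc]
    · linear_combination -h2
    · linear_combination -hdet - (2 * y.1 0 0 + 2) * h2 + 0 * h2
    · linear_combination -h2
  have hKtop : K = ⊤ := closure_up_lo K hu fun a => by
    rw [← lo_eq_conj h2 a]
    exact mul_mem (mul_mem (mul_mem (mul_mem (hu 1) hl1) (hu 1)) (hu a))
      (mul_mem (mul_mem (hu 1) hl1) (hu 1))
  exact (hK g).1 (hKtop ▸ Subgroup.mem_top g)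

end CfsgLib.Recog.GenDihedral.SLTwo
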