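import Cfsg.Agent.Lib.Recog.GenDihedral.Socle
import Cfsg.Agent.Lib.Recog.GenDihedral.SubData
import Cfsg.Agent.Lib.Recog.GenDihedral.PSLExtension
import Cfsg.Agent.Lib.Recog.GenDihedral.Main
import Cfsg.Agent.Lib.Invol.Simple

/-!
Groups without odd normal subgroups in which the centralizer of a central involution of a dihedral
Sylow 2-subgroup is generalized dihedral are `PSL₂(q)` or `PGL₂(q)`.
-/

set_option autoImplicit false
set_option linter.unusedSectionVars false

namespace CfsgLib.Recog.GenDihedral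

open Subgroup CfsgLib.Invol CfsgLib.BlockA.DihedralBlock
open scoped MatrixGroups

universe u

variable {Q : Type u} [Group Q] [Finite Q]

theorem five_le_of_simple {L : Type u} [Group L] [Finite L] [IsSimpleGroup L]
    (hna : ¬ IsMulCommutative L) {F : Type} [Field F] [Fintype F] (hodd : Odd (Fintype.card F))
    (e : L ≃* Matrix.ProjectiveSpecialLinearGroup (Fin 2) F) : 5 ≤ Fintype.card F := by
  have h13 := CfsgLib.Invol.thirteen_le_card_of_simple hna
  rw [Nat.card_congr e.toEquiv] at h13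
  have h1 := Fintype.one_lt_card (α := F)
  by_contra hlt
  have h3 : Fintype.card F = 3 := by obtain ⟨k, hk⟩ := hodd; omega
  have h := CfsgLib.Geom.Moebius.card_psl_two_gcd (F := F)
  rw [h3] at h
  norm_num at h
  omega

/-- The socle is `PSL₂(q)`. -/
theorem exists_socle_psl (hns : ¬ Group.IsSolvable Q)
    (hO : ∀ N : Subgroup Q, N.Normal → Odd (Nat.card N) → N = ⊥) (T : Sylow 2 Q)
    (E : DihData (T : Subgroup Q)) (A : Subgroup Q) (hle : A ≤ centralizer ({dz T E} : Set Q))
    (hcomm : ∀ a ∈ A, ∀ b ∈ A, a * b = b * a) (hz : dz T E ∈ A)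
    (hsq : ∀ x ∈ centralizer ({dz T E} : Set Q), x ∉ A → x * x = 1)
    (hone : ∀ a ∈ A, orderOf a = 2 → a = dz T E) :
    ∃ (F : Type) (_ : Field F) (_ : Fintype F), 3 < Fintype.card F ∧
      (Nonempty (Q ≃* Matrix.ProjectiveSpecialLinearGroup (Fin 2) F) ∨
        Nonempty (Q ≃* Matrix.ProjGenLinGroup (Fin 2) F)) := by
  classical
  obtain ⟨L, hLn, hLs, hLna, hC⟩ := exists_simple_socle hns hO T E
  have hLns : ¬ Group.IsSolvable L := fun h => hLna ⟨⟨IsSimpleGroup.comm_iff_isSolvable.2 h⟩⟩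
  obtain ⟨P, D, j, hP, hdz, -, -, -⟩ := exists_subData T E L hLns
  have hzL : dz T E ∈ L := hdz ▸ (dz P D).2
  have hcen : ∀ x : L, x ∈ centralizer ({dz P D} : Set L) → (x : Q) ∈ centralizer ({dz T E} : Set Q) := by
    intro x hx
    rw [mem_centralizer_singleton_iff] at hx ⊢
    rw [← hdz, ← Subgroup.coe_mul, ← Subgroup.coe_mul, hx]
  obtain ⟨K, hK⟩ := exists_gen P D (A.subgroupOf L)
    (fun x hx => mem_centralizer_singleton_iff.2 (Subtype.ext (by
      rw [Subgroup.coe_mul, Subgroup.coe_mul, hdz]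
      exact mem_centralizer_singleton_iff.1 (hle hx))))
    (fun a ha b hb => Subtype.ext (hcomm _ ha _ hb))
    (show ((dz P D : L) : Q) ∈ A by rw [hdz]; exact hz)
    (fun x hx hxA => Subtype.ext (hsq _ (hcen x hx) hxA))
    (fun a ha ho => Subtype.ext (by
      rw [hdz]; exact hone _ ha (by rw [Subgroup.orderOf_coe, ho])))
  obtain ⟨F, _, _, hodd, ⟨e⟩⟩ := CfsgLib.Recog.GenDih.psl_of_gen hK
  have h5 := five_le_of_simple hLna hodd e
  refine ⟨F, inferInstance, inferInstance, by omega,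
    psl_or_pgl hodd (by omega) T E L e hC (dz T E) hzL ((Subgroup.orderOf_coe _).trans E.orderOf_z) ?_⟩
  intro x hx
  refine subset_closure (Or.inr ?_)
  by_cases hxA : x ∈ A
  · have hsA : refl T E ∉ A := fun h => E.s_notMem ⟨E.h, Subtype.ext
      (hone _ h (by rw [Subgroup.orderOf_coe, E.orderOf_s])).symm⟩
    have hsC : refl T E ∈ centralizer ({dz T E} : Set Q) :=
      sylow_le_centralizer_dz T E (SetLike.coe_mem _)
    refine ⟨refl T E, ?_⟩
    have h1 := hsq _ (mul_mem hsC (hle hxA)) fun h => hsA ((mul_mem_cancel_right hxA).1 h)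
    rw [inv_eq_of_mul_eq_one_right (hsq _ hsC hsA)]
    exact eq_inv_of_mul_eq_one_left (by rw [← h1]; group)
  · exact ⟨1, by rw [one_mul, inv_one, mul_one, inv_eq_of_mul_eq_one_right (hsq x hx hxA)]⟩

end CfsgLib.Recog.GenDihedral
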