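import Cfsg.Agent.Lib.Recog.GenDihedral.Pair
import Cfsg.Agent.Lib.Recog.GenDihedral.QdFree
import Cfsg.Agent.Lib.PLocal.ZJControl

/-!
# Bender's method for the maximal subgroups over the centraliser
-/

set_option autoImplicit false
set_option linter.unusedSectionVars false
set_option linter.style.haveILetI false

namespace CfsgLib.Recog.GenDih

open Subgroup CfsgLib.Invol CfsgLib.Comp CfsgLib.PLocal

universe u

variable {G : Type u} [Group G] [Finite G] {S : Sylow 2 G} {D : DihData (S : Subgroup G)}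
  {K : Subgroup G}

/-- An odd `R` centralised by an involution and normalised by `P` is trivial if it avoids `N(P)`. -/
theorem Gen.pure_contra (hG : Gen S D K) (h1 : OneClass G) {M R P : Subgroup G} {j : G}
    (hj : orderOf j = 2) (hjM : j ∈ M) (hR : R ≠ ⊥) (hRodd : Odd (Nat.card R)) (hRM : R ⊓ M = ⊥)
    (hPodd : Odd (Nat.card P)) (hPN : normalizer (P : Set G) = M)
    (hPR : P ≤ normalizer (R : Set G)) (hjR : ∀ ρ ∈ R, Commute j ρ) : False := by
  apply hR
  rw [← le_bot_iff, ← hRM]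
  refine le_inf le_rfl ?_
  rw [← hPN]
  refine le_trans ?_ (CfsgLib.Comp.centralizer_le_normalizer _)
  intro ρ hρ
  rw [mem_centralizer_iff]
  intro f hf
  obtain ⟨u, hu⟩ : ∃ u, u = f⁻¹ * (j * f * j⁻¹) := ⟨_, rfl⟩
  have hjf : j * f * j⁻¹ ∈ P := (mem_normalizer_iff.1 (hPN ▸ hjM) f).1 hf
  have huP : u ∈ P := hu ▸ mul_mem (inv_mem hf) hjf
  have hju : j * u * j⁻¹ = u⁻¹ := by
    rw [hu, invol_inv hj]
    calc j * (f⁻¹ * (j * f * j)) * j = j * f⁻¹ * j * f * (j * j) := by group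
      _ = j * f⁻¹ * j * f := by rw [invol_mul_self hj, mul_one]
      _ = (f⁻¹ * (j⁻¹ * f * j⁻¹))⁻¹ := by group
      _ = _ := by rw [invol_inv hj]
  obtain ⟨n, hn⟩ := odd_orderOf_of_mem hPodd huP
  obtain ⟨v, hv⟩ : ∃ v, v = u ^ (n + 1) := ⟨_, rfl⟩
  have hvv : v * v = u := by
    rw [hv, ← pow_add, show n + 1 + (n + 1) = orderOf u + 1 by omega, pow_succ, pow_orderOf_eq_one,
      one_mul]
  have hvP : v ∈ P := hv ▸ pow_mem huP _
  have hjv : j * v * j⁻¹ = v⁻¹ := by rw [hv, ← conj_pow, hju, inv_pow]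
  have hvρ : Commute v ρ := by
    refine commute_of_sq (odd_orderOf_of_mem hPodd hvP) ?_
    have hσ : Commute j (v * ρ * v⁻¹) := hjR _ ((mem_normalizer_iff.1 (hPR hvP) ρ).1 hρ)
    have h2 : v⁻¹ * ρ * v = v * ρ * v⁻¹ := by
      calc v⁻¹ * ρ * v = (j * v * j⁻¹) * ρ * (j * v * j⁻¹)⁻¹ := by rw [hjv, inv_inv]
        _ = j * (v * (j⁻¹ * ρ * j) * v⁻¹) * j⁻¹ := by group
        _ = j * (v * ρ * v⁻¹) * j⁻¹ := by rw [mul_assoc j⁻¹, ← (hjR ρ hρ).eq, inv_mul_cancel_left]
        _ = v * ρ * v⁻¹ := by rw [hσ.eq, mul_inv_cancel_right]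
    show v * v * ρ = ρ * (v * v)
    calc v * v * ρ = v * (v * ρ * v⁻¹) * v := by group
      _ = v * (v⁻¹ * ρ * v) * v := by rw [h2]
      _ = ρ * (v * v) := by group
  have hfv : Commute (f * v) j := by
    refine (mul_inv_eq_iff_eq_mul.1 ?_ : j * (f * v) = f * v * j).symm
    rw [show j * (f * v) * j⁻¹ = (j * f * j⁻¹) * (j * v * j⁻¹) by group, hjv,
      show j * f * j⁻¹ = f * u by rw [hu, mul_inv_cancel_left], ← hvv,
      show f * (v * v) * v⁻¹ = f * v by group]
  have h2 : Commute (f * v) ρ := hG.odd_commute h1 hj (odd_orderOf_of_mem hPodd (mul_mem hf hvP))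
    (odd_orderOf_of_mem hRodd hρ) hfv (hjR ρ hρ).symm
  have h3 := h2.mul_left hvρ.inv_left
  rw [mul_inv_cancel_right] at h3
  exact h3.eq

namespace Pair

variable {M : Subgroup G} (hP : Pair S D M) (hG : Gen S D K) (h1 : OneClass G) (hK : K ≠ ⊥)
include hP hG h1 hK

/-- The Fitting subgroup of `M` is not of prime power order. -/
theorem two_primes [IsSimpleGroup G] {w x : G} (hw : orderOf w = 2) (hwM : w ∈ M)
    (hnc : ¬ MConj M (dz S D) w) (hxF : x ∈ FIn M) (hx : (orderOf x).Prime) (hxw : Commute x w) :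
    ∃ p : ℕ, p.Prime ∧ p ≠ orderOf x ∧ p ∣ Nat.card (Cfsg.fittingSubgroup M) := by
  obtain ⟨q, hq⟩ : ∃ q, q = orderOf x := ⟨_, rfl⟩
  rw [← hq] at hx ⊢
  by_contra hcon
  push Not at hcon
  haveI : Fact q.Prime := ⟨hx⟩
  have hxodd : Odd (orderOf x) := odd_orderOf_of_mem (hP.fIn_odd hG hK) hxF
  have hq2 : q ≠ 2 := fun e => by rw [← hq, e] at hxodd; exact absurd hxodd (by decide)
  have hFq : IsPGroup q (Cfsg.fittingSubgroup M) := isPGroup_fitting_of_unique fun r hr hrd => by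
    by_contra hne
    exact hcon r hr hne hrd
  have hFpc : Cfsg.fittingSubgroup M ≤ Cfsg.pCore q M :=
    CfsgLib.Solvable.le_pCore (CfsgLib.Comp.fittingSubgroup_normal M) hFq
  have hc : centralizer (Cfsg.pCore q M : Set M) ≤ Cfsg.pCore q M :=
    (centralizer_le hFpc).trans ((hP.cent_fit hG h1 hK).trans hFpc)
  obtain ⟨T⟩ : Nonempty (Sylow q M) := inferInstance
  have hxT : x ∈ (T : Subgroup M).map M.subtype :=
    map_mono (hFpc.trans (CfsgLib.Solvable.pCore_le_sylow T)) hxF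
  haveI hZn := CfsgLib.Recog.GenDihedral.centerThompson_normal hq2 S D M hc T
  obtain ⟨Z, hZ⟩ : ∃ Z, Z = Cfsg.centerThompsonAOf ((T : Subgroup M).map M.subtype) := ⟨_, rfl⟩
  have hZmap : (Cfsg.centerThompsonAOf (T : Subgroup M)).map M.subtype = Z :=
    hZ ▸ centerThompsonAOf_map M.subtype fun a _ ha => M.subtype_injective (ha.trans (map_one _).symm)
  have hTp : IsPGroup q ((T : Subgroup M).map M.subtype) := T.2.map _
  have hZne : Z ≠ ⊥ := by
    haveI : Nontrivial ((T : Subgroup M).map M.subtype) := by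
      refine ⟨⟨x, hxT⟩, 1, fun e => ?_⟩
      have hx1 : x = 1 := congrArg Subtype.val e
      rw [hq, hx1, orderOf_one] at hx
      exact Nat.not_prime_one hx
    haveI := hTp.center_nontrivial
    obtain ⟨⟨⟨z, hz⟩, hzc⟩, hz1⟩ := exists_ne (1 : center ((T : Subgroup M).map M.subtype))
    intro hbot
    refine hz1 (Subtype.ext (Subtype.ext ?_))
    have h : z ∈ Z := hZ ▸ mem_centerThompsonAOf hz (mem_centralizer_iff.2 fun a ha =>
      (congrArg Subtype.val (mem_center_iff.1 hzc ⟨a, thompsonAOf_le _ ha⟩) :))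
    rw [hbot, mem_bot] at h
    exact h
  have hMZ : normalizer (Z : Set G) = M := by
    rw [← hZmap]
    exact normalizer_eq_of_isCoatom hP.coatom (map_subtype_le _) (hZmap ▸ hZne)
      (le_normalizer_map_subtype _)
  -- a Sylow subgroup of `G`
  obtain ⟨Q, hQ⟩ := hTp.exists_le_sylow
  have hQeq : (Q : Subgroup G) = (T : Subgroup M).map M.subtype := by
    refine le_antisymm ?_ hQ
    by_contra hnot
    haveI : Group.IsNilpotent (Q : Subgroup G) := Q.2.isNilpotent
    have hlt : ((T : Subgroup M).map M.subtype).subgroupOf (Q : Subgroup G) < ⊤ :=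
      lt_top_iff_ne_top.2 fun e => hnot (subgroupOf_eq_top.1 e)
    obtain ⟨z, hzn, hzT⟩ := SetLike.exists_of_lt (Group.normalizerCondition_of_isNilpotent _ hlt)
    have hzN : (z : G) ∈ normalizer (((T : Subgroup M).map M.subtype : Subgroup G) : Set G) :=
      CfsgLib.Invol.mem_normalizer_iff_of_finite fun a ha => by
        have := (mem_normalizer_iff.1 hzn ⟨a, hQ ha⟩).1 (mem_subgroupOf.2 ha)
        exact mem_subgroupOf.1 this
    have hzZ : (z : G) ∈ normalizer (Z : Set G) := by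
      rw [mem_normalizer_iff_map_conj_eq] at hzN ⊢
      rw [hZ, centerThompsonAOf_map _ (fun a _ h => (MulAut.conj (z : G)).injective (h.trans (map_one _).symm)), hzN]
    have hzM : (z : G) ∈ M := hMZ ▸ hzZ
    have hle : (T : Subgroup M) ≤ (T : Subgroup M) ⊔ zpowers (⟨z, hzM⟩ : M) := le_sup_left
    have hp : IsPGroup q ((T : Subgroup M) ⊔ zpowers (⟨z, hzM⟩ : M) : Subgroup M) := by
      have hUQ : ((T : Subgroup M) ⊔ zpowers (⟨z, hzM⟩ : M)).map M.subtype ≤ (Q : Subgroup G) := by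
        rw [map_le_iff_le_comap]
        exact sup_le (map_le_iff_le_comap.1 hQ) (zpowers_le.2 z.2)
      let e := ((T : Subgroup M) ⊔ zpowers (⟨z, hzM⟩ : M)).equivMapOfInjective M.subtype
        M.subtype_injective
      exact (Q.2.to_le hUQ).of_injective e.toMonoidHom e.injective
    have h := T.3 hp hle
    refine hzT (mem_subgroupOf.2 ⟨⟨z, hzM⟩, h ▸ mem_sup_right (mem_zpowers _), rfl⟩)
  -- control of fusion
  have hno : ∀ (L : Subgroup G) (f : L →* ↥(Cfsg.qd q)), ¬ Function.Surjective f := fun L f hf =>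
    CfsgLib.Recog.GenDihedral.not_involves_qd hq2 S D (involves_of_sec f hf)
  obtain ⟨g, hg, hy⟩ := hG.exists_conj_mem h1 hw hxw hxodd
  obtain ⟨y, hy'⟩ : ∃ y, y = g⁻¹ * x * g := ⟨_, rfl⟩
  rw [← hy'] at hy
  have hyM : y ∈ M := hP.le (hG.le_cent hy)
  have hyq : IsPGroup q (zpowers (⟨y, hyM⟩ : M)) := IsPGroup.of_card (n := 1) (by
    rw [Nat.card_zpowers, ← Subgroup.orderOf_coe, pow_one]
    show orderOf y = q
    rw [hy', orderOf_conj_inv, hq])
  obtain ⟨⟨m₀, hm₀⟩, hmy⟩ := exists_conj_mem_sylow T hyq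
  have hy0 : m₀ * y * m₀⁻¹ ∈ (Q : Subgroup G) := by
    rw [hQeq]
    exact ⟨_, hmy _ (mem_zpowers _), rfl⟩
  obtain ⟨-, hctrl⟩ := controls_centerThompsonAOf hq2 hno Q {x}
    (Set.singleton_subset_iff.2 (hQeq ▸ hxT : x ∈ (Q : Subgroup G)))
  obtain ⟨v, hv, hve⟩ := hctrl (m₀ * g⁻¹) (by
    rintro _ ⟨a, rfl, rfl⟩
    show m₀ * g⁻¹ * a * (m₀ * g⁻¹)⁻¹ ∈ _
    rw [show m₀ * g⁻¹ * a * (m₀ * g⁻¹)⁻¹ = m₀ * (g⁻¹ * a * g) * m₀⁻¹ by group, ← hy']
    exact hy0)
  have hvM : v ∈ M := by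
    rw [← hMZ, hZ, ← hQeq]
    exact hv
  have hve' := hve x rfl
  obtain ⟨m, hm⟩ : ∃ m, m = v⁻¹ * m₀ := ⟨_, rfl⟩
  have hmM : m ∈ M := hm ▸ mul_mem (inv_mem hvM) hm₀
  have hxm : m * y * m⁻¹ = x := by
    rw [hm, hy']
    calc v⁻¹ * m₀ * (g⁻¹ * x * g) * (v⁻¹ * m₀)⁻¹
        = v⁻¹ * (m₀ * g⁻¹ * x * (m₀ * g⁻¹)⁻¹) * v := by group
      _ = x := by rw [hve']; group
  have hxc : Commute x (m * dz S D * m⁻¹) := by
    rw [← hxm]
    have : Commute y (dz S D) := (mem_centralizer_singleton_iff.1 (hG.le_cent hy))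
    simpa using this.map (MulAut.conj m)
  obtain ⟨d, hd, hde⟩ := hG.conj_of_common h1 (by rw [orderOf_conj_eq]; exact dz_orderOf) hw hxodd
    (fun e => by rw [hq, e, orderOf_one] at hx; exact Nat.not_prime_one hx) hxc hxw
  exact hnc (MConj.trans' ⟨m, hmM, rfl⟩ ⟨d, (zpowers_le.2 (mul_mem (mul_mem (mul_mem hmM
    (hP.le (sylow_le_cent dz_mem))) (inv_mem hmM)) hwM)) hd, hde⟩)

/-- The main alternative. -/
theorem dichotomy [IsSimpleGroup G] (hIH : CentHyp G) {w x : G} (hw : orderOf w = 2) (hwM : w ∈ M)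
    (hcw : Commute (dz S D) w) (hne : w ≠ dz S D) (hnc : ¬ MConj M (dz S D) w) (hxF : x ∈ FIn M)
    (hx : (orderOf x).Prime) (hxw : Commute x w) :
    centralizer ({w} : Set G) ≤ M ∨ ∃ R P : Subgroup G, R ≠ ⊥ ∧ Odd (Nat.card R) ∧ R ⊓ M = ⊥ ∧
      centralizer ({w} : Set G) ≤ normalizer (R : Set G) ∧ Odd (Nat.card P) ∧
      normalizer (P : Set G) = M ∧ P ≤ normalizer (R : Set G) := by
  obtain ⟨p, hp, hpq, hpd⟩ := hP.two_primes hG h1 hK hw hwM hnc hxF hx hxw
  obtain ⟨q, hq⟩ : ∃ q, q = orderOf x := ⟨_, rfl⟩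
  rw [← hq] at hx hpq
  haveI : Fact q.Prime := ⟨hx⟩
  haveI : Fact p.Prime := ⟨hp⟩
  have hFodd := hP.fIn_odd hG hK
  have hxodd : Odd (orderOf x) := odd_orderOf_of_mem hFodd hxF
  have hx1 : x ≠ 1 := fun e => by rw [hq, e, orderOf_one] at hx; exact Nat.not_prime_one hx
  have hqd : q ∣ Nat.card (Cfsg.fittingSubgroup M) := by
    obtain ⟨f, hf, e⟩ := hxF
    rw [hq, ← e]
    exact (orderOf_map_dvd _ _).trans (Subgroup.orderOf_dvd_natCard _ hf)
  have hYodd : ∀ y ∈ zpowers x, Commute y w ∧ Odd (orderOf y) := by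
    intro y hy
    obtain ⟨k, rfl⟩ := mem_zpowers_iff.1 hy
    exact ⟨hxw.zpow_left k, hxodd.of_dvd_nat
      ((orderOf_dvd_of_mem_zpowers (zpow_mem (mem_zpowers x) k)))⟩
  obtain ⟨N, hN, hNY⟩ := exists_coatom_normalizer (Y := zpowers x)
    (fun e => hx1 (mem_bot.1 (e ▸ mem_zpowers x))) (by rw [Nat.card_zpowers]; exact hxodd) hw
  have hwN : centralizer ({w} : Set G) ≤ N := (hG.cent_le_normalizer h1 hw hYodd).trans hNY
  have hxN : centralizer ({x} : Set G) ≤ N := by
    refine le_trans (fun a ha => ?_) ((Subgroup.centralizer_le_normalizer _).trans hNY)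
    rw [mem_centralizer_iff]
    rintro _ hy
    obtain ⟨k, rfl⟩ := mem_zpowers_iff.1 hy
    exact ((show Commute a x from mem_centralizer_singleton_iff.1 ha).zpow_right k).symm.eq
  by_cases hNM : N = M
  · exact Or.inl (hNM ▸ hwN)
  -- data for `w`
  obtain ⟨g, hg, hy⟩ := hG.exists_conj_mem h1 hw hxw hxodd
  have hG' := hG.conj g
  have hc' : dz (g • S) (dihConj D g) = w := by rw [dihConj_dz, hg]
  have hK' : K.map (MulAut.conj g).toMonoidHom ≠ ⊥ := fun e =>
    hK ((map_eq_bot_iff_of_injective _ (MulAut.conj g).injective).1 e)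
  have hxK' : x ∈ K.map (MulAut.conj g).toMonoidHom := mem_map_conj.2 hy
  have hNone : ¬ ∀ t ∈ N, orderOf t = 2 → MConj N (dz (g • S) (dihConj D g)) t := fun h =>
    hK' (hG'.stepA h1 (hc'.symm ▸ hwN) hN.1 h)
  have hPp : radP p M ≠ ⊥ := radP_ne_bot_of_dvd hp hpd
  have hPN : normalizer (radP p M : Set G) = M :=
    normalizer_eq_of_isCoatom hP.coatom (radP_le p M) hPp (le_normalizer_radP p M)
  have hPodd : Odd (Nat.card (radP p M)) := by
    rw [radP, card_map_of_injective (subtype_injective _)]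
    exact (hP.fit_odd hG hK).of_dvd_nat
      (Subgroup.card_dvd_of_le (CfsgLib.Solvable.pCore_le_fittingSubgroup p))
  have hxq : x ∈ radP q M := by
    obtain ⟨f, hf, e⟩ := hxF
    have hsn : (zpowers f).IsSubnormal := by
      haveI := isNilpotent_fittingSubgroup M
      exact Subgroup.IsSubnormal.trans (zpowers_le.2 hf)
        (CfsgLib.Solvable.isSubnormal_of_isNilpotent _)
        (CfsgLib.Comp.fittingSubgroup_normal M).isSubnormal
    refine ⟨f, le_pCore_of_isSubnormal hsn (IsPGroup.of_card (n := 1) ?_) (mem_zpowers f), e⟩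
    rw [Nat.card_zpowers, pow_one, hq, ← e]
    exact (orderOf_injective M.subtype M.subtype_injective f).symm
  have hPx : radP p M ≤ centralizer ({x} : Set G) := fun a ha => mem_centralizer_singleton_iff.2
    (mem_centralizer_iff.1 (radP_le_centralizer hpq (isPGroup_radP p M) (isPGroup_radP q M)
      ((radP_le p M).trans (le_normalizer_radP q M)) ((radP_le q M).trans (le_normalizer_radP p M)) ha)
      x hxq).symm
  by_cases hcore : oddIn N ≤ centralizer ({w} : Set G)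
  · have hPw : ∀ a ∈ radP p M, Commute a w := fun a ha => by
      have h := hG'.small_case h1 hIH (hc'.symm ▸ hwN) hN.1 hNone (hc'.symm ▸ hcore) hxK' hx1
        ⟨hPx ha, hxN (hPx ha)⟩
      rw [hc'] at h
      exact mem_centralizer_singleton_iff.1 h
    rcases Nat.lt_or_ge D.h 2 with hh | hh
    · refine Or.inl (le_trans ?_ hPN.le)
      exact hG.cent_le_normalizer h1 hw fun a ha => ⟨hPw a ha, odd_orderOf_of_mem hPodd ha⟩
    · exfalso
      obtain ⟨m, hm, hmw⟩ := hG.exists_half hh (mem_centralizer_singleton_iff.2 hcw.symm.eq) hw hne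
      refine hPp (eq_bot_iff.2 fun a ha => mem_bot.2 ?_)
      refine hG.eq_one_of_two h1 hw (j := dz S D * w) ?_ ?_ ?_ (odd_orderOf_of_mem hPodd ha) (hPw a ha) ?_
      · rw [← hmw, orderOf_conj_eq]; exact hw
      · exact fun e => invol_ne_one (dz_orderOf (S := S) (D := D)) (mul_eq_right.1 e.symm)
      · exact hcw.symm.mul_right (Commute.refl w)
      · have hmM : m ∈ normalizer (radP p M : Set G) := hPN.symm ▸ hP.le hm
        have h := (hPw _ ((mem_normalizer_iff.1 (inv_mem hmM) a).1 ha)).map (MulAut.conj m)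
        simp only [MulAut.conj_apply, hmw, inv_inv] at h
        rwa [show m * (m⁻¹ * a * m) * m⁻¹ = a by group] at h
  refine Or.inr ?_
  have hP' : Pair (g • S) (dihConj D g) N := ⟨hN, hc'.symm ▸ hwN, hNone, hc'.symm ▸ hcore⟩
  have hlead : Cfsg.leadsTo M N := hP.leads hG h1 hK (Q := zpowers x)
    (fun e => hx1 (mem_bot.1 (e ▸ mem_zpowers x))) (zpowers_le.2 hxF) (inf_le_right.trans hNY)
  by_cases hsub : ∀ r : ℕ, r.Prime → r ∣ Nat.card (Cfsg.fittingSubgroup N) →
      r ∣ Nat.card (Cfsg.fittingSubgroup M)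
  · exfalso
    have hNle : ∀ r : Nat.Primes, radP (r : ℕ) N ≤ M := fun r => by
      by_cases hr : (r : ℕ) ∣ Nat.card (Cfsg.fittingSubgroup N)
      · have hrM := hsub r r.2 hr
        by_cases hrq : (r : ℕ) = q
        · exact leadsTo_radP_le hP.coatom hlead r.2 hp (hrq ▸ hpq) hrM hpd
        · exact leadsTo_radP_le hP.coatom hlead r.2 hx (Ne.symm hrq) hrM hqd
      · rw [radP_eq_bot_of_not_dvd r.2 hr]; exact bot_le
    have hFN : FIn N ≠ ⊥ := fun e => hP'.not_cent hG' hK' fun f hf => by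
      rw [e, mem_bot] at hf
      rw [hf]
      exact Commute.one_right _
    have hlead' : Cfsg.leadsTo N M := hP'.leads hG' h1 hK' hFN le_rfl
      (inf_le_left.trans ((fitting_map_eq N).le.trans (iSup_le hNle)))
    have hpN := dvd_of_leadsTo_symm hlead hlead' hp hpd
    have hqN := dvd_of_leadsTo_symm hlead hlead' hx hqd
    have hMle : ∀ r : Nat.Primes, radP (r : ℕ) M ≤ N := fun r => by
      by_cases hr : (r : ℕ) ∣ Nat.card (Cfsg.fittingSubgroup M)
      · have hrN := dvd_of_leadsTo_symm hlead hlead' r.2 hr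
        by_cases hrq : (r : ℕ) = q
        · exact leadsTo_radP_le hN hlead' r.2 hp (hrq ▸ hpq) hrN hpN
        · exact leadsTo_radP_le hN hlead' r.2 hx (Ne.symm hrq) hrN hqN
      · rw [radP_eq_bot_of_not_dvd r.2 hr]; exact bot_le
    have hNpN : normalizer (radP p N : Set G) = N :=
      normalizer_eq_of_isCoatom hN (radP_le p N) (radP_ne_bot_of_dvd hp hpN) (le_normalizer_radP p N)
    have h12 : radP q N ≤ radP q M := radP_le_radP hpq (hP.layer_bot hG h1 hK) hMle hNle
      (inf_le_right.trans ((Subgroup.centralizer_le_normalizer _).trans hNpN.le))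
    have h21 : radP q M ≤ radP q N := radP_le_radP hpq (hP'.layer_bot hG' h1 hK') hNle hMle
      (inf_le_right.trans ((Subgroup.centralizer_le_normalizer _).trans hPN.le))
    have hMq : normalizer (radP q M : Set G) = M := normalizer_eq_of_isCoatom hP.coatom (radP_le q M)
      (radP_ne_bot_of_dvd hx hqd) (le_normalizer_radP q M)
    have hNq : normalizer (radP q N : Set G) = N := normalizer_eq_of_isCoatom hN (radP_le q N)
      (radP_ne_bot_of_dvd hx hqN) (le_normalizer_radP q N)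
    rw [le_antisymm h12 h21] at hNq
    exact hNM (hNq.symm.trans hMq)
  · push Not at hsub
    obtain ⟨r, hr, hrN, hrM⟩ := hsub
    haveI : Fact r.Prime := ⟨hr⟩
    refine ⟨radP r N, radP p M, radP_ne_bot_of_dvd hr hrN, ?_, leadsTo_radP_inf hlead hr hrM,
      hwN.trans (le_normalizer_radP r N), hPodd, hPN,
      (hPx.trans hxN).trans (le_normalizer_radP r N)⟩
    rw [radP, card_map_of_injective (subtype_injective _)]
    exact (hP'.fit_odd hG' hK').of_dvd_nat
      (Subgroup.card_dvd_of_le (CfsgLib.Solvable.pCore_le_fittingSubgroup r))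

end Pair

end CfsgLib.Recog.GenDih
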