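import Cfsg.Agent.Lib.Recog.GenDihedral.Basic
import Cfsg.Agent.Lib.BlockA.DihedralOrder
import Cfsg.Agent.Lib.BlockA.KleinOrder
import Cfsg.Agent.Lib.BlockB.PModular
import Cfsg.Agent.S0948

/-!
# The order of a group with one class of involutions and generalized dihedral centraliser

`3 C³ ≤ 16 |G| ≤ 15 C³` with `C` the order of the centraliser of an involution.
-/

set_option autoImplicit false
set_option linter.unusedSectionVars false

namespace CfsgLib.Recog.GenDih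

open Subgroup CfsgLib.Invol CfsgLib.BlockA

universe u

variable {G : Type u} [Group G] [Finite G] {S : Sylow 2 G} {D : DihData (S : Subgroup G)}
  {K : Subgroup G}

theorem val_cong {χ : Cfsg.IrrCharacter G} {δ : ℤ}
    (hval : ∀ l : ℕ, ¬ 2 * D.h ∣ l → (χ : G → ℂ) (DihedralBlock.rot S D ^ l) = δ) :
    (2 * (D.h : ℤ)) ∣ (Cfsg.charDegree (χ : G → ℂ) : ℤ) - δ := by
  classical
  obtain ⟨q, hq⟩ : ∃ q, q = 2 * D.h := ⟨_, rfl⟩
  have hq0 : 0 < q := by have := D.h_pos; omega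
  obtain ⟨n, ρ, hρ⟩ := CfsgLib.Char.irr_isCharacter χ.2
  obtain ⟨ι, hι, B, μ, -, h2, h3, -⟩ := CfsgLib.Char.exists_char_eigen ρ (DihedralBlock.rot S D)
  rw [DihedralBlock.orderOf_rot, ← hq] at h2
  have h1 : ∑ l ∈ Finset.range q, (χ : G → ℂ) (DihedralBlock.rot S D ^ l) =
      (q : ℂ) * ((Finset.univ.filter fun i => μ i = 1).card : ℤ) := by
    simp only [← hρ, h3]
    rw [Finset.sum_comm]
    have : ∀ i, ∑ l ∈ Finset.range q, μ i ^ l = if μ i = 1 then (q : ℂ) else 0 := by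
      intro i
      split_ifs with h
      · simp [h]
      · rw [geom_sum_eq h, h2 i, sub_self, zero_div]
    rw [Finset.sum_congr rfl fun i _ => this i, Finset.sum_ite, Finset.sum_const_zero, add_zero,
      Finset.sum_const, nsmul_eq_mul, Int.cast_natCast, mul_comm]
  obtain ⟨m, rfl⟩ : ∃ m, q = m + 1 := ⟨q - 1, by omega⟩
  rw [Finset.sum_range_succ', pow_zero, ← CfsgLib.BlockB.irr_degree_cast χ,
    Finset.sum_congr rfl (g := fun _ => (δ : ℂ)) (fun l hl => hval (l + 1) (fun hd => by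
      rw [← hq] at hd
      have := Nat.le_of_dvd (by omega) hd
      have := Finset.mem_range.1 hl
      omega)), Finset.sum_const, Finset.card_range, nsmul_eq_mul] at h1
  refine ⟨((Finset.univ.filter fun i => μ i = 1).card : ℤ) - δ, ?_⟩
  apply Int.cast_injective (α := ℂ)
  have hqc : ((m + 1 : ℕ) : ℂ) = 2 * (D.h : ℂ) := by rw [hq]; push_cast; ring
  push_cast at h1 hqc ⊢
  linear_combination h1 + (((Finset.univ.filter fun i => μ i = 1).card : ℂ) - δ) * hqc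

theorem dihedral_factor {x δ : ℤ} (hδ : δ = 1 ∨ δ = -1) (hx : 1 ≤ x) (hne : x ≠ δ) (h4 : 4 ∣ x - δ) :
    3 * (x - δ) ^ 2 ≤ 8 * (x * (x + δ)) ∧ 8 * (x * (x + δ)) ≤ 15 * (x - δ) ^ 2 ∧
      0 < (x - δ) ^ 2 := by
  rcases hδ with rfl | rfl
  · have h5 : 5 ≤ x := by omega
    refine ⟨?_, ?_, ?_⟩ <;> nlinarith
  · have h3 : 3 ≤ x := by omega
    refine ⟨?_, ?_, ?_⟩ <;> nlinarith

theorem klein_factor {a b c ε : ℤ} (hε : ε = 1 ∨ ε = -1) (ha : 1 ≤ a) (hb : 1 ≤ b) (hc : 1 ≤ c)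
    (hb4 : 4 ∣ b - ε) (hc4 : 4 ∣ c + 1) (hrel : 1 + a + ε * b - c = 0) :
    3 * ((a + 1) * (b + ε) * (c + -1)) ≤ 8 * (a * b * c) ∧
      8 * (a * b * c) ≤ 15 * ((a + 1) * (b + ε) * (c + -1)) ∧
      0 < (a + 1) * (b + ε) * (c + -1) := by
  have h3 : 3 ≤ c := by omega
  rcases hε with rfl | rfl
  · obtain rfl : c = a + b + 1 := by linarith
    have hab : 0 < a * b := by positivity
    refine ⟨?_, ?_, mul_pos (mul_pos (by omega) (by omega)) (by omega)⟩
    · nlinarith [mul_nonneg (sub_nonneg.2 ha) (sub_nonneg.2 hb), mul_nonneg hab.le (sub_nonneg.2 ha),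
        mul_nonneg hab.le (sub_nonneg.2 hb), sq_nonneg (a - b),
        mul_nonneg (mul_nonneg (sub_nonneg.2 ha) (sub_nonneg.2 hb)) (by omega : (0 : ℤ) ≤ a + b)]
    · nlinarith [mul_pos hab (by omega : (0 : ℤ) < a + b), sq_nonneg (a + b)]
  · have h3b : 3 ≤ b := by omega
    obtain rfl : a = b + c - 1 := by linarith
    obtain ⟨u, rfl⟩ : ∃ u, b = 3 + u := ⟨b - 3, by ring⟩
    obtain ⟨v, rfl⟩ : ∃ v, c = 3 + v := ⟨c - 3, by ring⟩
    have hu : 0 ≤ u := by omega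
    have hv : 0 ≤ v := by omega
    have h1 := mul_nonneg hu hv
    have h2 := mul_nonneg h1 (by omega : 0 ≤ u + v)
    refine ⟨?_, ?_, mul_pos (mul_pos (by omega) (by omega)) (by omega)⟩ <;>
      nlinarith [sq_nonneg u, sq_nonneg v, h1, h2]

theorem bounds_of_eq {N C num den : ℤ} (h : 2 * N * den = C ^ 3 * num) (h1 : 3 * den ≤ 8 * num)
    (h2 : 8 * num ≤ 15 * den) (hd : 0 < den) (hC : 0 ≤ C) :
    3 * C ^ 3 ≤ 16 * N ∧ 16 * N ≤ 15 * C ^ 3 := by
  have hC3 : 0 ≤ C ^ 3 := by positivity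
  constructor <;> refine le_of_mul_le_mul_right ?_ hd
  · nlinarith [mul_le_mul_of_nonneg_left h1 hC3]
  · nlinarith [mul_le_mul_of_nonneg_left h2 hC3]

/-- The order bounds. -/
theorem Gen.order_bounds (hG : Gen S D K) (h1 : OneClass G) :
    3 * Nat.card (centralizer ({dz S D} : Set G)) ^ 3 ≤ 16 * Nat.card G ∧
      16 * Nat.card G ≤ 15 * Nat.card (centralizer ({dz S D} : Set G)) ^ 3 := by
  classical
  obtain ⟨C, hC⟩ : ∃ C, C = Nat.card (centralizer ({dz S D} : Set G)) := ⟨_, rfl⟩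
  rw [← hC]
  obtain ⟨M, hM⟩ := CfsgLib.BlockB.exists_isPModular Nat.prime_two
  have := hM.2.1.isPrime
  suffices h : 3 * (C : ℤ) ^ 3 ≤ 16 * (Nat.card G : ℤ) ∧ 16 * (Nat.card G : ℤ) ≤ 15 * (C : ℤ) ^ 3 by
    exact ⟨by exact_mod_cast h.1, by exact_mod_cast h.2⟩
  rcases Nat.lt_or_ge D.h 2 with hh | hh
  · have hh1 : D.h = 1 := by have := D.h_pos; omega
    have hSU : dU S D 0 = (S : Subgroup G) := eq_of_le_of_card_ge (map_subtype_le _) (by
      rw [(dU_isKleinFour S D 0).card_four, D.card_eq, hh1])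
    have hK : IsKleinFour (S : Subgroup G) := hSU ▸ dU_isKleinFour S D 0
    have hcS : Nat.card (centralizer ((S : Subgroup G) : Set G)) = 4 := by
      refine le_antisymm ?_ ?_
      · rw [← hG.card_cent_pair 0]
        refine Subgroup.card_le_of_le (centralizer_le ?_)
        rintro y (rfl | rfl)
        exacts [dz_mem, dt_mem 0]
      · rw [← hK.card_four]
        refine Subgroup.card_le_of_le fun x hx => mem_centralizer_iff.2 fun y hy => ?_
        exact congrArg Subtype.val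
          ((IsKleinFour.isMulCommutative (G := (S : Subgroup G))).is_comm.comm ⟨y, hy⟩ ⟨x, hx⟩)
    obtain ⟨ζ₂, ζ₃, ζ₄, ε, hε, n2, n3, h23, h24, h34, hB, hval, ha, hb, hc, hrel⟩ :=
      Cfsg.Agent.S0948.result M hM S hK h1
    have n4 : (ζ₄ : G → ℂ) ≠ fun _ => 1 := fun h => by
      have := (hval _ (dz_orderOf (S := S) (D := D))).2.2
      rw [h] at this
      norm_num at this
    have hJ := hval _ (dz_orderOf (S := S) (D := D))
    have h := klein_order_formula hM hK h1 dz_mem (invol_ne_one (dz_orderOf (S := S) (D := D))) hB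
      ⟨n2, n3, n4, h23, h24, h34⟩ (ε₁ := 1) (ε₂ := ε) (ε₃ := -1)
      ⟨by rw [hJ.1]; norm_num, hJ.2.1, by rw [hJ.2.2]; norm_num⟩ ⟨Or.inl rfl, hε, Or.inr rfl⟩
    rw [hcS, ← hC] at h
    have hr := hrel 1 (by rw [orderOf_one]; exact odd_one)
    rw [← CfsgLib.BlockB.irr_degree_cast ζ₂, ← CfsgLib.BlockB.irr_degree_cast ζ₃,
      ← CfsgLib.BlockB.irr_degree_cast ζ₄] at hr
    have hr' : (1 : ℤ) + Cfsg.charDegree (ζ₂ : G → ℂ) + ε * Cfsg.charDegree (ζ₃ : G → ℂ) -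
        Cfsg.charDegree (ζ₄ : G → ℂ) = 0 := by exact_mod_cast hr
    have hpos : ∀ χ : Cfsg.IrrCharacter G, (1 : ℤ) ≤ Cfsg.charDegree (χ : G → ℂ) := fun χ => by
      have := CfsgLib.BlockB.irr_degree_ne_zero χ
      omega
    obtain ⟨f1, f2, f3⟩ := klein_factor hε (hpos ζ₂) (hpos ζ₃) (hpos ζ₄) hb hc hr'
    refine bounds_of_eq ?_ f1 f2 f3 (by positivity)
    push_cast at h
    linarith
  · obtain ⟨χ₁, χ₂, χ₃, χ', δ₁, δ₂, δ₃, hS⟩ := DihedralBlock.exists_shape hM S D hh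
      (ζ := Complex.exp (2 * Real.pi * Complex.I / (2 * D.h : ℕ)))
      (Complex.isPrimitiveRoot_exp _ (by omega))
    obtain ⟨hne, h⟩ := DihedralBlock.order_formula hM S D hh (Complex.isPrimitiveRoot_exp _ (by omega)) hS h1
    rw [hG.card_cent_pair 0, hG.card_cent_pair 1, ← hC] at h
    have hd := val_cong hS.val₁
    have h4 : (4 : ℤ) ∣ (Cfsg.charDegree (χ₁ : G → ℂ) : ℤ) - δ₁ := by
      refine dvd_trans ?_ hd
      obtain ⟨i, hi⟩ := D.h_pow
      rcases i with _ | i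
      · simp at hi; omega
      · exact ⟨(2 : ℤ) ^ i, by rw [hi]; push_cast; ring⟩
    have hpos : (1 : ℤ) ≤ Cfsg.charDegree (χ₁ : G → ℂ) := by
      have := CfsgLib.BlockB.irr_degree_ne_zero χ₁
      omega
    obtain ⟨f1, f2, f3⟩ := dihedral_factor hS.sgn₁ hpos hne h4
    refine bounds_of_eq ?_ f1 f2 f3 (by positivity)
    apply Int.cast_injective (α := ℚ)
    push_cast at h ⊢
    linear_combination 2 * h

end CfsgLib.Recog.GenDih
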