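import Cfsg.Agent.Lib.Invol.DihedralFusion
import Cfsg.Agent.Lib.BlockA.DihedralRotations

/-!
Commuting involutions in a group with a dihedral Sylow 2-subgroup, and the normal noncyclic
subgroups of a dihedral group.
-/

set_option autoImplicit false
set_option linter.unusedSectionVars false

namespace CfsgLib.Recog.GenDihedral

open Subgroup CfsgLib.Invol

universe u

theorem zpowers_le_centralizer_of_commute {X : Type*} [Group X] {a b : X} (h : Commute a b) :
    zpowers a ≤ centralizer (zpowers b : Set X) := by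
  rw [zpowers_le, mem_centralizer_iff]
  intro y hy
  obtain ⟨i, rfl⟩ := mem_zpowers_iff.1 hy
  exact (h.zpow_right i).eq.symm

variable {S : Type u} [Group S] (D : DihData S)

/-- The involutions commuting with a reflection. -/
theorem refl_commute_cases {i : ℤ} {x : S} (hx : orderOf x = 2) (h : Commute x (D.r ^ i * D.s)) :
    x = D.z ∨ x = D.r ^ i * D.s ∨ x = D.z * (D.r ^ i * D.s) := by
  rcases D.invol_cases hx with e | ⟨j, rfl⟩
  · exact Or.inl e
  · have h1 := h.eq
    rw [D.zy_mul_zy, D.zy_mul_zy, D.zpow_eq_iff] at h1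
    obtain ⟨e, he⟩ := h1
    rcases Int.even_or_odd' e with ⟨f, rfl | rfl⟩
    · refine Or.inr (Or.inl ?_)
      rw [mul_left_inj, D.zpow_eq_iff]
      exact ⟨f, by linarith⟩
    · refine Or.inr (Or.inr ?_)
      rw [DihData.z, ← mul_assoc, ← zpow_add, mul_left_inj, D.zpow_eq_iff]
      exact ⟨f + 1, by linarith⟩

include D in
/-- No elementary abelian subgroup of order eight. -/
theorem no_eight_sylow {a b c : S} (ha : orderOf a = 2) (hb : orderOf b = 2) (hc : orderOf c = 2)
    (hab : Commute a b) (hac : Commute a c) (hbc : Commute b c) (hne : a ≠ b) (h1 : c ≠ a)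
    (h2 : c ≠ b) (h3 : c ≠ a * b) : False := by
  classical
  have haa := invol_mul_self ha
  have hbb := invol_mul_self hb
  have hab1 : orderOf (a * b) = 2 := invol_of_mul_self
    (by rw [hab.symm.mul_mul_mul_comm, haa, one_mul, hbb]) fun e => hne (by
      rw [eq_inv_of_mul_eq_one_left e, invol_inv hb])
  have hna : a * b ≠ a := fun e => invol_ne_one hb (mul_eq_left.1 e)
  have hnb : a * b ≠ b := fun e => invol_ne_one ha (mul_eq_right.1 e)
  obtain ⟨i, w, hw, hwa, hwb, hwc⟩ : ∃ (i : ℤ) (w : S), w = D.r ^ i * D.s ∧ Commute a w ∧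
      Commute b w ∧ Commute c w := by
    rcases D.invol_cases ha with rfl | ⟨i, rfl⟩
    · rcases D.invol_cases hb with rfl | ⟨i, rfl⟩
      · exact absurd rfl hne
      · exact ⟨i, _, rfl, D.commute_z _, Commute.refl _, hbc.symm⟩
    · exact ⟨i, _, rfl, Commute.refl _, hab.symm, hac.symm⟩
  subst hw
  have ka := refl_commute_cases D ha hwa
  have kb := refl_commute_cases D hb hwb
  have kab := refl_commute_cases D hab1 (hwa.mul_left hwb)
  have kc := refl_commute_cases D hc hwc
  have hsub : ({a, b, a * b, c} : Finset S) ⊆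
      {D.z, D.r ^ i * D.s, D.z * (D.r ^ i * D.s)} := by
    simp only [Finset.insert_subset_iff, Finset.singleton_subset_iff, Finset.mem_insert,
      Finset.mem_singleton]
    exact ⟨ka, kb, kab, kc⟩
  have hc4 := Finset.card_le_card hsub
  rw [Finset.card_insert_of_notMem (by simp [hne, hna.symm, h1.symm]),
    Finset.card_insert_of_notMem (by simp [hnb.symm, h2.symm]), Finset.card_pair h3.symm] at hc4
  have := Finset.card_le_three (a := D.z) (b := D.r ^ i * D.s) (c := D.z * (D.r ^ i * D.s))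
  omega

variable {G : Type u} [Group G] [Finite G]

/-- No elementary abelian subgroup of order eight when the Sylow 2-subgroup is dihedral. -/
theorem no_eight (T : Sylow 2 G) (E : DihData (T : Subgroup G)) {a b c : G} (ha : orderOf a = 2)
    (hb : orderOf b = 2) (hc : orderOf c = 2) (hab : Commute a b) (hac : Commute a c)
    (hbc : Commute b c) (hne : a ≠ b) (h1 : c ≠ a) (h2 : c ≠ b) (h3 : c ≠ a * b) : False := by
  classical
  have : Fact (Nat.Prime 2) := ⟨Nat.prime_two⟩
  have hp : ∀ x : G, orderOf x = 2 → IsPGroup 2 (zpowers x) := fun x hx => isPGroup_zpowers_of_invol hx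
  have hcen := @zpowers_le_centralizer_of_commute G _
  have h12 : IsPGroup 2 ↥(zpowers a ⊔ zpowers b) := (hp a ha).to_sup_of_normal_right' (hp b hb)
    ((hcen hab).trans (centralizer_le_normalizer _))
  have h123 : IsPGroup 2 ↥(zpowers a ⊔ zpowers b ⊔ zpowers c) :=
    h12.to_sup_of_normal_right' (hp c hc)
      ((sup_le (hcen hac) (hcen hbc)).trans (centralizer_le_normalizer _))
  obtain ⟨T', hT'⟩ := h123.exists_le_sylow
  obtain ⟨g, hg⟩ := MulAction.exists_smul_eq G T T'
  have hmem : ∀ x ∈ zpowers a ⊔ zpowers b ⊔ zpowers c, g⁻¹ * x * g ∈ (T : Subgroup G) := by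
    intro x hx
    have h1 : x ∈ ((g • T : Sylow 2 G) : Subgroup G) := hg ▸ hT' hx
    rw [Sylow.coe_subgroup_smul] at h1
    obtain ⟨w, hw, ew⟩ := h1
    change g * w * g⁻¹ = x at ew
    rwa [← ew, show g⁻¹ * (g * w * g⁻¹) * g = w by group]
  have hma := hmem a (mem_sup_left (mem_sup_left (mem_zpowers a)))
  have hmb := hmem b (mem_sup_left (mem_sup_right (mem_zpowers b)))
  have hmc := hmem c (mem_sup_right (mem_zpowers c))
  let φ : G ≃* G := MulAut.conj g⁻¹
  have hφ : ∀ x, φ x = g⁻¹ * x * g := fun x => by simp [φ]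
  have key : ∀ {x y : G}, Commute x y → Commute (g⁻¹ * x * g) (g⁻¹ * y * g) := fun {x y} h => by
    rw [← hφ, ← hφ]; exact h.map φ.toMonoidHom
  have hord : ∀ (x : G) (hx : g⁻¹ * x * g ∈ (T : Subgroup G)), orderOf x = 2 →
      orderOf (⟨_, hx⟩ : (T : Subgroup G)) = 2 := fun x hx h => by
    rw [orderOf_mk, ← hφ, MulEquiv.orderOf_eq, h]
  have hinj : ∀ {x y : G} (hx : g⁻¹ * x * g ∈ (T : Subgroup G)) (hy : g⁻¹ * y * g ∈ (T : Subgroup G)),
      (⟨_, hx⟩ : (T : Subgroup G)) = ⟨_, hy⟩ → x = y := fun {x y} hx hy h => by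
    have := congrArg Subtype.val h
    simp only [← hφ] at this
    exact φ.injective this
  refine no_eight_sylow E (hord a hma ha) (hord b hmb hb) (hord c hmc hc) (Subtype.ext (key hab).eq)
    (Subtype.ext (key hac).eq) (Subtype.ext (key hbc).eq) (fun h => hne (hinj _ _ h))
    (fun h => h1 (hinj _ _ h)) (fun h => h2 (hinj _ _ h)) (fun h => h3 (φ.injective ?_))
  rw [map_mul, hφ, hφ, hφ]
  exact congrArg Subtype.val h

/-- A noncyclic normal subgroup of a dihedral group. -/
theorem normal_noncyclic (R : Subgroup S) [R.Normal] (hR : ¬ IsCyclic R) :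
    ∃ j : ℤ, D.r ^ (2 : ℤ) ∈ R ∧ D.r ^ j * D.s ∈ R ∧
      (D.r ^ (j + 1) * D.s ∈ R → R = ⊤) ∧
      ∀ u : S, u ∈ R ∨ D.r ^ (j + 1) * D.s * u ∈ R := by
  obtain ⟨j, hj⟩ : ∃ j : ℤ, D.r ^ j * D.s ∈ R := by
    by_contra hno
    push Not at hno
    refine hR (isCyclic_of_injective (inclusion (show R ≤ zpowers D.r from fun u hu => ?_))
      (inclusion_injective _))
    rcases D.cases u with ⟨i, rfl⟩ | ⟨i, rfl⟩
    · exact zpow_mem (mem_zpowers _) i
    · exact absurd hu (hno i)
  have hr2 : D.r ^ (2 : ℤ) ∈ R := by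
    have h := mul_mem ((inferInstance : R.Normal).conj_mem _ hj D.r) hj
    rwa [show D.r * (D.r ^ j * D.s) * D.r⁻¹ = D.r ^ (1 + j + 1) * D.s by
      rw [zpow_add, zpow_add, zpow_one]
      have := D.zy_mul_z 0 (-1)
      rw [zpow_zero, one_mul, zpow_neg, zpow_one, zero_sub, neg_neg, zpow_one] at this
      rw [show D.r * (D.r ^ j * D.s) * D.r⁻¹ = D.r * D.r ^ j * (D.s * D.r⁻¹) by group, this]
      group, D.zy_mul_zy, show 1 + j + 1 - j = 2 by ring] at h
  have heven : ∀ e : ℤ, D.r ^ (2 * e) ∈ R := fun e => by rw [zpow_mul]; exact zpow_mem hr2 e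
  have hcase : ∀ u : S, u ∈ R ∨ D.r ^ (j + 1) * D.s * u ∈ R := by
    intro u
    rcases D.cases u with ⟨i, rfl⟩ | ⟨i, rfl⟩
    · rcases Int.even_or_odd' i with ⟨e, rfl | rfl⟩
      · exact Or.inl (heven e)
      · refine Or.inr ?_
        rw [D.zy_mul_z, show j + 1 - (2 * e + 1) = 2 * (-e) + j by ring, zpow_add, mul_assoc]
        exact mul_mem (heven _) hj
    · rcases Int.even_or_odd' (i - j) with ⟨e, he | he⟩
      · refine Or.inl ?_
        rw [show i = 2 * e + j by omega, zpow_add, mul_assoc]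
        exact mul_mem (heven _) hj
      · refine Or.inr ?_
        rw [D.zy_mul_zy, show j + 1 - i = 2 * (-e) by omega]
        exact heven _
  refine ⟨j, hr2, hj, fun h => eq_top_iff.2 fun u _ => ?_, hcase⟩
  rcases hcase u with hu | hu
  · exact hu
  · exact (mul_mem_cancel_left h).1 hu

end CfsgLib.Recog.GenDihedral
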