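import Cfsg.Agent.Lib.Recog.GenDihedral.ReduceBase
import Cfsg.Agent.Lib.Recog.GenDihedral.GenFixFree

/-!
A finite group with an involutory automorphism fixing at most two elements is solvable.
-/

set_option autoImplicit false

namespace CfsgLib.Recog.GenDihedral

open Subgroup CfsgLib.Invol

universe u

/-- An involutory automorphism with a fixed point `d` reaching `d` as a commutator makes every
involution commute with `d`. -/
theorem commute_of_fix_le_two {N : Type u} [Group N] [Finite N] (σ : N →* N)
    (hσ : ∀ x, σ (σ x) = x) {d : N} (hd : orderOf d = 2) (hdfix : σ d = d)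
    (hfix : ∀ x, σ x = x → x = 1 ∨ x = d) {x : N} (hx : x⁻¹ * σ x = d) {u : N}
    (hu : orderOf u = 2) : Commute u d := by
  have huu := invol_mul_self hu
  have hu' := invol_inv hu
  have hdd := invol_mul_self hd
  set w := u * σ u with hw
  have hσw : σ w = w⁻¹ := by
    rw [hw, map_mul, hσ, mul_inv_rev, hu', ← map_inv, hu']
  have hσu : σ u = u * w := by rw [hw, ← mul_assoc, huu, one_mul]
  have huw : u * w * u⁻¹ = w⁻¹ := by
    rw [hw, ← mul_assoc, huu, one_mul, mul_inv_rev, hu', ← map_inv, hu']
  rcases Nat.even_or_odd (orderOf w) with hev | ⟨l, hl⟩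
  · -- the central involution of the dihedral group
    have hv := orderOf_pow_half hev
    set v := w ^ (orderOf w / 2) with hv'
    have hvfix : σ v = v := by rw [hv', map_pow, hσw, inv_pow, ← hv', invol_inv hv]
    have hvd : v = d := (hfix v hvfix).resolve_left (invol_ne_one hv)
    have h1 : u * v * u⁻¹ = v := by rw [hv', ← conj_pow, huw, inv_pow, ← hv', invol_inv hv]
    exact hvd ▸ mul_inv_eq_iff_eq_mul.1 h1
  · have hwl : w ^ (l + 1) * w ^ l = 1 := by
      rw [← pow_add, show l + 1 + l = 2 * l + 1 by ring, ← hl, pow_orderOf_eq_one]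
    have huwl : u * w ^ l * u⁻¹ = (w ^ l)⁻¹ := by rw [← conj_pow, huw, inv_pow]
    have hafix : σ (w ^ l * u) = w ^ l * u := by
      rw [map_mul, map_pow, hσw, inv_pow, hσu,
        show u * w = (u * w * u⁻¹) * u by group, huw, ← mul_assoc]
      congr 1
      rw [← mul_inv_rev, inv_eq_of_mul_eq_one_right]
      rw [← pow_succ']; exact hwl
    have had : w ^ l * u = d := (hfix _ hafix).resolve_left fun e => by
      have h1 : u = (w ^ l)⁻¹ := eq_inv_of_mul_eq_one_right e
      have h2 : orderOf u ∣ orderOf w := by rw [h1, orderOf_inv]; exact orderOf_pow_dvd l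
      rw [hu, hl] at h2
      omega
    -- the twisted automorphism fixes `u`
    have htu : d * σ u * d = u := by
      nth_rewrite 2 [← invol_inv hd]
      rw [← had, mul_inv_rev, hσu, hu',
        show w ^ l * u * (u * w) * (u * (w ^ l)⁻¹) = w ^ l * (u * u) * w * u * (w ^ l)⁻¹ by group,
        huu, mul_one, show w ^ l * w * u * (w ^ l)⁻¹ = w ^ l * w * (u * (w ^ l)⁻¹ * u⁻¹) * u by group,
        show u * (w ^ l)⁻¹ * u⁻¹ = (u * w ^ l * u⁻¹)⁻¹ by group, huwl, inv_inv,
        ← pow_succ, hwl, one_mul]
    have hσx : σ x = x * d := by rw [← hx]; group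
    have htw : ∀ y, d * σ y * d = y → y = 1 ∨ y = x⁻¹ * d * x := by
      intro y hy
      have h1 : σ (x * y * x⁻¹) = x * y * x⁻¹ := by
        rw [map_mul, map_mul, map_inv, hσx, mul_inv_rev, invol_inv hd,
          show x * d * σ y * (d * x⁻¹) = x * (d * σ y * d) * x⁻¹ by group, hy]
      rcases hfix _ h1 with e | e
      · exact Or.inl (conj_eq_one_iff.1 e)
      · exact Or.inr (by rw [← e]; group)
    have hdx := (htw d (by rw [hdfix, hdd, one_mul])).resolve_left (invol_ne_one hd)
    have hud := (htw u htu).resolve_left (invol_ne_one hu)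
    rw [hud, ← hdx]

/-- In a nontrivial `2`-group the fixed involution is a commutator. -/
theorem exists_commutator_fix {P : Type u} [Group P] [Finite P] (σ : P →* P)
    (hσ : ∀ x, σ (σ x) = x) (hp : IsPGroup 2 P) (h4 : 4 ∣ Nat.card P) {d : P}
    (hd : orderOf d = 2) (hdfix : σ d = d) (hfix : ∀ x, σ x = x → x = 1 ∨ x = d) :
    ∃ x, x⁻¹ * σ x = d := by
  classical
  have := Fintype.ofFinite P
  by_contra hno
  push Not at hno
  set f : P → P := fun x => x⁻¹ * σ x with hf
  set I := Finset.univ.image f with hI
  have hdd := invol_mul_self hd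
  -- the fibres
  have hfib : ∀ y ∈ I, (Finset.univ.filter fun x => f x = y).card = 2 := by
    intro y hy
    obtain ⟨x, -, rfl⟩ := Finset.mem_image.1 hy
    have : (Finset.univ.filter fun x' => f x' = f x) = {x, d * x} := by
      ext x'
      simp only [Finset.mem_filter, Finset.mem_univ, true_and, Finset.mem_insert,
        Finset.mem_singleton]
      constructor
      · intro h
        have h1 : σ (x' * x⁻¹) = x' * x⁻¹ := by
          simp only [hf] at h
          rw [map_mul, map_inv]
          calc σ x' * (σ x)⁻¹ = x' * (x'⁻¹ * σ x') * (σ x)⁻¹ := by group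
            _ = x' * x⁻¹ := by rw [h]; group
        rcases hfix _ h1 with e | e
        · exact Or.inl (mul_inv_eq_one.1 e)
        · exact Or.inr (mul_inv_eq_iff_eq_mul.1 e)
      · rintro (rfl | rfl)
        · rfl
        · simp only [hf]
          rw [map_mul, hdfix, mul_inv_rev, invol_inv hd, mul_assoc, ← mul_assoc d d, hdd, one_mul]
    rw [this, Finset.card_pair]
    exact fun e => invol_ne_one hd (mul_eq_right.1 e.symm)
  have hcard : Nat.card P = I.card * 2 := by
    rw [Nat.card_eq_fintype_card, ← Finset.card_univ,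
      Finset.card_eq_sum_card_image f Finset.univ, Finset.sum_const_nat hfib]
  have heven : Even I.card := by
    obtain ⟨q, hq⟩ := h4
    exact ⟨q, by omega⟩
  -- inversion pairs the nontrivial values
  have h1I : (1 : P) ∈ I := Finset.mem_image.2 ⟨1, Finset.mem_univ _, by simp [hf]⟩
  have hpair : Even (I.erase 1).card := by
    refine (ZMod.natCast_eq_zero_iff_even).1 ?_
    rw [Finset.card_eq_sum_ones, Nat.cast_sum, Nat.cast_one]
    refine Finset.sum_involution (fun y _ => y⁻¹) (fun _ _ => by decide) (fun y hy _ e => ?_)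
      (fun y hy => ?_) (fun y _ => inv_inv y)
    · obtain ⟨hy1, hyI⟩ := Finset.mem_erase.1 hy
      obtain ⟨x, -, rfl⟩ := Finset.mem_image.1 hyI
      have h1 : σ (f x) = f x := by
        nth_rewrite 2 [← e]
        simp only [hf, map_mul, map_inv, hσ, mul_inv_rev, inv_inv]
      rcases hfix _ h1 with e' | e'
      · exact hy1 e'
      · exact hno x e'
    · obtain ⟨hy1, hyI⟩ := Finset.mem_erase.1 hy
      obtain ⟨x, -, rfl⟩ := Finset.mem_image.1 hyI
      refine Finset.mem_erase.2 ⟨fun e => hy1 (inv_eq_one.1 e), Finset.mem_image.2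
        ⟨σ x, Finset.mem_univ _, ?_⟩⟩
      simp only [hf, hσ, mul_inv_rev, inv_inv]
  rw [Finset.card_erase_of_mem h1I] at hpair
  obtain ⟨a, ha⟩ := heven
  obtain ⟨b, hb⟩ := hpair
  have := Finset.card_pos.2 ⟨1, h1I⟩
  omega

/-- **An involutory automorphism with at most two fixed points forces solvability.** -/
theorem isSolvable_of_fix_le_two : ∀ (N : Type u) [Group N] [Finite N] (σ : N →* N),
    (∀ x, σ (σ x) = x) → ∀ d : N, (∀ x, σ x = x → x = 1 ∨ x = d) → Group.IsSolvable N := by
  intro N _ _
  induction hn : Nat.card N using Nat.strong_induction_on generalizing N with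
  | _ n ih =>
    intro σ hσ d hfix
    subst hn
    classical
    have : Fact (Nat.Prime 2) := ⟨Nat.prime_two⟩
    by_cases hfix1 : ∀ x, σ x = x → x = 1
    · -- fixed-point-free
      have hfree : MonoidHom.FixedPointFree σ := fun x hx => hfix1 x hx
      have hinv := hfree.coe_eq_inv_of_involutive hσ
      refine Group.isSolvable_of_comm fun a b => ?_
      have h1 := map_mul σ a b
      simp only [hinv, mul_inv_rev] at h1
      have h2 := congrArg (·⁻¹) h1
      simp only [mul_inv_rev, inv_inv] at h2
      exact h2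
    push Not at hfix1
    obtain ⟨d', hd'fix, hd'1⟩ := hfix1
    obtain rfl : d' = d := (hfix d' hd'fix).resolve_left hd'1
    have hd : orderOf d' = 2 := by
      refine invol_of_mul_self ((hfix _ (by rw [map_mul, hd'fix])).resolve_right fun e => ?_) hd'1
      exact hd'1 (mul_eq_left.1 e)
    -- an invariant Sylow subgroup
    obtain ⟨P, hP⟩ : ∃ P : Sylow 2 N, ∀ x ∈ (P : Subgroup N), σ x ∈ (P : Subgroup N) := by
      let e : MulAut N := MulEquiv.ofBijective σ (Function.Involutive.bijective hσ)
      let f : Sylow 2 N → Sylow 2 N := fun P => e • P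
      have hf : Function.Involutive f := fun P => by
        show e • e • P = P
        rw [smul_smul, show e * e = 1 from MulEquiv.ext fun x => hσ x, one_smul]
      have := Fintype.ofFinite (Sylow 2 N)
      have hodd : ¬ 2 ∣ Fintype.card (Sylow 2 N) := by
        rw [← Nat.card_eq_fintype_card]; exact not_dvd_card_sylow 2 N
      obtain ⟨P, hP⟩ := Equiv.Perm.exists_fixed_point_of_prime (p := 2) (n := 1) hodd
        (σ := hf.toPerm f) (by
          rw [pow_one, pow_two]; exact Equiv.ext fun P => hf P)
      refine ⟨P, fun x hx => ?_⟩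
      have hP' : e • P = P := hP
      have h1 : e x ∈ ((e • P : Sylow 2 N) : Subgroup N) := ⟨x, hx, rfl⟩
      rwa [hP'] at h1
    by_cases h4 : ¬ 4 ∣ Nat.card (P : Subgroup N)
    · refine isSolvable_of_cyclic_sylow P ?_
      obtain ⟨k, hk⟩ := P.2.exists_card_eq
      rcases k with _ | _ | k
      · rw [Subgroup.card_eq_one.1 (hk.trans (pow_zero 2))]; infer_instance
      · exact isCyclic_of_prime_card (p := 2) (hk.trans (pow_one 2))
      · exact absurd ⟨2 ^ k, by rw [hk]; ring⟩ h4
    push Not at h4
    let σP : (P : Subgroup N) →* (P : Subgroup N) :=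
      MonoidHom.mk' (fun x => ⟨σ x, hP x x.2⟩) fun a b => Subtype.ext (map_mul σ _ _)
    have hdP : d' ∈ (P : Subgroup N) := by
      by_contra hdP
      have hfree : MonoidHom.FixedPointFree σP := fun x hx => by
        rcases hfix _ (congrArg Subtype.val hx) with e | e
        · exact Subtype.ext e
        · exact absurd (e ▸ x.2) hdP
      -- inversion fixes an involution
      have hinv := hfree.coe_eq_inv_of_involutive (fun x => Subtype.ext (hσ x))
      obtain ⟨w, hw⟩ := exists_prime_orderOf_dvd_card' (G := (P : Subgroup N)) 2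
        ((by norm_num : 2 ∣ 4).trans h4)
      refine invol_ne_one hw (hfree w ?_)
      rw [congrFun hinv w]
      exact invol_inv hw
    obtain ⟨⟨x, hxP⟩, hx⟩ := exists_commutator_fix σP (fun y => Subtype.ext (hσ y)) P.2 h4
      (d := ⟨d', hdP⟩) (by rw [orderOf_mk, hd]) (Subtype.ext hd'fix) fun y hy => by
        rcases hfix _ (congrArg Subtype.val hy) with e | e
        · exact Or.inl (Subtype.ext e)
        · exact Or.inr (Subtype.ext e)
    have hcomm : ∀ u, orderOf u = 2 → Commute u d' := fun u hu =>
      commute_of_fix_le_two σ hσ hd hd'fix hfix (congrArg Subtype.val hx :) hu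
    -- the conjugates of the fixed point
    set V := normalClosure ({d'} : Set N) with hV
    have hgen : ∀ a ∈ Group.conjugatesOfSet ({d'} : Set N), ∃ g : N, a = g * d' * g⁻¹ := fun a ha => by
      obtain ⟨y, rfl, hc⟩ := Group.mem_conjugatesOfSet_iff.1 ha
      obtain ⟨g, hg⟩ := isConj_iff.1 hc
      exact ⟨g, hg.symm⟩
    have hVc : IsMulCommutative V := by
      refine isMulCommutative_closure ?_
      intro a ha b hb
      obtain ⟨g, rfl⟩ := hgen a ha
      obtain ⟨k, rfl⟩ := hgen b hb
      have h1 := (hcomm ((g⁻¹ * k) * d' * (g⁻¹ * k)⁻¹) (by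
        rw [CfsgLib.Invol.orderOf_conj_eq, hd])).map (MulAut.conj g).toMonoidHom
      simp only [MulEquiv.coe_toMonoidHom, MulAut.conj_apply] at h1
      have e : g * (g⁻¹ * k * d' * (g⁻¹ * k)⁻¹) * g⁻¹ = k * d' * k⁻¹ := by group
      rw [e] at h1
      exact h1.symm.eq
    have hVsq : ∀ v ∈ V, v * v = 1 := by
      intro v hv
      induction hv using Subgroup.closure_induction with
      | mem a ha =>
        obtain ⟨g, rfl⟩ := hgen a ha
        exact invol_mul_self (by rw [CfsgLib.Invol.orderOf_conj_eq, hd])
      | one => rw [one_mul]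
      | mul a b ha hb iha ihb =>
        rw [Commute.mul_mul_mul_comm (congrArg Subtype.val
          (hVc.is_comm.comm (⟨b, hb⟩ : V) ⟨a, ha⟩) : b * a = a * b), iha, ihb, one_mul]
      | inv a _ iha => rw [← mul_inv_rev, iha, inv_one]
    have hVσ : V ≤ V.comap σ := by
      refine normalClosure_le_normal (N := V.comap σ) ?_
      intro a ha
      rw [Set.mem_singleton_iff.1 ha]
      show σ d' ∈ V
      rw [hd'fix]; exact subset_normalClosure rfl
    set τ : N ⧸ V →* N ⧸ V := QuotientGroup.map V V σ hVσ with hτ
    have hdV : d' ∈ V := subset_normalClosure rfl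
    have hlt : Nat.card (N ⧸ V) < Nat.card N := by
      rw [Subgroup.card_eq_card_quotient_mul_card_subgroup V]
      exact lt_mul_of_one_lt_right Nat.card_pos (V.one_lt_card_iff_ne_bot.2 fun e =>
        hd'1 (mem_bot.1 (e ▸ hdV)))
    -- the fixed points of the quotient
    have hVs : Group.IsSolvable V := Group.isSolvable_of_comm hVc.is_comm.comm
    refine CfsgLib.Invol.MetacyclicTwo.solvable_of_extension V hVs ?_
    by_cases hy : ∃ y : N, y ∉ V ∧ σ y * y⁻¹ ∈ V
    · obtain ⟨y, hyV, hy⟩ := hy
      refine ih _ hlt (N ⧸ V) rfl τ ?_ (QuotientGroup.mk' V y) ?_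
      · intro q
        obtain ⟨a, rfl⟩ := QuotientGroup.mk'_surjective V q
        exact congrArg (QuotientGroup.mk' V) (hσ a)
      · intro q hq
        obtain ⟨a, rfl⟩ := QuotientGroup.mk'_surjective V q
        have hq' : σ a * a⁻¹ ∈ V := by
          refine (QuotientGroup.eq_one_iff _).1 ?_
          show QuotientGroup.mk' V (σ a * a⁻¹) = 1
          rw [map_mul, map_inv, mul_inv_eq_one]
          exact hq
        -- at most four elements fixed modulo `V`
        have key : ∀ b : N, σ b * b⁻¹ ∈ V → σ b * b⁻¹ = 1 ∨ σ b * b⁻¹ = d' := fun b hb => by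
          refine hfix _ ?_
          have h1 := inv_eq_of_mul_eq_one_right (hVsq _ hb)
          rw [mul_inv_rev, inv_inv] at h1
          rw [map_mul, hσ, map_inv, h1]
        have hfixV : ∀ b : N, σ b = b → b ∈ V := fun b hb => by
          rcases hfix b hb with rfl | rfl
          · exact one_mem V
          · exact hdV
        have hmove : ∀ b : N, b ∉ V → σ b * b⁻¹ ∈ V → σ b = d' * b := fun b hb hb' =>
          mul_inv_eq_iff_eq_mul.1 ((key b hb').resolve_left fun e => hb
            (hfixV b (mul_inv_eq_one.1 e)))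
        by_cases ha : a ∈ V
        · exact Or.inl ((QuotientGroup.eq_one_iff a).2 ha)
        refine Or.inr (QuotientGroup.eq.2 ?_)
        refine hfixV _ ?_
        rw [map_mul, map_inv, hmove a ha hq', hmove y hyV hy, mul_inv_rev, mul_assoc,
          inv_mul_cancel_left]
    · push Not at hy
      refine ih _ hlt (N ⧸ V) rfl τ ?_ 1 ?_
      · intro q
        obtain ⟨a, rfl⟩ := QuotientGroup.mk'_surjective V q
        exact congrArg (QuotientGroup.mk' V) (hσ a)
      · intro q hq
        obtain ⟨a, rfl⟩ := QuotientGroup.mk'_surjective V q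
        refine Or.inl ((QuotientGroup.eq_one_iff a).2 ?_)
        by_contra ha
        refine hy a ha ((QuotientGroup.eq_one_iff _).1 ?_)
        show QuotientGroup.mk' V (σ a * a⁻¹) = 1
        rw [map_mul, map_inv, mul_inv_eq_one]
        exact hq

end CfsgLib.Recog.GenDihedral
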