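import Cfsg.Agent.Lib.Recog.GenDihedral.AlmostSimple
import Cfsg.Agent.Lib.Recog.GenDihedral.GenFixFree

/-!
Groups with dihedral Sylow 2-subgroup and trivial odd core in which a reflection not fused to the
centre centralizes only an elementary abelian part of the centralizer of the central involution.
-/

set_option autoImplicit false
set_option linter.unusedSectionVars false

namespace CfsgLib.Recog.GenDihedral

open Subgroup CfsgLib.Invol CfsgLib.BlockA.DihedralBlock
open scoped MatrixGroups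

universe u

variable {Q : Type u} [Group Q] [Finite Q]

/-- The odd normal complement of the centralizer of the central involution. -/
theorem exists_odd_complement (T : Sylow 2 Q) (E : DihData (T : Subgroup Q)) :
    ∃ N : Subgroup Q, Odd (Nat.card N) ∧ N ≤ centralizer ({dz T E} : Set Q) ∧
      (∀ x ∈ centralizer ({dz T E} : Set Q), ∀ n ∈ N, x * n * x⁻¹ ∈ N) ∧
      (∀ x ∈ centralizer ({dz T E} : Set Q), ∃ n ∈ N, ∃ p ∈ (T : Subgroup Q), x = n * p) ∧
      ∀ x ∈ centralizer ({dz T E} : Set Q), Odd (orderOf x) → x ∈ N := by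
  classical
  have : Fact (Nat.Prime 2) := ⟨Nat.prime_two⟩
  set C := centralizer ({dz T E} : Set Q) with hCdef
  obtain ⟨P, N₀, hN₀, hcp⟩ := complement_dz T E
  obtain ⟨k, hk⟩ := P.2.exists_card_eq
  have hodd : Odd (Nat.card N₀) := by
    rw [← Nat.not_even_iff_odd, even_iff_two_dvd, ← hcp.index_eq_card]
    exact P.not_dvd_index
  have hidx : N₀.index = 2 ^ k := by rw [hcp.symm.index_eq_card, hk]
  have htop : N₀ ⊔ ((T.subtype (sylow_le_centralizer_dz T E) : Sylow 2 C) : Subgroup C) = ⊤ := by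
    rw [← index_eq_one]
    refine Nat.dvd_one.1 ?_
    have h1 : (N₀ ⊔ ((T.subtype (sylow_le_centralizer_dz T E) : Sylow 2 C) : Subgroup C)).index ∣
        2 ^ k := hidx ▸ index_dvd_of_le le_sup_left
    have h2 := index_dvd_of_le (le_sup_right (a := N₀)
      (b := ((T.subtype (sylow_le_centralizer_dz T E) : Sylow 2 C) : Subgroup C)))
    exact (Nat.Coprime.pow_left k ((Nat.Prime.coprime_iff_not_dvd Nat.prime_two).2
      (T.subtype (sylow_le_centralizer_dz T E)).not_dvd_index)) ▸ Nat.dvd_gcd h1 h2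
  refine ⟨N₀.map C.subtype, ?_, map_subtype_le _, ?_, ?_, ?_⟩
  · rwa [← Nat.card_congr (N₀.equivMapOfInjective _ C.subtype_injective).toEquiv]
  · rintro x hx _ ⟨n, hn, rfl⟩
    exact ⟨⟨x, hx⟩ * n * ⟨x, hx⟩⁻¹, hN₀.conj_mem n hn _, rfl⟩
  · intro x hx
    obtain ⟨n, hn, p, hp, e⟩ := mem_sup_of_normal_left.1 (htop.ge (mem_top (⟨x, hx⟩ : C)))
    exact ⟨n, ⟨n, hn, rfl⟩, p, hp, congrArg Subtype.val e.symm⟩
  · intro x hx ho
    refine mem_of_pow_two_pow (k := k) ho ⟨⟨x, hx⟩ ^ 2 ^ k, ?_, rfl⟩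
    rw [← hidx]
    exact N₀.pow_index_mem _

/-- **The case of a fusion-free reflection.** -/
theorem exists_outer_pgl (hns : ¬ Group.IsSolvable Q)
    (hO : ∀ N : Subgroup Q, N.Normal → Odd (Nat.card N) → N = ⊥) (T : Sylow 2 Q)
    (E : DihData (T : Subgroup Q)) (i : ℤ)
    (hstar : ∀ x : Q, Commute x (dt T E i) → Commute x (dz T E) → x * x = 1)
    (hout : ¬ IsConj (dt T E i) (dz T E)) :
    ∃ (F : Type) (_ : Field F) (_ : Fintype F), 3 < Fintype.card F ∧
      (Nonempty (Q ≃* Matrix.ProjectiveSpecialLinearGroup (Fin 2) F) ∨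
        Nonempty (Q ≃* Matrix.ProjGenLinGroup (Fin 2) F)) := by
  classical
  have : Fact (Nat.Prime 2) := ⟨Nat.prime_two⟩
  obtain ⟨L, hLn, hLs, hLna, hC⟩ := exists_simple_socle hns hO T E
  have hLns : ¬ Group.IsSolvable L := fun h => hLna ⟨⟨IsSimpleGroup.comm_iff_isSolvable.2 h⟩⟩
  obtain ⟨P, D, j, hP, hdz, hrot, hs, -⟩ := exists_subData T E L hLns
  set z := dt T E i with hz
  set c := dz T E with hc
  have hcL : c ∈ L := hdz ▸ (dz P D).2
  have honeL : ∀ a b : L, orderOf a = 2 → orderOf b = 2 → IsConj a b :=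
    one_class_of_no_index_two P D (CfsgLib.Invol.index_ne_two_of_simple hLna)
  -- the reflection is outside the socle
  have hzL : z ∉ L := fun h => hout (by
    have h1 : orderOf (⟨z, h⟩ : L) = 2 := by
      rw [orderOf_mk]; exact (Subgroup.orderOf_coe _).trans (E.orderOf_zy i)
    have h2 : orderOf (⟨c, hcL⟩ : L) = 2 := by
      rw [orderOf_mk]; exact (Subgroup.orderOf_coe _).trans E.orderOf_z
    exact L.subtype.map_isConj (honeL _ _ h1 h2))
  set r := rot T E with hr
  have hdt : ∀ a : ℤ, dt T E a = r ^ a * refl T E := CfsgLib.Recog.GenDih.dt_eq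
  have htL : dt T E j ∈ L := hs ▸ SetLike.coe_mem _
  have hzz : z * z = 1 := invol_mul_self ((Subgroup.orderOf_coe _).trans (E.orderOf_zy i))
  have hzr : z * r * z⁻¹ = r⁻¹ := by
    rw [hz, hdt, show r ^ i * refl T E * r * (r ^ i * refl T E)⁻¹ =
      r ^ i * (refl T E * r * (refl T E)⁻¹) * (r ^ i)⁻¹ by group, hr, refl_conj]
    group
  -- the rotation generating the Sylow subgroup is outside the socle
  have hrL : r ∉ L := fun h => hzL (by
    have h1 := mul_mem (zpow_mem h (i - j)) htL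
    rwa [hdt, ← mul_assoc, ← zpow_add, sub_add_cancel, ← hdt] at h1)
  -- the odd part of the centralizer of the centre
  obtain ⟨N, hNodd, hNC, hNn, hsplit, hNodd'⟩ := exists_odd_complement T E
  have hTC := sylow_le_centralizer_dz T E
  have hzC : z ∈ centralizer ({c} : Set Q) := hTC (SetLike.coe_mem _)
  have hzinv : ∀ n ∈ N, z * n * z⁻¹ = n⁻¹ := inverts_of_no_fixed hzz (hNn z hzC) fun n hn h =>
    CfsgLib.Recog.GenDih.eq_one_of_sq (hNodd.of_dvd_nat (Subgroup.orderOf_dvd_natCard _ hn))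
      (hstar n (mul_inv_eq_iff_eq_mul.1 h).symm (mem_centralizer_singleton_iff.1 (hNC hn)))
  have hNcomm : ∀ a ∈ N, ∀ b ∈ N, Commute a b := fun a ha b hb => by
    have h1 := hzinv _ (mul_mem ha hb)
    rw [show z * (a * b) * z⁻¹ = (z * a * z⁻¹) * (z * b * z⁻¹) by group, hzinv a ha, hzinv b hb,
      mul_inv_rev] at h1
    have h2 := congrArg (·⁻¹) h1
    simp only [mul_inv_rev, inv_inv] at h2
    exact h2.symm
  -- the square of the rotation centralizes it
  have hrC : r ∈ centralizer ({c} : Set Q) := hTC (SetLike.coe_mem _)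
  have hr2 : ∀ n ∈ N, Commute (r * r) n := by
    intro n hn
    have h1 := hzinv _ (hNn r hrC n hn)
    have hi := inv_eq_of_mul_eq_one_right hzz
    rw [show z * (r * n * r⁻¹) * z⁻¹ = (z * r * z⁻¹) * (z * n * z⁻¹) * (z * r * z⁻¹)⁻¹ by group,
      hzr, hzinv n hn, inv_inv, show (r * n * r⁻¹)⁻¹ = r * n⁻¹ * r⁻¹ by group] at h1
    have h2 : Commute (r * r) n⁻¹ := by
      show r * r * n⁻¹ = n⁻¹ * (r * r)
      calc r * r * n⁻¹ = r * (r * n⁻¹ * r⁻¹) * r := by group
        _ = r * (r⁻¹ * n⁻¹ * r) * r := by rw [h1]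
        _ = n⁻¹ * (r * r) := by group
    simpa using h2.inv_right
  -- the rotations of the socle are even
  obtain ⟨e, he⟩ := mem_zpowers_iff.1 hrot
  have hr2L : r * r ∈ L := by
    have h1 := mul_mem (hLn.conj_mem _ htL r) htL
    have h2 : r * dt T E j * r⁻¹ * dt T E j = r * r := by
      have hinv : dt T E j * r⁻¹ * dt T E j = r := by
        have htt : (dt T E j)⁻¹ = dt T E j :=
          inv_eq_of_mul_eq_one_right (invol_mul_self ((Subgroup.orderOf_coe _).trans (E.orderOf_zy j)))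
        nth_rewrite 2 [← htt]
        rw [hdt, show r ^ j * refl T E * r⁻¹ * (r ^ j * refl T E)⁻¹ =
          r ^ j * (refl T E * r * (refl T E)⁻¹)⁻¹ * (r ^ j)⁻¹ by group, hr, refl_conj, inv_inv]
        group
      rw [show r * dt T E j * r⁻¹ * dt T E j = r * (dt T E j * r⁻¹ * dt T E j) by group, hinv]
    rwa [h2] at h1
  obtain ⟨f, rfl⟩ : Even e := by
    by_contra hodd
    obtain ⟨f, rfl⟩ := Int.not_even_iff_odd.1 hodd
    refine hrL ?_
    have h1 : r ^ (2 * f + 1) ∈ L := he ▸ Subtype.prop _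
    rw [zpow_add, zpow_mul, zpow_one, zpow_two] at h1
    exact (mul_mem_cancel_left (zpow_mem hr2L f)).1 h1
  have hDr : ∀ n ∈ N, Commute ((((D.r : (P : Subgroup L)) : L) : Q)) n := fun n hn => by
    rw [← he, ← two_mul, zpow_mul, zpow_two]
    exact (hr2 n hn).zpow_left f
  -- generalized dihedral data in the socle
  have hcenL : ∀ x : L, x ∈ centralizer ({dz P D} : Set L) → (x : Q) ∈ centralizer ({c} : Set Q) := by
    intro x hx
    rw [mem_centralizer_singleton_iff] at hx ⊢
    rw [← hdz, ← Subgroup.coe_mul, ← Subgroup.coe_mul, hx]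
  obtain ⟨N', hN'odd, hN'C, -, hsplit', -⟩ := exists_odd_complement P D
  have hG := gen_of_rot_commute hLna P D (N.subgroupOf L)
    (hNodd.of_dvd_nat (card_comap_dvd_of_injective N L.subtype L.subtype_injective))
    (fun a ha b hb => Subtype.ext (hNcomm _ ha _ hb).eq)
    (fun x hx => mem_centralizer_singleton_iff.2 (Subtype.ext (by
      rw [Subgroup.coe_mul, Subgroup.coe_mul, hdz]
      exact mem_centralizer_singleton_iff.1 (hNC hx))))
    (fun p hp x hx => hNn _ (hTC (hP.le hp)) _ hx)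
    (fun x hx => Subtype.ext (hDr _ hx).eq)
    (fun x hx => by
      obtain ⟨n, hn, p, hp, rfl⟩ := hsplit' x hx
      exact ⟨n, hNodd' _ (hcenL n (hN'C hn)) (by
        rw [Subgroup.coe_subtype, Subgroup.orderOf_coe]
        exact hN'odd.of_dvd_nat (Subgroup.orderOf_dvd_natCard _ hn)), p, hp, rfl⟩)
  obtain ⟨F, _, _, hodd, ⟨e'⟩⟩ := CfsgLib.Recog.GenDih.psl_of_gen hG
  have h5 := five_le_of_simple hLna hodd e'
  refine ⟨F, inferInstance, inferInstance, by omega,
    psl_or_pgl hodd (by omega) T E L e' hC c hcL ((Subgroup.orderOf_coe _).trans E.orderOf_z) ?_⟩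
  intro x hx
  obtain ⟨n, hn, p, hp, rfl⟩ := hsplit x hx
  exact mul_mem (subset_closure (Or.inr ⟨z, hzinv n hn⟩)) (subset_closure (Or.inl hp))

end CfsgLib.Recog.GenDihedral
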