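import Cfsg.Agent.Lib.Recog.GenDihedral.ReduceTwo
import Cfsg.Agent.Lib.Recog.GenDihedral.AlmostSimple
import Cfsg.Agent.Lib.Invol.ZStar
import Cfsg.Agent.Lib.Recog.PGroupImprimitive
import Cfsg.Agent.Lib.Recog.GenDihedral.OneClass

/-!
One involution in the abelian part and the centralizer contains a Sylow 2-subgroup.
-/

set_option autoImplicit false
set_option linter.unusedSectionVars false
set_option maxHeartbeats 800000

namespace CfsgLib.Recog.GenDihedral

open Subgroup CfsgLib.Invol CfsgLib.BlockA.DihedralBlock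

universe u

variable {G : Type u} [Group G] [Finite G] {H A : Subgroup G}

/-- An abelian `2`-group with at most one involution is cyclic. -/
theorem isCyclic_of_one_invol {R : Type u} [Group R] [Finite R] (hR : IsPGroup 2 R)
    (hc : ∀ a b : R, a * b = b * a) {z : R} (h1 : ∀ w : R, orderOf w = 2 → w = z) : IsCyclic R := by
  have : Fact (Nat.Prime 2) := ⟨Nat.prime_two⟩
  refine CfsgLib.Recog.PGroupImprimitive.isCyclic_of_comm_unique hR hc fun X Y hX hY => ?_
  have key : ∀ X : Subgroup R, Nat.card X = 2 → X = zpowers z := fun X hX => by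
    obtain ⟨x, hx, hx1⟩ : ∃ x ∈ X, x ≠ (1 : R) := by
      by_contra h
      push Not at h
      rw [(Subgroup.eq_bot_iff_forall X).2 h, card_bot] at hX
      omega
    have ho : orderOf x = 2 := ((Nat.dvd_prime Nat.prime_two).1
      (hX ▸ Subgroup.orderOf_dvd_natCard X hx)).resolve_left fun e => hx1 (orderOf_eq_one_iff.1 e)
    exact (Subgroup.eq_of_le_of_card_ge (zpowers_le.2 (h1 x ho ▸ hx))
      (by rw [Nat.card_zpowers, ← h1 x ho, ho, hX])).symm
  rw [key X hX, key Y hY]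

/-- The image of a Sylow subgroup modulo an odd normal subgroup. -/
theorem sylow_equiv_map (T : Sylow 2 G) (K : Subgroup G) [K.Normal] (hK : Odd (Nat.card K)) :
    ∃ (Tb : Sylow 2 (G ⧸ K)) (e : (T : Subgroup G) ≃* (Tb : Subgroup (G ⧸ K))),
      ∀ t, ((e t : (Tb : Subgroup (G ⧸ K))) : G ⧸ K) = QuotientGroup.mk' K (t : G) := by
  classical
  have : Fact (Nat.Prime 2) := ⟨Nat.prime_two⟩
  set π := QuotientGroup.mk' K with hπ
  refine ⟨T.mapSurjective (QuotientGroup.mk'_surjective K), ?_⟩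
  have hinj : Function.Injective (π.comp (T : Subgroup G).subtype) := by
    rw [injective_iff_map_eq_one]
    intro t ht
    have h1 : (t : G) ∈ K := (QuotientGroup.eq_one_iff _).1 ht
    obtain ⟨n, hn⟩ := T.2 t
    refine Subtype.ext (orderOf_eq_one_iff.1 ?_)
    exact Nat.eq_one_of_dvd_coprimes
      ((Nat.coprime_two_left.2 (hK.of_dvd_nat (Subgroup.orderOf_dvd_natCard _ h1))).pow_left n)
      (orderOf_dvd_of_pow_eq_one (congrArg Subtype.val hn :)) dvd_rfl
  refine ⟨(MonoidHom.ofInjective hinj).trans (MulEquiv.subgroupCongr ?_), fun t => rfl⟩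
  rw [MonoidHom.range_comp, Subgroup.range_subtype, Sylow.coe_mapSurjective]

/-- Reduction modulo the odd core. -/
theorem pslQuot_of_quotient (K : Subgroup G) [K.Normal] (hK : Odd (Nat.card K))
    (h : ∃ (F : Type) (_ : Field F) (_ : Fintype F), 3 < Fintype.card F ∧
      (Nonempty (G ⧸ K ≃* Matrix.ProjectiveSpecialLinearGroup (Fin 2) F) ∨
        Nonempty (G ⧸ K ≃* Matrix.ProjGenLinGroup (Fin 2) F))) : PSLQuot G :=
  ⟨K, inferInstance, Or.inl hK, h⟩

/-- The quotient by the odd core has no odd normal subgroups. -/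
theorem odd_normal_quotient_eq_bot (K : Subgroup G) [K.Normal] (hK : Odd (Nat.card K))
    (hmax : ∀ N : Subgroup G, N.Normal → Odd (Nat.card N) → N ≤ K) (M : Subgroup (G ⧸ K))
    (hM : M.Normal) (hodd : Odd (Nat.card M)) : M = ⊥ := by
  have hle : K ≤ M.comap (QuotientGroup.mk' K) := by
    intro k hk
    rw [mem_comap, show QuotientGroup.mk' K k = 1 from (QuotientGroup.eq_one_iff k).2 hk]
    exact one_mem M
  have hcard : Nat.card (M.comap (QuotientGroup.mk' K)) = Nat.card M * Nat.card K := by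
    have h1 := (M.comap (QuotientGroup.mk' K)).card_mul_index
    rw [Subgroup.index_comap_of_surjective M (QuotientGroup.mk'_surjective K)] at h1
    have h2 := M.card_mul_index
    have h3 := Subgroup.card_eq_card_quotient_mul_card_subgroup K
    refine Nat.eq_of_mul_eq_mul_right (Nat.pos_of_ne_zero (M.index_ne_zero_of_finite)) ?_
    rw [h1, h3, ← h2]; ring
  have h := hmax _ (hM.comap _) (by rw [hcard]; exact hodd.mul hK)
  rw [eq_bot_iff]
  intro x hx
  obtain ⟨g, rfl⟩ := QuotientGroup.mk'_surjective K x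
  exact mem_bot.2 ((QuotientGroup.eq_one_iff g).2 (h hx))

theorem not_solvable_quotient (K : Subgroup G) [K.Normal] (hK : Odd (Nat.card K))
    (hns : ¬ Group.IsSolvable G) : ¬ Group.IsSolvable (G ⧸ K) := fun h =>
  hns (CfsgLib.Invol.MetacyclicTwo.solvable_of_extension K (CfsgLib.FT.odd_order_solvable hK) h)

namespace DHyp

variable (h : DHyp H A) (hA : ∃ a ∈ A, a * a ≠ 1) {z : G} (hzA : z ∈ A) (hz2 : orderOf z = 2)
  (huniq : ∀ j ∈ A, orderOf j = 2 → j = z)
include h hA hzA hz2 huniq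

/-- A dihedral normal form of a Sylow 2-subgroup inside the centralizer. -/
theorem exists_dihData (T : Sylow 2 G) (hT : (T : Subgroup G) ≤ H) :
    ∃ E : DihData (T : Subgroup G), dz T E = z := by
  classical
  have : Fact (Nat.Prime 2) := ⟨Nat.prime_two⟩
  set R := A.subgroupOf (T : Subgroup G) with hR
  obtain ⟨x, hx, hxA⟩ := h.exists_refl
  obtain ⟨y, hyT, hyA⟩ : ∃ y ∈ (T : Subgroup G), y ∉ A := by
    by_contra hno
    push Not at hno
    let T' : Sylow 2 H := T.subtype hT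
    have hx2 : orderOf (⟨x, hx⟩ : H) = 2 := by
      rw [orderOf_mk]; exact invol_of_mul_self (h.mul_self hx hxA) fun e => hxA (e ▸ one_mem A)
    obtain ⟨g, hg⟩ := exists_conj_invol_mem_sylow T' hx2
    have hgA : (g : G) * x * (g : G)⁻¹ ∈ A := hno _ hg
    refine hxA ?_
    by_cases hgA' : (g : G) ∈ A
    · have h1 := mul_mem (mul_mem (inv_mem hgA') hgA) hgA'
      rwa [show (g : G)⁻¹ * ((g : G) * x * (g : G)⁻¹) * g = x by group] at h1
    · have h1 : (g : G)⁻¹ * ((g : G) * x * (g : G)⁻¹) * (g : G)⁻¹⁻¹ = ((g : G) * x * (g : G)⁻¹)⁻¹ :=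
        h.inverts (inv_mem g.2) (fun e => hgA' (inv_mem_iff.1 e)) hgA
      rw [show (g : G)⁻¹ * ((g : G) * x * (g : G)⁻¹) * (g : G)⁻¹⁻¹ = x by group] at h1
      rw [h1]; exact inv_mem hgA
  have hidx : R.index = 2 := by
    rw [index_eq_two_iff]
    refine ⟨⟨y, hyT⟩, fun b => ?_⟩
    by_cases hb : (b : G) ∈ A
    · exact Or.inr ⟨hb, fun e => hyA ((mul_mem_cancel_left hb).1 e)⟩
    · exact Or.inl ⟨h.mul_mem_or hA (hT b.2) hb (hT hyT) hyA, hb⟩
  have hzT : z ∈ (T : Subgroup G) := by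
    have hzc : ∀ w ∈ (T : Subgroup G), w * z = z * w := fun w hw =>
      mem_centralizer_singleton_iff.1 ((h.cent_invol hA hzA hz2).symm ▸ hT hw)
    have hnorm : (T : Subgroup G) ≤ normalizer (zpowers z : Set G) := fun w hw => by
      refine mem_normalizer_iff_of_finite fun v hv => ?_
      obtain ⟨i, rfl⟩ := mem_zpowers_iff.1 hv
      rw [← conj_zpow, hzc w hw, mul_inv_cancel_right]
      exact zpow_mem (mem_zpowers _) i
    exact (T.is_maximal' ((isPGroup_zpowers_of_invol hz2).to_sup_of_normal_left' T.2 hnorm)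
      le_sup_right).le (mem_sup_left (mem_zpowers z))
  -- the rotations form a cyclic group
  have hcyc : IsCyclic R := by
    have hRp : IsPGroup 2 R := T.2.to_subgroup R
    have hRc : ∀ a b : R, a * b = b * a := fun a b => Subtype.ext (Subtype.ext (h.comm a.2 b.2))
    refine CfsgLib.Recog.GenDihedral.isCyclic_of_one_invol hRp hRc (z := ⟨⟨z, hzT⟩, hzA⟩) ?_
    intro w hw
    refine Subtype.ext (Subtype.ext (huniq _ w.2 ?_))
    rw [Subgroup.orderOf_coe, Subgroup.orderOf_coe, hw]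
  obtain ⟨⟨σ, hσ⟩, hgen⟩ := hcyc.exists_generator
  obtain ⟨n, hn⟩ := T.2.exists_card_eq
  have hcR : Nat.card R = orderOf σ := by
    rw [← orderOf_eq_card_of_forall_mem_zpowers hgen, orderOf_mk]
  have hcT : Nat.card (T : Subgroup G) = orderOf σ * 2 := by rw [← R.card_mul_index, hidx, hcR]
  have h2σ : 2 ∣ orderOf σ := by
    have ho : orderOf (⟨⟨z, hzT⟩, hzA⟩ : R) = 2 := by
      rw [← Subgroup.orderOf_coe, ← Subgroup.orderOf_coe]; exact hz2
    rw [← hcR]
    have h3 := orderOf_dvd_natCard (⟨⟨z, hzT⟩, hzA⟩ : R)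
    rwa [ho] at h3
  obtain ⟨m, hm⟩ := h2σ
  have hσG : orderOf (σ : G) = 2 * m := by rw [Subgroup.orderOf_coe, hm]
  have hmpow : ∃ k : ℕ, m = 2 ^ k := by
    have h1 : m ∣ 2 ^ n := ⟨4, by rw [← hn, hcT, hm]; ring⟩
    obtain ⟨k, -, hk⟩ := (Nat.dvd_prime_pow Nat.prime_two).1 h1
    exact ⟨k, hk⟩
  have hm0 : 0 < m := by obtain ⟨k, rfl⟩ := hmpow; positivity
  have hy2 : orderOf y = 2 := invol_of_mul_self (h.mul_self (hT hyT) hyA) fun e => hyA (e ▸ one_mem A)
  obtain ⟨E, hEh, hEr, hEs⟩ := exists_data_of_elems T hm0 hmpow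
    (by rw [hcT, hm]; ring) σ.2 hyT hσG hy2 (h.inverts (hT hyT) hyA hσ)
    (fun e => hyA ((zpowers_le.2 (show (σ : G) ∈ A from hσ)) e))
  refine ⟨E, huniq _ ?_ ((Subgroup.orderOf_coe _).trans E.orderOf_z)⟩
  show ((E.r ^ (E.h : ℤ) : (T : Subgroup G)) : G) ∈ A
  rw [SubgroupClass.coe_zpow, hEr]
  exact zpow_mem (show (σ : G) ∈ A from hσ) _

/-- The case of a Sylow subgroup inside the centralizer. -/
theorem sylow_inside (hns : ¬ Group.IsSolvable G) (T : Sylow 2 G) (hT : (T : Subgroup G) ≤ H) :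
    PSLQuot G := by
  classical
  have : Fact (Nat.Prime 2) := ⟨Nat.prime_two⟩
  obtain ⟨E, hEz⟩ := h.exists_dihData hA hzA hz2 huniq T hT
  set K := Cfsg.oddCore G
  have hKn : K.Normal := by show (Cfsg.pPrimeCore 2 G).Normal; infer_instance
  have hK : Odd (Nat.card K) := CfsgLib.Invol.odd_card_oddCore G
  have hmax : ∀ N : Subgroup G, N.Normal → Odd (Nat.card N) → N ≤ K := fun N hN ho =>
    CfsgLib.Invol.le_oddCore hN ho
  obtain ⟨Tb, e, he⟩ := sylow_equiv_map T K hK
  set Eb := mapData e E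
  set π := QuotientGroup.mk' K
  have hdz : dz Tb Eb = π z := by
    have h1 : Eb.z = e E.z := by simp only [DihData.z, Eb, mapData, ← map_zpow]
    show ((Eb.z : (Tb : Subgroup (G ⧸ K))) : G ⧸ K) = _
    rw [h1, he, ← hEz]
  have hcen : ∀ q ∈ centralizer ({π z} : Set (G ⧸ K)), ∃ x ∈ H, π x = q := by
    intro q hq
    obtain ⟨g, rfl⟩ := QuotientGroup.mk'_surjective K q
    have h1 := mem_centralizer_singleton_iff.1 hq
    have h2 : g * z * g⁻¹ * z⁻¹ ∈ K := by
      refine (QuotientGroup.eq_one_iff _).1 ?_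
      show π (g * z * g⁻¹ * z⁻¹) = 1
      rw [map_mul, map_mul, map_mul, h1, map_inv, map_inv, mul_inv_cancel_right, mul_inv_cancel]
    obtain ⟨k, hk, hkg⟩ := lift_centralizer hK hz2 h2
    refine ⟨k * g, (h.cent_invol hA hzA hz2) ▸ hkg, ?_⟩
    rw [map_mul, show π k = 1 from (QuotientGroup.eq_one_iff k).2 hk, one_mul]
  refine pslQuot_of_quotient K hK (exists_socle_psl (not_solvable_quotient K hK hns)
    (odd_normal_quotient_eq_bot K hK hmax) Tb Eb (A.map π) ?_ ?_ ?_ ?_ ?_)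
  · rintro _ ⟨a, ha, rfl⟩
    rw [hdz, mem_centralizer_singleton_iff, ← map_mul, ← map_mul, h.comm ha hzA]
  · rintro _ ⟨a, ha, rfl⟩ _ ⟨b, hb, rfl⟩
    rw [← map_mul, ← map_mul, h.comm ha hb]
  · rw [hdz]; exact ⟨z, hzA, rfl⟩
  · intro q hq hqA
    rw [hdz] at hq
    obtain ⟨x, hx, rfl⟩ := hcen q hq
    rw [← map_mul, h.mul_self hx (fun hxA => hqA ⟨x, hxA, rfl⟩), map_one]
  · rintro _ ⟨a, ha, rfl⟩ ho
    rw [hdz]
    obtain ⟨e', m, hm, hom⟩ :=
      Nat.exists_eq_pow_mul_and_not_dvd (orderOf_pos a).ne' 2 (by norm_num)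
    have hmodd : Odd m := Nat.not_even_iff_odd.1 fun h' => hm (even_iff_two_dvd.1 h')
    obtain ⟨k, hk⟩ := hmodd
    have ha2 : π (a ^ m) = π a := by
      rw [map_pow, hk, pow_succ, pow_mul, pow_two, invol_mul_self ho, one_pow, one_mul]
    have hb : (a ^ m) * (a ^ m) = 1 := by
      have hK' : (a ^ m) * (a ^ m) ∈ K := (QuotientGroup.eq_one_iff _).1 (by
        show π (a ^ m * a ^ m) = 1
        rw [map_mul, ha2, invol_mul_self ho])
      have h2 : (a ^ m * a ^ m) ^ 2 ^ e' = 1 := by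
        rw [← pow_add, ← pow_mul, show (m + m) * 2 ^ e' = orderOf a * 2 by rw [hom]; ring, pow_mul,
          pow_orderOf_eq_one, one_pow]
      exact orderOf_eq_one_iff.1 (Nat.eq_one_of_dvd_coprimes
        ((Nat.coprime_two_left.2 (hK.of_dvd_nat (Subgroup.orderOf_dvd_natCard _ hK'))).pow_left e')
        (orderOf_dvd_of_pow_eq_one h2) dvd_rfl)
    rw [← ha2, huniq _ (pow_mem ha m) (invol_of_mul_self hb fun e1 => invol_ne_one ho (by
      rw [← ha2, e1, map_one]))]

end DHyp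

end CfsgLib.Recog.GenDihedral
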