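import Cfsg.Agent.Lib.Recog.GenDihedral.ReduceBase
import Cfsg.Agent.Lib.Recog.GenDihedral.SLTwoFix
import Cfsg.Agent.Lib.Transfer.Thompson
import Cfsg.Agent.Lib.Transfer.Basic

/-!
The case of two or more involutions in the abelian part: no outside element is fused into it, so
the 2-residual has abelian involution centralizers.
-/

set_option autoImplicit false
set_option linter.unusedSectionVars false
set_option maxHeartbeats 800000

namespace CfsgLib.Recog.GenDihedral

open Subgroup CfsgLib.Invol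
open scoped MatrixGroups

universe u

variable {G : Type u} [Group G] [Finite G] {H A : Subgroup G}

namespace DHyp

variable (h : DHyp H A) (hA : ∃ a ∈ A, a * a ≠ 1)
include h hA

theorem cent_invol {j : G} (hj : j ∈ A) (hj2 : orderOf j = 2) : centralizer ({j} : Set G) = H := by
  refine h.cent j (h.lt.le hj) hj2 fun x hx => ?_
  by_cases hxA : x ∈ A
  · exact h.comm hxA hj
  · rw [← mul_inv_eq_iff_eq_mul, h.inverts hx hxA hj, invol_inv hj2]

theorem no_fusion (hE : ∃ j₁ ∈ A, ∃ j₂ ∈ A, orderOf j₁ = 2 ∧ orderOf j₂ = 2 ∧ j₁ ≠ j₂)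
    {e g : G} (he : e ∈ A) (he2 : orderOf e = 2) (hx : g * e * g⁻¹ ∈ H) : g * e * g⁻¹ ∈ A := by
  by_contra hxA
  set x := g * e * g⁻¹ with hxdef
  have hx2 : orderOf x = 2 := by rw [hxdef, CfsgLib.Invol.orderOf_conj_eq, he2]
  set A' := A.map (MulAut.conj g).toMonoidHom
  set H' := H.map (MulAut.conj g).toMonoidHom
  have hc' : ∀ u ∈ A', orderOf u = 2 → centralizer ({u} : Set G) = H' := by
    rintro _ ⟨v, hv, rfl⟩ hu
    have hv2 : orderOf v = 2 := by simpa [CfsgLib.Invol.orderOf_conj_eq] using hu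
    ext y
    have hcv := h.cent_invol hA hv hv2
    constructor
    · intro hy
      refine ⟨g⁻¹ * y * g, ?_, by simp [mul_assoc]⟩
      rw [SetLike.mem_coe, ← hcv, mem_centralizer_singleton_iff]
      have hy' := mem_centralizer_singleton_iff.1 hy
      simp only [MulEquiv.coe_toMonoidHom, MulAut.conj_apply] at hy'
      calc g⁻¹ * y * g * v = g⁻¹ * (y * (g * v * g⁻¹)) * g := by group
        _ = g⁻¹ * (g * v * g⁻¹ * y) * g := by rw [hy']
        _ = _ := by group
    · rintro ⟨w, hw, rfl⟩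
      rw [SetLike.mem_coe, ← hcv, mem_centralizer_singleton_iff] at hw
      simp only [MulEquiv.coe_toMonoidHom, MulAut.conj_apply, mem_centralizer_singleton_iff]
      calc g * w * g⁻¹ * (g * v * g⁻¹) = g * (w * v) * g⁻¹ := by group
        _ = g * (v * w) * g⁻¹ := by rw [hw]
        _ = _ := by group
  have hxA' : x ∈ A' := ⟨e, he, rfl⟩
  -- an involution in both
  obtain ⟨u, huA, huA', hu2⟩ : ∃ u ∈ A, u ∈ A' ∧ orderOf u = 2 := by
    obtain ⟨j₁, hj₁, j₂, hj₂, o₁, o₂, hne⟩ := hE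
    have hH' : ∀ j ∈ A, orderOf j = 2 → j ∈ H' := fun j hj o => by
      rw [← hc' x hxA' hx2, mem_centralizer_singleton_iff]
      exact (mem_centralizer_singleton_iff.1 ((h.cent_invol hA hj o).symm ▸ hx)).symm
    by_cases h1 : j₁ ∈ A'
    · exact ⟨j₁, hj₁, h1, o₁⟩
    by_cases h2 : j₂ ∈ A'
    · exact ⟨j₂, hj₂, h2, o₂⟩
    obtain ⟨v₁, hv₁, e₁⟩ := hH' j₁ hj₁ o₁
    obtain ⟨v₂, hv₂, e₂⟩ := hH' j₂ hj₂ o₂
    have hmem : j₁ * j₂ ∈ A' := ⟨v₁ * v₂, h.mul_mem_or hA hv₁ (fun e' => h1 ⟨v₁, e', e₁⟩) hv₂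
      (fun e' => h2 ⟨v₂, e', e₂⟩), by rw [map_mul, e₁, e₂]⟩
    refine ⟨j₁ * j₂, mul_mem hj₁ hj₂, hmem, invol_of_mul_self ?_ fun e' => hne ?_⟩
    · rw [show j₁ * j₂ * (j₁ * j₂) = j₁ * (j₂ * j₁) * j₂ by group, h.comm hj₂ hj₁, ← mul_assoc,
        invol_mul_self o₁, one_mul, invol_mul_self o₂]
    · rw [eq_inv_of_mul_eq_one_left e', invol_inv o₂]
  have hHH : H = H' := (h.cent_invol hA huA hu2).symm.trans (hc' u huA' hu2)
  obtain ⟨a, ha, ha2⟩ := hA
  have h1 : Commute x a := by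
    have : a ∈ centralizer ({x} : Set G) := by rw [hc' x hxA' hx2, ← hHH]; exact h.lt.le ha
    exact (mem_centralizer_singleton_iff.1 this).symm
  have h2 := h.inverts hx hxA ha
  rw [h1.eq, mul_inv_cancel_right] at h2
  exact ha2 (mul_eq_one_iff_eq_inv.2 h2)

theorem sylow_le (hE : ∃ j₁ ∈ A, ∃ j₂ ∈ A, orderOf j₁ = 2 ∧ orderOf j₂ = 2 ∧ j₁ ≠ j₂) :
    ∃ T : Sylow 2 G, (T : Subgroup G) ≤ H := by
  classical
  have : Fact (Nat.Prime 2) := ⟨Nat.prime_two⟩
  obtain ⟨S₀⟩ : Nonempty (Sylow 2 H) := inferInstance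
  set S := (S₀ : Subgroup H).map H.subtype with hS
  have hSH : S ≤ H := map_subtype_le _
  have hSp : IsPGroup 2 S := S₀.2.map _
  obtain ⟨T, hT⟩ := hSp.exists_le_sylow
  refine ⟨T, ?_⟩
  by_contra hle
  -- all of the 2-part of `A` is in `S`
  obtain ⟨j, hjA, hj2⟩ : ∃ j ∈ A, orderOf j = 2 := by
    obtain ⟨j₁, hj₁, -, -, o₁, -⟩ := hE; exact ⟨j₁, hj₁, o₁⟩
  have hjS : j ∈ S := by
    have hjc : ∀ x : H, Commute (⟨j, h.lt.le hjA⟩ : H) x := fun x => Subtype.ext
      ((mem_centralizer_singleton_iff.1 ((h.cent_invol hA hjA hj2).symm ▸ x.2 :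
        (x : G) ∈ centralizer ({j} : Set G))).symm)
    have hp : IsPGroup 2 (zpowers (⟨j, h.lt.le hjA⟩ : H)) := IsPGroup.of_card (n := 1)
      (by rw [Nat.card_zpowers, orderOf_mk, hj2, pow_one])
    have : (zpowers (⟨j, h.lt.le hjA⟩ : H)).Normal := ⟨fun y hy g => by
      obtain ⟨i, rfl⟩ := mem_zpowers_iff.1 hy
      rw [← conj_zpow, ← (hjc g).eq, mul_inv_cancel_right]
      exact zpow_mem (mem_zpowers _) i⟩
    exact ⟨_, hp.le_sylow_of_normal S₀ (mem_zpowers _), rfl⟩
  have hlt : S.subgroupOf (T : Subgroup G) < ⊤ := lt_top_iff_ne_top.2 fun e =>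
    hle ((subgroupOf_eq_top.1 e).trans hSH)
  have := T.2.isNilpotent
  have hgrow := Group.normalizerCondition_of_isNilpotent (G := (T : Subgroup G)) _ hlt
  obtain ⟨s, hsN, hsS⟩ := SetLike.exists_of_lt hgrow
  -- a square root outside `S`
  obtain ⟨k, hk⟩ := T.2 s
  have hex : ∃ n, s ^ 2 ^ n ∈ S.subgroupOf (T : Subgroup G) := ⟨k, by rw [hk]; exact one_mem _⟩
  set n := Nat.find hex with hn
  obtain ⟨m, hm⟩ : ∃ m, n = m + 1 := ⟨n - 1, by
    have : n ≠ 0 := fun e => hsS (by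
      have h0 := Nat.find_spec hex
      rw [← hn, e, pow_zero, pow_one] at h0
      exact h0)
    omega⟩
  set w := s ^ 2 ^ m with hw
  have hwS : (w : G) ∉ S := fun e => Nat.find_min hex (m := m) (by omega) e
  have hw2 : (w : G) * w ∈ S := by
    have := Nat.find_spec hex
    rw [← hn, hm, pow_succ, pow_mul, pow_two] at this
    exact this
  have hwN : w ∈ normalizer (S.subgroupOf (T : Subgroup G) : Set (T : Subgroup G)) := pow_mem hsN _
  have hj' : (w : G) * j * (w : G)⁻¹ ∈ S :=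
    (mem_normalizer_iff.1 hwN ⟨j, hT hjS⟩).1 (show j ∈ S from hjS)
  have hj'A := h.no_fusion hA hE hjA hj2 (hSH hj')
  have hwH : (w : G) ∈ H := by
    by_cases he : (w : G) * j * (w : G)⁻¹ = j
    · rw [← h.cent_invol hA hjA hj2, mem_centralizer_singleton_iff]
      exact mul_inv_eq_iff_eq_mul.1 he
    · set j' := (w : G) * j * (w : G)⁻¹ with hj'def
      have hj'2 : orderOf j' = 2 := by rw [hj'def, CfsgLib.Invol.orderOf_conj_eq, hj2]
      have hww : (w : G) * j' * (w : G)⁻¹ = j := by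
        have hc : Commute ((w : G) * w) j := mem_centralizer_singleton_iff.1
          ((h.cent_invol hA hjA hj2).symm ▸ hSH hw2)
        rw [hj'def, show (w : G) * ((w : G) * j * (w : G)⁻¹) * (w : G)⁻¹ =
          (w : G) * w * j * ((w : G) * w)⁻¹ by group, hc.eq, mul_inv_cancel_right]
      have hu2 : orderOf (j * j') = 2 := invol_of_mul_self (by
        rw [Commute.mul_mul_mul_comm (h.comm hj'A hjA : Commute j' j), invol_mul_self hj2, one_mul,
          invol_mul_self hj'2]) fun e => he (by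
        rw [eq_inv_of_mul_eq_one_right e, invol_inv hj2])
      rw [← h.cent_invol hA (mul_mem hjA hj'A) hu2, mem_centralizer_singleton_iff,
        ← mul_inv_eq_iff_eq_mul,
        show (w : G) * (j * j') * (w : G)⁻¹ = ((w : G) * j * (w : G)⁻¹) * ((w : G) * j' * (w : G)⁻¹)
          by group, hww, h.comm hj'A hjA]
  -- `S` is a Sylow subgroup of `H`
  have hTH : ((T : Subgroup G) ⊓ H).subgroupOf H = (S₀ : Subgroup H) := by
    refine S₀.is_maximal' ?_ fun x hx => ⟨hT ⟨x, hx, rfl⟩, x.2⟩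
    exact (T.2.to_le inf_le_left).comap_of_injective H.subtype H.subtype_injective
  refine hwS ⟨⟨w, hwH⟩, ?_, rfl⟩
  rw [SetLike.mem_coe, ← hTH]
  exact ⟨w.2, hwH⟩

/-- The case of at least two involutions. -/
theorem two_rank (hns : ¬ Group.IsSolvable G)
    (hE : ∃ j₁ ∈ A, ∃ j₂ ∈ A, orderOf j₁ = 2 ∧ orderOf j₂ = 2 ∧ j₁ ≠ j₂) : PSLQuot G := by
  classical
  have : Fact (Nat.Prime 2) := ⟨Nat.prime_two⟩
  obtain ⟨T, hTH⟩ := h.sylow_le hA hE
  set M := Cfsg.pResidual 2 G with hM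
  have hMn : M.Normal := CfsgLib.Transfer.pResidual_normal
  -- no element outside `A` of `H` is in the residual
  have hrefl : ∀ x ∈ H, x ∈ M → x ∈ A := by
    intro x hx hxM
    by_contra hxA
    obtain ⟨g, hg⟩ := exists_conj_invol_mem_sylow T
      (invol_of_mul_self (h.mul_self hx hxA) fun e => hxA (e ▸ one_mem A))
    set y := g * x * g⁻¹ with hy
    have hx2 : orderOf x = 2 := invol_of_mul_self (h.mul_self hx hxA) fun e => hxA (e ▸ one_mem A)
    have hy2 : orderOf y = 2 := by rw [hy, CfsgLib.Invol.orderOf_conj_eq, hx2]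
    have hback : ∀ v ∈ A, ∀ k : G, k * v * k⁻¹ = x → False := fun v hv k e => by
      have hv2 : orderOf v = 2 := by rw [← CfsgLib.Invol.orderOf_conj_eq k v, e, hx2]
      exact hxA (e ▸ h.no_fusion hA hE hv hv2 (e.symm ▸ hx))
    have hyA : y ∉ A := fun e => hback y e g⁻¹ (by rw [hy]; group)
    have hQi : ((T : Subgroup G) ⊓ A).relIndex (T : Subgroup G) = 2 := by
      rw [inf_relIndex_left, relIndex, index_eq_two_iff]
      refine ⟨⟨y, hg⟩, fun b => ?_⟩
      rw [mem_subgroupOf, mem_subgroupOf, Subgroup.coe_mul]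
      by_cases hb : (b : G) ∈ A
      · exact Or.inr ⟨hb, fun e => hyA ((mul_mem_cancel_left hb).1 e)⟩
      · exact Or.inl ⟨h.mul_mem_or hA (hTH b.2) hb (hTH hg) hyA, hb⟩
    rcases CfsgLib.Transfer.thompson_transfer_involution T (Q := (T : Subgroup G) ⊓ A) inf_le_left
      hQi (by rw [pow_two, invol_mul_self hy2]) hg with ⟨N, hN, hNi, hyN⟩ | ⟨k, hk⟩
    · refine hyN (CfsgLib.Transfer.pResidual_le_of_isPGroup_quotient (p := 2) ?_
        (hMn.conj_mem x hxM g))
      exact IsPGroup.of_card (n := 1) (by rw [← Subgroup.index_eq_card, hNi, pow_one])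
    · exact hback _ hk.2 (k * g)⁻¹ (by rw [hy]; group)
  obtain ⟨n, hn⟩ := CfsgLib.Transfer.pResidual_index_eq_pow (G := G) (p := 2)
  have hMp : IsPGroup 2 (G ⧸ M) :=
    IsPGroup.of_card (n := n) (by rw [← Subgroup.index_eq_card, hn])
  have hMns : ¬ Group.IsSolvable M := fun hs => hns (isSolvable_of_two_index hs hMp)
  have heven : Even (Nat.card M) := by
    by_contra ho
    exact hMns (CfsgLib.FT.odd_order_solvable (Nat.not_even_iff_odd.1 ho))
  -- involution centralizers in the residual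
  have habel : ∀ t : M, orderOf t = 2 → IsMulCommutative ↥(centralizer ({t} : Set M)) := by
    intro t ht
    have htG : orderOf (t : G) = 2 := by rw [Subgroup.orderOf_coe, ht]
    obtain ⟨g, hg⟩ := exists_conj_invol_mem_sylow T htG
    have hgA := hrefl _ (hTH hg) (hMn.conj_mem _ t.2 g)
    have hC := h.cent_invol hA hgA (by rw [CfsgLib.Invol.orderOf_conj_eq, htG])
    refine ⟨⟨fun a b => Subtype.ext (Subtype.ext ?_)⟩⟩
    have hm : ∀ a : centralizer ({t} : Set M), g * ((a : M) : G) * g⁻¹ ∈ A := fun a => by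
      refine hrefl _ ?_ (hMn.conj_mem _ (a : M).2 g)
      rw [← hC, mem_centralizer_singleton_iff]
      have hc := congrArg Subtype.val (mem_centralizer_singleton_iff.1 a.2)
      simp only [Subgroup.coe_mul] at hc
      calc g * ((a : M) : G) * g⁻¹ * (g * (t : G) * g⁻¹) = g * (((a : M) : G) * t) * g⁻¹ := by group
        _ = g * ((t : G) * (a : M)) * g⁻¹ := by rw [hc]
        _ = _ := by group
    have h1 := h.comm (hm a) (hm b)
    rw [show g * ((a : M) : G) * g⁻¹ * (g * ((b : M) : G) * g⁻¹) =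
        g * (((a : M) : G) * (b : M)) * g⁻¹ by group,
      show g * ((b : M) : G) * g⁻¹ * (g * ((a : M) : G) * g⁻¹) =
        g * (((b : M) : G) * (a : M)) * g⁻¹ by group] at h1
    simpa using h1
  rcases Cfsg.Agent.S2202.result heven habel with hc | hn' | ⟨F, _, _, B, _, _, hch, hB, ⟨e⟩⟩
  · exact absurd (isSolvable_of_cyclic_sylow default (hc default)) hMns
  · exact absurd (isSolvable_of_normal_sylow default (hn' default)) hMns
  have h2F : (2 : F) = 0 := by exact_mod_cast CharP.cast_eq_zero F 2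
  have hLns := not_solvable_sl_of_prod e hMns
  have h4 := four_le_card_of_not_solvable hch hLns
  -- the embedding
  set ι₀ : SL(2, F) →* G := M.subtype.comp (e.symm.toMonoidHom.comp (MonoidHom.inl SL(2, F) B))
    with hι₀
  have hι₀inj : Function.Injective ι₀ :=
    M.subtype_injective.comp (e.symm.injective.comp fun a b he => (Prod.mk.injEq _ _ _ _ ▸ he).1)
  -- it contains every involution of the residual
  have hinvL : ∀ x ∈ M, x * x = 1 → x ∈ ι₀.range := by
    intro x hxM hx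
    set y : M := ⟨x, hxM⟩
    have h2 : (e y).2 * (e y).2 = 1 := by
      rw [← Prod.snd_mul, ← map_mul, show y * y = 1 from Subtype.ext hx, map_one]; rfl
    have hb : (e y).2 = 1 := by
      by_contra hb
      obtain ⟨k, hk⟩ := hB
      have h3 := orderOf_dvd_natCard (e y).2
      rw [invol_of_mul_self h2 hb, hk] at h3
      omega
    refine ⟨(e y).1, ?_⟩
    show ((e.symm ((e y).1, (1 : B)) : M) : G) = x
    rw [show ((e y).1, (1 : B)) = e y from Prod.ext rfl hb.symm, MulEquiv.symm_apply_apply]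
  -- normality
  have hgens : ∀ K : Subgroup SL(2, F), (∀ v, v * v = 1 → v ∈ K) → K = ⊤ := fun K hK =>
    SLTwo.closure_up_lo K (fun a => hK _ (SLTwo.up_sq h2F a)) (fun a => hK _ (SLTwo.lo_sq h2F a))
  have hLM : ι₀.range ≤ M := by rintro _ ⟨v, rfl⟩; exact Subtype.prop _
  have hLn : ι₀.range.Normal := ⟨fun x hx g => by
    obtain ⟨v, rfl⟩ := hx
    have : ι₀.range.comap ((MulAut.conj g).toMonoidHom.comp ι₀) = ⊤ := hgens _ fun w hw => by
      refine hinvL _ (hMn.conj_mem _ (hLM ⟨w, rfl⟩) g) ?_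
      show g * ι₀ w * g⁻¹ * (g * ι₀ w * g⁻¹) = 1
      rw [show g * ι₀ w * g⁻¹ * (g * ι₀ w * g⁻¹) = g * (ι₀ w * ι₀ w) * g⁻¹ by group, ← map_mul, hw,
        map_one, mul_one, mul_inv_cancel]
    exact (this ▸ mem_top v : v ∈ ι₀.range.comap ((MulAut.conj g).toMonoidHom.comp ι₀))⟩
  set L := ι₀.range with hL
  set N := centralizer (L : Set G) with hNdef
  have hNn : N.Normal := Subgroup.normal_centralizer
  -- move the root group into the Sylow subgroup
  let U : Subgroup SL(2, F) :=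
    { carrier := Set.range (SLTwo.up (F := F))
      one_mem' := ⟨0, Subtype.ext (by ext i j; fin_cases i <;> fin_cases j <;> simp [SLTwo.up_val])⟩
      mul_mem' := by
        rintro _ _ ⟨a, rfl⟩ ⟨b, rfl⟩
        refine ⟨a + b, Subtype.ext ?_⟩
        show (SLTwo.up (a + b)).1 = (SLTwo.up a).1 * (SLTwo.up b).1
        rw [SLTwo.up_val, SLTwo.up_val, SLTwo.up_val]
        ext i j
        fin_cases i <;> fin_cases j <;> simp [Matrix.mul_apply, Fin.sum_univ_two, add_comm]
      inv_mem' := by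
        rintro _ ⟨a, rfl⟩
        exact ⟨a, (inv_eq_of_mul_eq_one_right (SLTwo.up_sq h2F a)).symm⟩ }
  have hUp : IsPGroup 2 (U.map ι₀) := IsPGroup.map (fun ⟨v, hv⟩ => ⟨1, by
    obtain ⟨a, rfl⟩ := hv
    exact Subtype.ext (by simpa [pow_two] using SLTwo.up_sq h2F a)⟩) _
  obtain ⟨T', hT'⟩ := hUp.exists_le_sylow
  obtain ⟨g, hgT⟩ := MulAction.exists_smul_eq G T T'
  set ι : SL(2, F) →* G := (MulAut.conj g⁻¹).toMonoidHom.comp ι₀ with hι
  have hιinj : Function.Injective ι := (MulAut.conj g⁻¹).injective.comp hι₀inj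
  have hιL : ∀ v, ι v ∈ L := fun v => hLn.conj_mem _ ⟨v, rfl⟩ g⁻¹
  have hιA : ∀ a, ι (SLTwo.up a) ∈ A := by
    intro a
    refine hrefl _ (hTH ?_) (hLM (hιL _))
    have h1 : ι₀ (SLTwo.up a) ∈ ((g • T : Sylow 2 G) : Subgroup G) :=
      hgT ▸ hT' ⟨_, ⟨a, rfl⟩, rfl⟩
    rw [Sylow.coe_subgroup_smul] at h1
    obtain ⟨w, hw, ew⟩ := h1
    change g * w * g⁻¹ = ι₀ (SLTwo.up a) at ew
    show g⁻¹ * ι₀ (SLTwo.up a) * g⁻¹⁻¹ ∈ (T : Subgroup G)
    rw [← ew, inv_inv, show g⁻¹ * (g * w * g⁻¹) * g = w by group]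
    exact hw
  -- `ι` has image `L`
  have hιrange : ι.range = L := by
    refine le_antisymm (by rintro _ ⟨v, rfl⟩; exact hιL v) ?_
    rintro _ ⟨v, rfl⟩
    obtain ⟨w, hw⟩ := hLn.conj_mem _ ⟨v, rfl⟩ g
    refine ⟨w, ?_⟩
    show g⁻¹ * ι₀ w * g⁻¹⁻¹ = ι₀ v
    rw [hw]; group
  let eL : SL(2, F) ≃* L := (MonoidHom.ofInjective hιinj).trans (MulEquiv.subgroupCongr hιrange)
  have heL : ∀ v, ((eL v : L) : G) = ι v := fun v => rfl
  -- the Sylow subgroup induces inner automorphisms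
  have hTin : ∀ s ∈ (T : Subgroup G), s ∈ L ⊔ N := by
    intro s hs
    have hfix : ∀ a, s * ι (SLTwo.up a) * s⁻¹ = ι (SLTwo.up a) := by
      intro a
      have hsq : ι (SLTwo.up a) * ι (SLTwo.up a) = 1 := by
        rw [← map_mul, SLTwo.up_sq h2F, map_one]
      by_cases hsA : s ∈ A
      · rw [h.comm hsA (hιA a), mul_inv_cancel_right]
      · rw [h.inverts (hTH hs) hsA (hιA a), inv_eq_of_mul_eq_one_right hsq]
    let x : SL(2, F) ≃* SL(2, F) :=
      (eL.trans (MulAut.conjNormal s : MulAut L)).trans eL.symm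
    have hxι : ∀ v, ι (x v) = s * ι v * s⁻¹ := fun v => by
      rw [← heL, ← heL]
      simp only [x, MulEquiv.trans_apply, MulEquiv.apply_symm_apply, MulAut.conjNormal_apply]
    obtain ⟨c, hc⟩ := SLTwo.exists_eq_conj_of_fix h2F x fun a => hιinj (by rw [hxι, hfix])
    have hcc : ι (SLTwo.up c) * ι (SLTwo.up c) = 1 := by
      rw [← map_mul, SLTwo.up_sq h2F, map_one]
    have hN' : ι (SLTwo.up c) * s ∈ N := by
      rw [hNdef, mem_centralizer_iff]
      intro y hy
      rw [SetLike.mem_coe, ← hιrange] at hy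
      obtain ⟨v, rfl⟩ := hy
      have h1 : s * ι v * s⁻¹ = ι (SLTwo.up c) * ι v * ι (SLTwo.up c) := by
        rw [← hxι, hc, map_mul, map_mul]
      rw [eq_comm, ← mul_inv_eq_iff_eq_mul, mul_inv_rev, inv_eq_of_mul_eq_one_right hcc,
        show ι (SLTwo.up c) * s * ι v * (s⁻¹ * ι (SLTwo.up c)) =
          ι (SLTwo.up c) * (s * ι v * s⁻¹) * ι (SLTwo.up c) by group, h1,
        show ι (SLTwo.up c) * (ι (SLTwo.up c) * ι v * ι (SLTwo.up c)) * ι (SLTwo.up c) =
          (ι (SLTwo.up c) * ι (SLTwo.up c)) * ι v * (ι (SLTwo.up c) * ι (SLTwo.up c)) by group,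
        hcc, one_mul, mul_one]
    have := mul_mem (mem_sup_left (T := N) (hιL (SLTwo.up c))) (mem_sup_right (S := L) hN')
    rwa [← mul_assoc, hcc, one_mul] at this
  have hMin : M ≤ L ⊔ N := by
    intro m hm
    set y : M := ⟨m, hm⟩
    have hb : ((e.symm (1, (e y).2) : M) : G) ∈ N := by
      rw [hNdef, mem_centralizer_iff]
      rintro _ ⟨v, rfl⟩
      show ((e.symm (v, 1) : M) : G) * (e.symm (1, (e y).2) : M) = _
      rw [← Subgroup.coe_mul, ← map_mul, show ((v, (1 : B)) * (1, (e y).2)) = (1, (e y).2) * (v, 1)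
        from Prod.ext (by simp) (by simp), map_mul, Subgroup.coe_mul]
      rfl
    have := mul_mem (mem_sup_left (T := N) (⟨(e y).1, rfl⟩ : ι₀ (e y).1 ∈ L))
      (mem_sup_right (S := L) hb)
    convert this using 1
    show m = ((e.symm ((e y).1, 1) : M) : G) * (e.symm (1, (e y).2) : M)
    rw [← Subgroup.coe_mul, ← map_mul, show (((e y).1, (1 : B)) * (1, (e y).2)) = e y
      from Prod.ext (by simp) (by simp), MulEquiv.symm_apply_apply]
  have htop : L ⊔ N = ⊤ := by
    rw [← index_eq_one]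
    refine Nat.dvd_one.1 ?_
    have h1 := index_dvd_of_le hMin
    have h2 := index_dvd_of_le (show (T : Subgroup G) ≤ L ⊔ N from hTin)
    rw [hn] at h1
    exact (Nat.Coprime.pow_left n ((Nat.Prime.coprime_iff_not_dvd Nat.prime_two).2
      T.not_dvd_index)) ▸ Nat.dvd_gcd h1 h2
  obtain ⟨epsl⟩ := nonempty_sl_equiv_psl (F := F) hch
  have hker : ∀ v, ι v ∈ N → v = 1 := by
    intro v hv
    have : v ∈ Subgroup.center SL(2, F) := mem_center_iff.2 fun w => hιinj (by
      rw [map_mul, map_mul]; exact mem_centralizer_iff.1 hv _ (hιL w))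
    have hc : Subgroup.center SL(2, F) = ⊥ := by
      rw [Subgroup.eq_bot_iff_forall]
      intro g hg
      refine CfsgLib.Invol.sl_two_eq_one_of_scalar h2F ?_
      obtain ⟨r, -, hr⟩ := Matrix.SpecialLinearGroup.mem_center_iff.1 hg
      rw [← hr]
      simp
    rw [hc] at this
    exact mem_bot.1 this
  -- the kernel has order odd or twice odd
  have hnoinv : ∀ v ∈ A, v ∈ N → orderOf v ≠ 2 := by
    intro v hv hvN ho
    have hLA : ∀ y ∈ L, y ∈ A := fun y hy => hrefl y (by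
      rw [← h.cent_invol hA hv ho, mem_centralizer_singleton_iff]
      exact mem_centralizer_iff.1 hvN y hy) (hLM hy)
    refine hLns ?_
    have : IsMulCommutative L := ⟨⟨fun a b => Subtype.ext (h.comm (hLA _ a.2) (hLA _ b.2))⟩⟩
    have hcomm : IsMulCommutative SL(2, F) := ⟨⟨fun a b => eL.injective (by
      rw [map_mul, map_mul]; exact this.is_comm.comm _ _)⟩⟩
    exact Group.isSolvable_of_comm hcomm.is_comm.comm
  obtain ⟨P, hP⟩ := CfsgLib.Transfer.exists_sylow_eq_subgroupOf T N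
  have hPA : ∀ p ∈ (P : Subgroup N), ((p : N) : G) ∈ A → p = 1 := by
    intro p hp hpA
    by_contra hp1
    obtain ⟨k, hk⟩ := P.2.exists_card_eq
    have hd : orderOf p ∣ 2 ^ k := hk ▸ (Subgroup.orderOf_mk p hp ▸ orderOf_dvd_natCard (⟨p, hp⟩ : (P : Subgroup N)))
    obtain ⟨i, -, hi⟩ := (Nat.dvd_prime_pow Nat.prime_two).1 hd
    rcases i with _ | i
    · exact hp1 (orderOf_eq_one_iff.1 (by simpa using hi))
    refine hnoinv _ (pow_mem hpA (2 ^ i)) (pow_mem p.2 _) ?_
    rw [orderOf_pow, Subgroup.orderOf_coe, hi, Nat.gcd_eq_right ⟨2, by ring⟩, pow_succ,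
      Nat.mul_div_cancel_left _ (pow_pos two_pos i)]
  have hP2 : Nat.card (P : Subgroup N) ∣ 2 := by
    have hTP : ∀ p ∈ (P : Subgroup N), ((p : N) : G) ∈ (T : Subgroup G) := fun p hp => by
      rw [hP] at hp; exact hp
    have hle : Nat.card (P : Subgroup N) ≤ 2 := by
      by_contra hgt
      push Not at hgt
      have := Fintype.ofFinite (P : Subgroup N)
      rw [Nat.card_eq_fintype_card] at hgt
      obtain ⟨a, b, c, hab, hac, hbc⟩ := Fintype.two_lt_card_iff.1 hgt
      -- at most one element lies outside `A`, and only the identity inside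
      have hone : ∀ x y : (P : Subgroup N), x ≠ 1 → y ≠ 1 → x = y := by
        intro x y hx hy
        have hxA : ((x : N) : G) ∉ A := fun e => hx (Subtype.ext (hPA _ x.2 e))
        have hyA : ((y : N) : G) ∉ A := fun e => hy (Subtype.ext (hPA _ y.2 e))
        have hxy := hPA _ (mul_mem x.2 y.2)
          (h.mul_mem_or hA (hTH (hTP _ x.2)) hxA (hTH (hTP _ y.2)) hyA)
        have hxx : (x : N) * x = 1 := Subtype.ext (h.mul_self (hTH (hTP _ x.2)) hxA)
        exact Subtype.ext ((mul_left_cancel (hxy.trans hxx.symm)).symm)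
      by_cases ha : a = 1
      · exact hbc (hone b c (fun e => hab (ha.trans e.symm)) (fun e => hac (ha.trans e.symm)))
      · by_cases hb : b = 1
        · exact hac (hone a c ha (fun e => hbc (hb.trans e.symm)))
        · exact hab (hone a b ha hb)
    obtain ⟨k, hk⟩ := P.2.exists_card_eq
    rw [hk] at hle ⊢
    have : k ≤ 1 := (Nat.pow_le_pow_iff_right (le_refl 2)).1 (hle.trans_eq (pow_one 2).symm)
    exact (pow_dvd_pow 2 this).trans (pow_one 2).dvd
  have hNodd : Odd (Nat.card ↥N) ∨ ∃ m : ℕ, Odd m ∧ Nat.card ↥N = 2 * m := by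
    have hi : Odd (P : Subgroup N).index :=
      Nat.not_even_iff_odd.1 fun e => P.not_dvd_index (even_iff_two_dvd.1 e)
    have hc := (P : Subgroup N).card_mul_index
    rcases (Nat.dvd_prime Nat.prime_two).1 hP2 with h1 | h1
    · left; rw [← hc, h1, one_mul]; exact hi
    · exact Or.inr ⟨_, hi, by rw [← hc, h1]⟩
  let φ : SL(2, F) →* G ⧸ N := (QuotientGroup.mk' N).comp ι
  have hφ : Function.Bijective φ := by
    refine ⟨(injective_iff_map_eq_one φ).2 fun v hv => hker v ((QuotientGroup.eq_one_iff _).1 hv),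
      fun q => ?_⟩
    obtain ⟨x, rfl⟩ := QuotientGroup.mk'_surjective N q
    have hx : x ∈ (↑(L ⊔ N) : Set G) := by rw [htop]; trivial
    rw [Subgroup.mul_normal L N] at hx
    obtain ⟨l, hl, m, hm, rfl⟩ := hx
    rw [SetLike.mem_coe, ← hιrange] at hl
    obtain ⟨v, rfl⟩ := hl
    exact ⟨v, by
      show QuotientGroup.mk' N (ι v) = _
      rw [map_mul, show QuotientGroup.mk' N m = 1 from (QuotientGroup.eq_one_iff m).2 hm, mul_one]⟩
  exact ⟨N, hNn, hNodd, F, inferInstance, inferInstance, h4,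
    Or.inl ⟨(MulEquiv.ofBijective φ hφ).symm.trans epsl⟩⟩

end DHyp

end CfsgLib.Recog.GenDihedral
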