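import Cfsg.Agent.Lib.Recog.GenDihedral.StepA

/-!
# Maximal subgroups over the centraliser whose odd core is centralised
-/

set_option autoImplicit false
set_option linter.unusedSectionVars false

namespace CfsgLib.Recog.GenDih

open Subgroup CfsgLib.Invol

universe u

/-- The centraliser property for all smaller simple groups. -/
abbrev CentHyp (G : Type u) [Group G] : Prop :=
  ∀ (X : Type u) [Group X] [Finite X], Nat.card X < Nat.card G → IsSimpleGroup X →
    ∀ (T : Sylow 2 X) (E : DihData (T : Subgroup X)) (L : Subgroup X), Gen T E L →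
      ∀ y ∈ L, y ≠ 1 → centralizer ({y} : Set X) ≤ centralizer ({dz T E} : Set X)

variable {G : Type u} [Group G] [Finite G] {S : Sylow 2 G} {D : DihData (S : Subgroup G)}
  {K : Subgroup G}

/-- For `h ≥ 2` an involution of the centraliser is conjugate to its product with the centre. -/
theorem Gen.exists_half (hG : Gen S D K) (hh : 2 ≤ D.h) {x : G}
    (hx : x ∈ centralizer ({dz S D} : Set G)) (h2 : orderOf x = 2) (hne : x ≠ dz S D) :
    ∃ p ∈ centralizer ({dz S D} : Set G), p * x * p⁻¹ = dz S D * x := by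
  obtain ⟨k, hk, i, rfl⟩ := (hG.invol_cases_cent hx h2).resolve_left hne
  obtain ⟨e, he⟩ : 2 ∣ D.h := by
    obtain ⟨l, hl⟩ := D.h_pow
    rcases l with _ | l
    · rw [hl] at hh; simp at hh
    · exact hl ▸ dvd_pow_self 2 (Nat.succ_ne_zero l)
  refine ⟨((D.r : (S : Subgroup G)) : G) ^ (e : ℤ), sylow_le_cent (zpow_mem (SetLike.coe_mem _) _), ?_⟩
  have h1 : ((D.r : (S : Subgroup G)) : G) ^ (e : ℤ) * dt S D i *
      (((D.r : (S : Subgroup G)) : G) ^ (e : ℤ))⁻¹ = dt S D (D.h + i) := by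
    have h0 := congrArg Subtype.val (D.conj_refl (e : ℤ) i)
    push_cast at h0
    rw [dt_eq, dt_eq, show (D.h : ℤ) + i = i + 2 * e by rw [he]; push_cast; ring]
    exact h0
  rw [← conj_mul, h1, (hG.rot_zpow hk _).eq, mul_inv_cancel_right, ← dz_mul_dt, ← mul_assoc,
    ← mul_assoc, (mem_centralizer_singleton_iff.1 (hG.le_cent hk))]

/-- The hypothesis with no normal subgroup of index two and no odd core gives a simple group. -/
theorem simple_of_gen (hG : Gen S D K) (hK : K ≠ ⊥) (hno : ∀ H : Subgroup G, H.index ≠ 2)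
    (hodd : ∀ N : Subgroup G, N.Normal → Odd (Nat.card N) → N = ⊥) : IsSimpleGroup G := by
  have h1 : OneClass G := one_class_of_no_index_two S D hno
  have : Fact (Nat.Prime 2) := ⟨Nat.prime_two⟩
  haveI : Nontrivial G := ⟨⟨dz S D, 1, invol_ne_one dz_orderOf⟩⟩
  refine ⟨fun N hN => ?_⟩
  by_contra hcon
  push Not at hcon
  obtain ⟨hNbot, hNtop⟩ := hcon
  have h2N : 2 ∣ Nat.card N := by
    by_contra h
    exact hNbot (hodd N hN (Nat.not_even_iff_odd.1 fun he => h (even_iff_two_dvd.1 he)))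
  obtain ⟨⟨u, hu⟩, huo⟩ := exists_prime_orderOf_dvd_card' 2 h2N
  rw [Subgroup.orderOf_mk] at huo
  have hinv : ∀ v : G, orderOf v = 2 → v ∈ N := fun v hv => by
    obtain ⟨g, rfl⟩ := isConj_iff.1 (h1 u v huo hv)
    exact hN.conj_mem u hu g
  have hSN : (S : Subgroup G) ≤ N := by
    intro p hp
    rcases mem_sylow_cases (D := D) hp with ⟨i, rfl⟩ | ⟨i, rfl⟩
    · have h := mul_mem (hinv _ (dt_orderOf (S := S) (D := D) i)) (hinv _ (dt_orderOf (S := S) (D := D) 0))
      rwa [dt_eq, dt_eq, zpow_zero, one_mul, mul_assoc,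
        show ((D.s : (S : Subgroup G)) : G) * ((D.s : (S : Subgroup G)) : G) = 1 from
          congrArg Subtype.val (invol_mul_self D.orderOf_s), mul_one] at h
    · exact hinv _ (dt_orderOf i)
  have hKN : K ≤ N := by
    intro k hk
    have h := mul_mem (hinv _ (dt_orderOf (S := S) (D := D) 0))
      (hN.conj_mem _ (inv_mem (hinv _ (dt_orderOf (S := S) (D := D) 0))) k)
    rw [← mul_assoc, ← mul_assoc, hG.dt_inv hk 0, ← mul_inv_rev] at h
    have hkk : k * k ∈ N := inv_mem_iff.1 h
    obtain ⟨m, hm⟩ := odd_orderOf_of_mem hG.odd hk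
    rw [show k = (k * k) ^ (m + 1) by
      rw [← pow_two, ← pow_mul, show 2 * (m + 1) = orderOf k + 1 by omega, pow_succ,
        pow_orderOf_eq_one, one_mul]]
    exact pow_mem hkk _
  have hCN : centralizer ({dz S D} : Set G) ≤ N := fun x hx => by
    obtain ⟨k, hk, p, hp, rfl⟩ := hG.split x hx
    exact mul_mem (hKN hk) (hSN hp)
  apply hNtop
  rw [eq_top_iff]
  rcases Nat.lt_or_ge D.h 2 with hh | hh
  · rcases hG.fusion hCN with hnone | hone | ⟨a, -, -, h⟩
    · exfalso
      have hO : oddIn N = ⊥ := hodd _ ⟨fun x hx g => ?_⟩ (oddIn_odd N)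
      swap
      · haveI := hN
        haveI := CfsgLib.Solvable.pPrimeCore_characteristic 2 N
        exact (CfsgLib.Solvable.map_subtype_normal (Cfsg.oddCore N)).conj_mem x hx g
      refine hK ((eq_bot_iff).2 fun k hk => ?_)
      have h := hG.mem_oddIn_of_none hCN hnone (hKN hk) (odd_orderOf_of_mem hG.odd hk)
      rwa [hO] at h
    · intro g _
      obtain ⟨n, hn, hne⟩ := hone (g * dz S D * g⁻¹) (hN.conj_mem _ (hSN dz_mem) g)
        (by rw [orderOf_conj_eq]; exact dz_orderOf)
      have h : n⁻¹ * g ∈ centralizer ({dz S D} : Set G) := by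
        rw [mem_centralizer_singleton_iff]
        calc n⁻¹ * g * dz S D = n⁻¹ * (g * dz S D * g⁻¹) * g := by group
          _ = n⁻¹ * (n * dz S D * n⁻¹) * g := by rw [hne]
          _ = dz S D * (n⁻¹ * g) := by group
      have h' := mul_mem hn (hCN h)
      rwa [mul_inv_cancel_left] at h'
    · omega
  · haveI := hN
    have h := Sylow.normalizer_sup_eq_top (S.subtype hSN)
    rw [← h]
    refine sup_le (fun n hn => hCN ?_) le_rfl
    rw [Sylow.coe_subtype, subgroupOf_map_subtype, inf_of_le_left hSN] at hn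
    rw [mem_centralizer_singleton_iff, ← mul_inv_eq_iff_eq_mul]
    have hz := (mem_normalizer_iff.1 hn _).1 (dz_mem (S := S) (D := D))
    have hz2 : orderOf (⟨_, hz⟩ : (S : Subgroup G)) = 2 := by
      rw [← Subgroup.orderOf_coe, orderOf_conj_eq]; exact dz_orderOf
    rcases D.invol_cases hz2 with e | ⟨i, e⟩
    · exact congrArg Subtype.val e
    · exfalso
      have hc : Commute (n * dz S D * n⁻¹) ((D.r : (S : Subgroup G)) : G) := by
        have hr := (mem_normalizer_iff.1 (inv_mem hn) _).1 (SetLike.coe_mem D.r)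
        rw [inv_inv] at hr
        have := (dz_commute S D hr).map (MulAut.conj n)
        simp only [MulAut.conj_apply] at this
        rwa [show n * (n⁻¹ * ((D.r : (S : Subgroup G)) : G) * n) * n⁻¹ =
          ((D.r : (S : Subgroup G)) : G) by group] at this
      have e' : n * dz S D * n⁻¹ = dt S D i := congrArg Subtype.val e
      rw [e'] at hc
      have h2 : D.r ^ i * D.s * D.r ^ (1 : ℤ) = D.r ^ (1 : ℤ) * (D.r ^ i * D.s) := by
        rw [zpow_one]
        exact Subtype.ext hc.eq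
      rw [D.zy_mul_z, ← mul_assoc, ← zpow_add, mul_left_inj, D.zpow_eq_iff] at h2
      have := Int.le_of_dvd (by norm_num) (show 2 * (D.h : ℤ) ∣ 2 by
        simpa [show (1 : ℤ) + i - (i - 1) = 2 by ring] using h2)
      omega

/-- If the odd core of `M` is centralised by the centre, so are the centralisers in `M`. -/
theorem Gen.small_case (hG : Gen S D K) (h1 : OneClass G) (hIH : CentHyp G) {M : Subgroup G}
    (hM : centralizer ({dz S D} : Set G) ≤ M) (htop : M ≠ ⊤)
    (hnone : ¬ ∀ t ∈ M, orderOf t = 2 → MConj M (dz S D) t)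
    (hO : oddIn M ≤ centralizer ({dz S D} : Set G)) {y : G} (hy : y ∈ K) (hy1 : y ≠ 1) :
    centralizer ({y} : Set G) ⊓ M ≤ centralizer ({dz S D} : Set G) := by
  rintro x ⟨hxy, hxM⟩
  rcases hG.fusion hM with hno | hone | ⟨a, ha, hb, hh⟩
  · obtain ⟨o, ho, p, hp, rfl⟩ := hG.split_of_none hM hno hxM
    exact mul_mem (hO ho) (sylow_le_cent hp)
  · exact absurd hone hnone
  have : Fact (Nat.Prime 2) := ⟨Nat.prime_two⟩
  -- the odd core is trivial
  obtain ⟨m, hm, hma⟩ := ha
  have hObot : oddIn M = ⊥ := by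
    rw [eq_bot_iff]
    intro o ho
    have h2 : m⁻¹ * o * m ∈ oddIn M := by
      simpa using (mem_normalizer_iff.1 (le_normalizer_oddIn M (inv_mem hm)) o).1 ho
    refine mem_bot.2 (hG.eq_one_of_two h1 (dz_orderOf (S := S) (D := D)) (dt_orderOf (S := S) (D := D) a)
      (dt_ne_dz a).symm (dz_commute S D (dt_mem a)) (odd_orderOf_of_mem (oddIn_odd M) ho)
      (mem_centralizer_singleton_iff.1 (hO ho)) ?_)
    have h3 := Commute.map (mem_centralizer_singleton_iff.1 (hO h2) : Commute (m⁻¹ * o * m) (dz S D))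
      (MulAut.conj m)
    simp only [MulAut.conj_apply, hma] at h3
    rwa [show m * (m⁻¹ * o * m) * m⁻¹ = o by group] at h3
  have hS := Gen.sylow_le (S := S) (D := D) hM
  -- work inside `M`
  obtain ⟨c, hc⟩ : ∃ c, c = dz (S.subtype hS) (dihSub D hS) := ⟨_, rfl⟩
  obtain ⟨E, hE⟩ : ∃ E, E = dihSub D hS := ⟨_, rfl⟩
  have hEh : E.h = D.h := hE ▸ rfl
  have hGM := hG.sub hM
  rw [← hE] at hGM
  have conv : ∀ j, MConj M (dz S D) (dt S D j) ↔ IsConj (dz (S.subtype hS) E) (dt (S.subtype hS) E j) :=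
    fun j => by rw [isConj_sub, hE, dihSub_dz, dihSub_dt]
  haveI hRn : (Cfsg.pResidual 2 M).Normal := CfsgLib.Transfer.pResidual_normal
  set R := Cfsg.pResidual 2 M with hR
  obtain ⟨⟨T0, hT0⟩, hTle⟩ : (∃ T : Subgroup ((S.subtype hS : Sylow 2 M) : Subgroup M),
      T ≠ ⊤ ∧ R ⊓ ((S.subtype hS : Sylow 2 M) : Subgroup M) ≤
        T.map ((S.subtype hS : Sylow 2 M) : Subgroup M).subtype) ∧ True :=
    ⟨residual_le_half (S.subtype hS) E a ((conv a).1 ⟨m, hm, hma⟩) (fun e => hb ((conv _).2 e)), trivial⟩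
  clear hTle
  obtain ⟨hTtop, hTle⟩ := hT0
  have hsup : ∀ z : M, ∃ ρ ∈ R, ∃ p ∈ ((S.subtype hS : Sylow 2 M) : Subgroup M), z = ρ * p := fun z => by
    obtain ⟨ρ, hρ, p, hp, e⟩ := mem_sup_of_normal_left.1
      ((CfsgLib.Transfer.pResidual_sup_sylow (S.subtype hS)).symm ▸ mem_top z :
        z ∈ R ⊔ ((S.subtype hS : Sylow 2 M) : Subgroup M))
    exact ⟨ρ, hρ, p, hp, e.symm⟩
  have hza : dt (S.subtype hS) E (E.h + a) ∈ R := by
    obtain ⟨ρ, hρ, p, hp, e⟩ := hsup ⟨m, hm⟩
    have h1' : ρ * dz (S.subtype hS) E * ρ⁻¹ = dt (S.subtype hS) E a := by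
      have h0 : (⟨m, hm⟩ : M) * dz (S.subtype hS) E * (⟨m, hm⟩ : M)⁻¹ = dt (S.subtype hS) E a := by
        refine Subtype.ext ?_
        rw [Subgroup.coe_mul, Subgroup.coe_mul, Subgroup.coe_inv, hE, dihSub_dz, dihSub_dt]
        exact hma
      rw [← h0, e, show ρ * p * dz (S.subtype hS) E * (ρ * p)⁻¹ =
        ρ * (p * dz (S.subtype hS) E * p⁻¹) * ρ⁻¹ by group,
        ← (dz_commute (S.subtype hS) E hp).eq, mul_inv_cancel_right]
    rw [← dz_mul_dt, ← h1', ← mul_assoc, ← mul_assoc]
    have h2' := hRn.conj_mem _ hρ (dz (S.subtype hS) E)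
    rw [invol_inv (dz_orderOf (S := S.subtype hS) (D := E))] at h2'
    exact mul_mem h2' (inv_mem hρ)
  have hpar : ∀ i, Even (i - a) → dt (S.subtype hS) E i ∈ R := by
    intro i hi
    obtain ⟨l, hl⟩ : Even (i - ((E.h : ℤ) + a)) := by
      obtain ⟨d, hd⟩ := hi
      obtain ⟨k, hk⟩ := E.h_pow
      rcases k with _ | k
      · rw [hEh] at hk; omega
      · exact ⟨d - (2 : ℤ) ^ k, by rw [hk]; push_cast; rw [pow_succ]; linarith⟩
    have h0 := congrArg Subtype.val (E.conj_refl l ((E.h : ℤ) + a))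
    rw [show (E.h : ℤ) + a + 2 * l = i by linarith] at h0
    exact (show dt (S.subtype hS) E i = _ from h0.symm) ▸ hRn.conj_mem _ hza _
  have hrot : ∀ i : ℤ, Even i → ((E.r ^ i : ((S.subtype hS : Sylow 2 M) : Subgroup M)) : M) ∈ R := by
    intro i hi
    have h0 := mul_mem (hpar (a + i) (by simpa using hi)) (hpar a (by simp))
    have e := congrArg Subtype.val (E.zy_mul_zy (a + i) a)
    rw [show a + i - a = i by ring] at e
    exact (show dt (S.subtype hS) E (a + i) * dt (S.subtype hS) E a = _ from e) ▸ h0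
  have hr : ((E.r : ((S.subtype hS : Sylow 2 M) : Subgroup M)) : M) ∉ R := by
    intro hr
    apply hTtop
    rw [eq_top_iff]
    intro p _
    have hp : (p : M) ∈ R := by
      have hzp : ∀ i : ℤ, ((E.r ^ i : ((S.subtype hS : Sylow 2 M) : Subgroup M)) : M) ∈ R := fun i => by
        rw [SubgroupClass.coe_zpow]; exact zpow_mem hr i
      rcases E.cases p with ⟨i, rfl⟩ | ⟨i, rfl⟩
      · exact hzp i
      · have e : E.r ^ (i - a) * (E.r ^ a * E.s) = E.r ^ i * E.s := by
          rw [← mul_assoc, ← zpow_add, sub_add_cancel]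
        rw [← e]
        exact mul_mem (hzp _) (hpar a (by simp))
    obtain ⟨w, hw, he⟩ := hTle ⟨hp, p.2⟩
    exact (Subtype.ext he : w = p) ▸ hw
  have hmem : ∀ p : ((S.subtype hS : Sylow 2 M) : Subgroup M),
      (p : M) ∈ R ∨ (p : M) * ((E.r : ((S.subtype hS : Sylow 2 M) : Subgroup M)) : M)⁻¹ ∈ R := by
    intro p
    rcases E.cases p with ⟨i, rfl⟩ | ⟨i, rfl⟩
    · rcases Int.even_or_odd i with hi | hi
      · exact Or.inl (hrot i hi)
      · refine Or.inr ?_
        have e : E.r ^ i * E.r⁻¹ = E.r ^ (i - 1) := by rw [zpow_sub_one]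
        have h := hrot _ (hi.sub_odd odd_one)
        rw [← e] at h
        exact h
    · rcases Int.even_or_odd (i - a) with hi | hi
      · exact Or.inl (hpar i hi)
      · refine Or.inr ?_
        have e : E.r ^ i * E.s * E.r⁻¹ = E.r ^ (i + 1) * E.s := by
          rw [← zpow_neg_one, E.zy_mul_z, sub_neg_eq_add]
        have h := hpar (i + 1) (by rw [show i + 1 - a = i - a + 1 by ring]; exact hi.add_odd odd_one)
        unfold dt at h
        rw [← e] at h
        exact h
  have hM2 : ∀ z : M, z ∈ R ∨ z * ((E.r : ((S.subtype hS : Sylow 2 M) : Subgroup M)) : M)⁻¹ ∈ R := by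
    intro z
    obtain ⟨ρ, hρ, p, hp, rfl⟩ := hsup z
    rcases hmem ⟨p, hp⟩ with h | h
    · exact Or.inl (mul_mem hρ h)
    · exact Or.inr (by rw [mul_assoc]; exact mul_mem hρ h)
  -- dihedral data of the residual
  obtain ⟨P, hP⟩ := CfsgLib.Transfer.exists_sylow_eq_subgroupOf (S.subtype hS) R
  obtain ⟨h', hh'⟩ : 2 ∣ E.h := by
    obtain ⟨l, hl⟩ := E.h_pow
    rcases l with _ | l
    · rw [hEh] at hl; omega
    · exact hl ▸ dvd_pow_self 2 (Nat.succ_ne_zero l)
  have hr2 : ((E.r ^ (2 : ℤ) : ((S.subtype hS : Sylow 2 M) : Subgroup M)) : M) ∈ R := hrot 2 even_two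
  have hsa : dt (S.subtype hS) E a ∈ R := hpar a (by simp)
  let φ : (P : Subgroup R) →* ((S.subtype hS : Sylow 2 M) : Subgroup M) :=
    MonoidHom.mk' (fun q => ⟨((q : R) : M), mem_subgroupOf.1 ((SetLike.ext_iff.1 hP (q : R)).1 q.2)⟩)
      fun _ _ => rfl
  have hφ : Function.Injective φ := fun p q h => Subtype.ext (Subtype.ext (congrArg Subtype.val h :))
  let r2 : (P : Subgroup R) := ⟨⟨_, hr2⟩, (SetLike.ext_iff.1 hP _).2 (mem_subgroupOf.2 (SetLike.coe_mem (E.r ^ (2 : ℤ))))⟩
  let s2 : (P : Subgroup R) := ⟨⟨_, hsa⟩, (SetLike.ext_iff.1 hP _).2 (mem_subgroupOf.2 (dt_mem a))⟩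
  have hφr : φ r2 = E.r ^ (2 : ℤ) := rfl
  have hφs : φ s2 = E.r ^ a * E.s := rfl
  have hpar' : ∀ q : (P : Subgroup R), (∃ i : ℤ, φ q = E.r ^ (2 * i)) ∨
      ∃ i : ℤ, φ q = E.r ^ (2 * i + a) * E.s := by
    intro q
    have hq : ((φ q : M)) ∈ R := (q : R).2
    rcases E.cases (φ q) with ⟨i, e⟩ | ⟨i, e⟩
    · rcases Int.even_or_odd' i with ⟨k, rfl | rfl⟩
      · exact Or.inl ⟨k, e⟩
      · exfalso
        refine hr ?_
        have h0 := mul_mem (inv_mem (hrot (2 * k) (even_two_mul k))) hq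
        rw [e] at h0
        have e2 : (E.r ^ (2 * k))⁻¹ * E.r ^ (2 * k + 1) = E.r := by
          rw [zpow_add, inv_mul_cancel_left, zpow_one]
        exact (congrArg Subtype.val e2 :) ▸ h0
    · rcases Int.even_or_odd' (i - a) with ⟨k, hk | hk⟩
      · exact Or.inr ⟨k, by rw [e, show i = 2 * k + a by linarith]⟩
      · exfalso
        refine hr ?_
        have h0 := mul_mem hq (hpar (2 * k + a) (by simp))
        rw [e] at h0
        have e2 : E.r ^ i * E.s * (E.r ^ (2 * k + a) * E.s) = E.r := by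
          rw [E.zy_mul_zy, show i - (2 * k + a) = 1 by linarith, zpow_one]
        exact (congrArg Subtype.val e2 :) ▸ h0
  have hcardP : Nat.card (P : Subgroup R) = 4 * h' := by
    have h0 := ((R.subgroupOf ((S.subtype hS : Sylow 2 M) : Subgroup M))).card_mul_index
    rw [show (R.subgroupOf ((S.subtype hS : Sylow 2 M) : Subgroup M)).index = 2 from
      Subgroup.index_eq_two_iff.2 ⟨E.r⁻¹, fun p => by
        rcases hmem p with h | h
        · refine Or.inr ⟨mem_subgroupOf.2 h, fun h' => hr ?_⟩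
          have := mul_mem (inv_mem (mem_subgroupOf.1 h')) h
          rwa [Subgroup.coe_mul, Subgroup.coe_inv, mul_inv_rev, inv_inv, inv_mul_cancel_right] at this
        · refine Or.inl ⟨mem_subgroupOf.2 h, fun h' => hr ?_⟩
          have := mul_mem (inv_mem h) (mem_subgroupOf.1 h')
          rwa [mul_inv_rev, inv_inv, inv_mul_cancel_right] at this⟩,
      E.card_eq] at h0
    have h2 : Nat.card (P : Subgroup R) =
        Nat.card (R.subgroupOf ((S.subtype hS : Sylow 2 M) : Subgroup M)) := by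
      rw [hP]
      exact Nat.card_congr
        { toFun := fun q => ⟨⟨((q : R) : M), q.2⟩, (q : R).2⟩
          invFun := fun q => ⟨⟨((q : ((S.subtype hS : Sylow 2 M) : Subgroup M)) : M), q.2⟩, q.1.2⟩
          left_inv := fun q => rfl
          right_inv := fun q => rfl }
    omega
  let E' : DihData (P : Subgroup R) :=
    { h := h'
      r := r2
      s := s2
      h_pos := by have := E.h_pos; omega
      h_pow := by
        obtain ⟨l, hl⟩ := E.h_pow
        rcases l with _ | l
        · rw [hEh] at hl; omega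
        · exact ⟨l, by rw [pow_succ] at hl; omega⟩
      orderOf_r := by
        rw [← orderOf_injective φ hφ, hφr, zpow_two, ← pow_two, orderOf_pow' _ (by norm_num),
          E.orderOf_r, hh', Nat.gcd_eq_right (dvd_mul_right _ _),
          Nat.mul_div_cancel_left _ two_pos]
      orderOf_s := by rw [← orderOf_injective φ hφ, hφs, E.orderOf_zy]
      conj_r := hφ (by
        rw [map_mul, map_mul, map_inv, map_inv, hφr, hφs, E.zy_inv, E.zy_mul_z, E.zy_mul_zy,
          ← zpow_neg]
        congr 1; ring)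
      s_notMem := fun h => by
        obtain ⟨i, hi⟩ := mem_zpowers_iff.1 h
        have := congrArg φ hi
        rw [map_zpow, hφr, hφs, ← zpow_mul] at this
        exact E.ne_zpow _ _ this.symm
      cases := fun q => by
        rcases hpar' q with ⟨i, e⟩ | ⟨i, e⟩
        · exact Or.inl ⟨i, hφ (by rw [e, map_zpow, hφr, ← zpow_mul])⟩
        · refine Or.inr ⟨i, hφ ?_⟩
          rw [e, map_mul, map_zpow, hφr, hφs, ← zpow_mul, ← mul_assoc, ← zpow_add]
      card_eq := hcardP }
  have hz' : ((dz P E' : R) : M) = dz (S.subtype hS) E := by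
    show ((φ (r2 ^ (h' : ℤ))) : M) = _
    rw [map_zpow, hφr, ← zpow_mul, show (2 : ℤ) * h' = E.h by rw [hh']; push_cast; ring]
    rfl
  have hKR : K.subgroupOf M ≤ R :=
    CfsgLib.Transfer.le_pResidual_of_coprime (Nat.coprime_two_right.2 hGM.odd)
  have hGR : Gen P E' ((K.subgroupOf M).subgroupOf R) :=
    { odd := by rw [Nat.card_congr (subgroupOfEquivOfLe hKR).toEquiv]; exact hGM.odd
      rot := fun k hk => Subtype.ext (by
        show ((φ r2 : M)) * (k : M) = (k : M) * (φ r2 : M)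
        rw [hφr, SubgroupClass.coe_zpow]
        exact (hGM.rot_zpow (mem_subgroupOf.1 hk) 2).eq)
      refl := fun k hk => Subtype.ext (by
        show ((φ s2 : M)) * (k : M) * (φ s2 : M)⁻¹ = (k : M)⁻¹
        rw [hφs]
        exact hGM.dt_inv (mem_subgroupOf.1 hk) a)
      split := fun z hz => by
        have hz'' : (z : M) ∈ centralizer ({dz (S.subtype hS) E} : Set M) := by
          rw [mem_centralizer_singleton_iff] at hz ⊢
          rw [← hz']
          exact congrArg Subtype.val hz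
        obtain ⟨k, hk, p, hp, e⟩ := hGM.split _ hz''
        have hpR : p ∈ R := by
          rw [show p = k⁻¹ * (z : M) by rw [e, inv_mul_cancel_left]]
          exact mul_mem (inv_mem (hKR hk)) z.2
        exact ⟨⟨k, hKR hk⟩, mem_subgroupOf.2 hk, ⟨p, hpR⟩, by rw [hP]; exact hp, Subtype.ext e⟩ }
  have hyM : y ∈ M := hM (hG.le_cent hy)
  have hyR : (⟨y, hyM⟩ : M) ∈ R := hKR (mem_subgroupOf.2 hy)
  have hK' : (K.subgroupOf M).subgroupOf R ≠ ⊥ := fun e => hy1 (by
    have h0 : (⟨⟨y, hyM⟩, hyR⟩ : R) ∈ (K.subgroupOf M).subgroupOf R :=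
      mem_subgroupOf.2 (mem_subgroupOf.2 hy)
    rw [e, mem_bot] at h0
    exact congrArg (fun t : R => ((t : M) : G)) h0)
  have hsimple : IsSimpleGroup R := by
    refine simple_of_gen hGR hK' (no_index_two_of_le_residual P ?_) fun N hN hNo => ?_
    · rw [show Cfsg.pResidual 2 R = ⊤ from CfsgLib.Transfer.pResidual_pResidual]; exact le_top
    · haveI := CfsgLib.Solvable.pPrimeCore_normal 2 R
      have h0 : N ≤ Cfsg.oddCore R :=
        CfsgLib.Solvable.le_pPrimeCore hN (Nat.coprime_two_right.2 hNo)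
      have h2 := CfsgLib.Solvable.map_pPrimeCore_le 2 R
      have h3 : oddIn M = ⊥ := hObot
      rw [map_eq_bot_iff_of_injective _ M.subtype_injective] at h3
      have h4 : (Cfsg.oddCore R).map R.subtype = ⊥ := le_bot_iff.1 (h3 ▸ h2)
      rw [map_eq_bot_iff_of_injective _ R.subtype_injective] at h4
      exact le_bot_iff.1 (h4 ▸ h0)
  have hlt : Nat.card R < Nat.card G :=
    lt_of_le_of_lt (card_le_card_group R) (by
      rcases lt_or_eq_of_le (card_le_card_group M) with h | h
      · exact h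
      · exact absurd (eq_top_of_card_eq M h) htop)
  have key := hIH R hlt hsimple P E' _ hGR ⟨⟨y, hyM⟩, hyR⟩ (mem_subgroupOf.2 (mem_subgroupOf.2 hy))
    (fun e => hy1 (congrArg (fun t : R => ((t : M) : G)) e))
  have down : ∀ z : M, z ∈ R → Commute (z : G) y → (z : G) ∈ centralizer ({dz S D} : Set G) := by
    intro z hz hzy
    have h0 := key (show (⟨z, hz⟩ : R) ∈ centralizer ({⟨⟨y, hyM⟩, hyR⟩} : Set R) from
      mem_centralizer_singleton_iff.2 (Subtype.ext (Subtype.ext hzy.eq)))
    rw [mem_centralizer_singleton_iff] at h0 ⊢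
    have h5 := congrArg (fun t : R => ((t : M) : G)) h0
    simp only [Subgroup.coe_mul, hz', hE, dihSub_dz] at h5
    exact h5
  have hxy' : Commute x y := mem_centralizer_singleton_iff.1 hxy
  rcases hM2 ⟨x, hxM⟩ with h | h
  · exact down _ h hxy'
  · obtain ⟨rr, hrr⟩ : ∃ rr : G, rr = ((E.r : ((S.subtype hS : Sylow 2 M) : Subgroup M)) : M) := ⟨_, rfl⟩
    have hrG : rr = ((D.r : (S : Subgroup G)) : G) := by rw [hrr, hE]; rfl
    have h0 := down _ h (by
      show Commute (x * ((((E.r : ((S.subtype hS : Sylow 2 M) : Subgroup M)) : M))⁻¹ : M)) y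
      rw [Subgroup.coe_inv, ← hrr, hrG]
      exact hxy'.mul_left ((hG.rot y hy).inv_left))
    change x * (((((E.r : ((S.subtype hS : Sylow 2 M) : Subgroup M)) : M))⁻¹ : M) : G) ∈ _ at h0
    rw [Subgroup.coe_inv, ← hrr, hrG] at h0
    have := mul_mem h0 (sylow_le_cent (S := S) (D := D) (SetLike.coe_mem D.r))
    rwa [inv_mul_cancel_right] at this

end CfsgLib.Recog.GenDih
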