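import Cfsg.Agent.Lib.Recog.GenDihedral.Sub
import Cfsg.Agent.Lib.Recog.GenDihedral.Count
import Cfsg.Agent.Lib.Invol.Strong

/-!
# No proper subgroup with one class of involutions contains the centraliser
-/

set_option autoImplicit false
set_option linter.unusedSectionVars false

namespace CfsgLib.Recog.GenDih

open Subgroup CfsgLib.Invol

universe u

variable {G : Type u} [Group G] [Finite G] {S : Sylow 2 G} {D : DihData (S : Subgroup G)}
  {K : Subgroup G}

/-- A proper one-class subgroup containing the centraliser is strongly embedded. -/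
theorem stronglyEmbedded_of_one {M : Subgroup G} (hM : centralizer ({dz S D} : Set G) ≤ M)
    (htop : M ≠ ⊤) (hone : ∀ t ∈ M, orderOf t = 2 → MConj M (dz S D) t) :
    Cfsg.IsStronglyEmbedded M := by
  have hcM : dz S D ∈ M := hM (sylow_le_cent dz_mem)
  have : Fact (Nat.Prime 2) := ⟨Nat.prime_two⟩
  refine ⟨htop, even_iff_two_dvd.2 ?_, fun g hg => ?_⟩
  · rw [← dz_orderOf (S := S) (D := D)]
    exact Subgroup.orderOf_dvd_natCard _ hcM
  · rw [← Nat.not_even_iff_odd, even_iff_two_dvd]
    intro h2
    obtain ⟨⟨u, hu⟩, huo⟩ := exists_prime_orderOf_dvd_card' 2 h2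
    rw [Subgroup.orderOf_mk] at huo
    obtain ⟨huM, hug⟩ := mem_inf.1 hu
    rw [mem_map_conj] at hug
    obtain ⟨m, hm, hme⟩ := hone u huM huo
    obtain ⟨n, hn, hne⟩ := hone _ hug (by rw [orderOf_conj_inv]; exact huo)
    refine hg ?_
    have h : m⁻¹ * g * n ∈ centralizer ({dz S D} : Set G) := by
      rw [mem_centralizer_singleton_iff]
      calc m⁻¹ * g * n * dz S D = m⁻¹ * g * (n * dz S D * n⁻¹) * n := by group
        _ = m⁻¹ * g * (g⁻¹ * u * g) * n := by rw [hne]
        _ = m⁻¹ * u * (g * n) := by group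
        _ = m⁻¹ * (m * dz S D * m⁻¹) * (g * n) := by rw [hme]
        _ = dz S D * (m⁻¹ * g * n) := by group
    have h' := mul_mem (mul_mem hm (hM h)) (inv_mem hn)
    rwa [show m * (m⁻¹ * g * n) * n⁻¹ = g by group] at h'

variable (hG : Gen S D K)
include hG

/-- Step A. -/
theorem Gen.stepA [IsSimpleGroup G] (h1 : OneClass G) {M : Subgroup G}
    (hM : centralizer ({dz S D} : Set G) ≤ M) (htop : M ≠ ⊤)
    (hone : ∀ t ∈ M, orderOf t = 2 → MConj M (dz S D) t) : K = ⊥ := by
  classical
  have hse := stronglyEmbedded_of_one hM htop hone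
  have hS : (S : Subgroup G) ≤ M := Gen.sylow_le hM
  have hfix : ∀ p ∈ (S : Subgroup G), p • ((1 : G) : G ⧸ M) = (1 : G) := fun p hp => by
    rw [fix_coset_iff]; simpa using hS hp
  -- semiregular action of the Sylow subgroup away from `M`
  have hfree : ∀ p ∈ (S : Subgroup G), ∀ x : G ⧸ M, p • x = x → p = 1 ∨ x = (1 : G) := by
    intro p hp x hx
    by_cases hp1 : p = 1
    · exact Or.inl hp1
    refine Or.inr ?_
    obtain ⟨n, hn⟩ := S.2 ⟨p, hp⟩
    obtain ⟨e, -, he⟩ := (Nat.dvd_prime_pow Nat.prime_two).1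
      (orderOf_dvd_of_pow_eq_one (congrArg Subtype.val hn :) : orderOf p ∣ 2 ^ n)
    rcases e with _ | e
    · exact absurd (orderOf_eq_one_iff.1 (he.trans (pow_zero 2))) hp1
    have hu : orderOf (p ^ 2 ^ e) = 2 := by
      rw [orderOf_pow_of_dvd (by positivity) (he ▸ ⟨2, by rw [pow_succ]⟩), he, pow_succ,
        Nat.mul_div_cancel_left _ (by positivity)]
    have hfx : ∀ k : ℕ, p ^ k • x = x := fun k => by
      induction k with
      | zero => rw [pow_zero, one_smul]
      | succ k ih => rw [pow_succ, mul_smul, hx, ih]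
    exact se_fix_eq hse hu (hfx _) (hfix _ (pow_mem hp _))
  obtain ⟨x₀, hx₀⟩ : ∃ x₀ : G ⧸ M, x₀ ≠ ((1 : G) : G ⧸ M) := by
    obtain ⟨g, -, hg⟩ := SetLike.exists_of_lt htop.lt_top
    exact ⟨g, fun e => hg (by simpa using QuotientGroup.eq.1 e)⟩
  have hd : 4 * D.h + 1 ≤ M.index := by
    have := Fintype.ofFinite (G ⧸ M)
    let f : Option (S : Subgroup G) → G ⧸ M := fun o => o.elim ((1 : G) : G ⧸ M) fun p => (p : G) • x₀
    have hinj : Function.Injective f := by
      intro o o' h
      have hne : ∀ p : (S : Subgroup G), (p : G) • x₀ ≠ ((1 : G) : G ⧸ M) := fun p e => hx₀ (by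
        have e' := congrArg (fun y => (p : G)⁻¹ • y) e
        simp only [inv_smul_smul] at e'
        rw [e', hfix _ (inv_mem p.2)])
      rcases o with _ | p <;> rcases o' with _ | q
      · rfl
      · exact absurd h.symm (hne q)
      · exact absurd h (hne p)
      · have h' : ((q : G)⁻¹ * p) • x₀ = x₀ := by
          rw [mul_smul, show (p : G) • x₀ = (q : G) • x₀ from h, inv_smul_smul]
        rcases hfree _ (mul_mem (inv_mem q.2) p.2) _ h' with e | e
        · exact congrArg some (Subtype.ext (inv_mul_eq_one.1 e).symm)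
        · exact absurd e hx₀
    rw [← card_sylow (S := S) (D := D), Subgroup.index]
    exact le_of_eq_of_le Finite.card_option.symm (Nat.card_le_card_of_injective f hinj)
  -- the two order formulas
  obtain ⟨N, hN⟩ : ∃ N, N = Nat.card M := ⟨_, rfl⟩
  have hcC : Nat.card (centralizer ({dz (S.subtype hS) (dihSub D hS)} : Set M)) =
      Nat.card (centralizer ({dz S D} : Set G)) := by
    rw [Nat.card_congr ((centralizer ({dz (S.subtype hS) (dihSub D hS)} : Set M)).equivMapOfInjective
      M.subtype M.subtype_injective).toEquiv]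
    congr 2
    ext x
    constructor
    · rintro ⟨y, hy, rfl⟩
      rw [SetLike.mem_coe, mem_centralizer_singleton_iff] at hy
      have h := congrArg Subtype.val hy
      rw [Subgroup.coe_mul, Subgroup.coe_mul, dihSub_dz] at h
      exact mem_centralizer_singleton_iff.2 h
    · intro hx
      refine ⟨⟨x, hM hx⟩, mem_centralizer_singleton_iff.2 (Subtype.ext ?_), rfl⟩
      rw [Subgroup.coe_mul, Subgroup.coe_mul, dihSub_dz]
      exact mem_centralizer_singleton_iff.1 hx
  have h1M : OneClass M := fun a b ha hb => by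
    rw [isConj_sub]
    exact ((hone _ a.2 (by rw [Subgroup.orderOf_coe]; exact ha)).symm').trans'
      (hone _ b.2 (by rw [Subgroup.orderOf_coe]; exact hb))
  have hbM := ((hG.sub hM).order_bounds h1M).1
  rw [hcC, ← hN] at hbM
  have hbG := (hG.order_bounds h1).2
  have hGN : M.index * N = Nat.card G := by rw [hN, mul_comm, M.card_mul_index]
  have hNpos : 0 < N := hN ▸ Nat.card_pos
  have hidx : M.index ≤ 5 := by
    by_contra hlt
    push Not at hlt
    have h6 : 6 * N ≤ Nat.card G := hGN ▸ Nat.mul_le_mul_right N hlt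
    omega
  have hh : D.h = 1 := by have := D.h_pos; omega
  have hd5 : M.index = 5 := by omega
  -- `|M|` divides `24`
  have hker : M.normalCore = ⊥ := by
    rcases M.normalCore_normal.eq_bot_or_eq_top with h | h
    · exact h
    · exact absurd (top_le_iff.1 (h ▸ M.normalCore_le)) htop
  have hdvd : Nat.card G ∣ 120 := by
    have hinj : Function.Injective (MulAction.toPermHom G (G ⧸ M)) := by
      rw [← MonoidHom.ker_eq_bot_iff, ← Subgroup.normalCore_eq_ker, hker]
    have h := Subgroup.card_dvd_of_injective _ hinj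
    rwa [Nat.card_perm, ← Subgroup.index, hd5] at h
  have hN24 : N ∣ 24 := by
    rw [← hGN, hd5] at hdvd
    exact Nat.dvd_of_mul_dvd_mul_left (by norm_num : 0 < 5) (by simpa using hdvd)
  have h8 : ¬ 8 ∣ N := by
    intro h8
    have : Fact (Nat.Prime 2) := ⟨Nat.prime_two⟩
    obtain ⟨P, hP⟩ := Sylow.exists_subgroup_card_pow_prime 2 (n := 3) (hN ▸ h8)
    obtain ⟨T, hT⟩ := ((IsPGroup.of_card hP).map M.subtype).exists_le_sylow
    have := Subgroup.card_le_of_le hT
    rw [card_map_of_injective (subtype_injective _), hP, T.card_eq_multiplicity,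
      ← S.card_eq_multiplicity, card_sylow (S := S) (D := D), hh] at this
    omega
  have hCN : Nat.card (centralizer ({dz S D} : Set G)) ∣ N := hN ▸ Subgroup.card_dvd_of_le hM
  rw [hG.card_cent, hh] at hCN
  have hk := hG.odd
  have hN' : N = 4 ∨ N = 12 := by
    have := Nat.le_of_dvd (by norm_num) hN24
    have h4 : 4 ∣ N := (dvd_mul_left 4 (Nat.card K)).trans (by simpa using hCN)
    interval_cases N <;> omega
  have hk13 : Nat.card K = 1 ∨ Nat.card K = 3 := by
    have hkN : Nat.card K ∣ 12 := (dvd_mul_right _ (4 * 1)).trans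
      (hCN.trans (by rcases hN' with e | e <;> rw [e]; norm_num))
    have := Nat.le_of_dvd (by norm_num) hkN
    obtain ⟨k, hk'⟩ := hk
    interval_cases (Nat.card K) <;> omega
  rcases hk13 with e | e
  · exact Subgroup.eq_bot_of_card_eq _ e
  · exfalso
    have hMC : centralizer ({dz S D} : Set G) = M := eq_of_le_of_card_ge hM (by
      rw [hG.card_cent, hh, e, ← hN]; rcases hN' with h | h <;> omega)
    obtain ⟨m, hm, hme⟩ := hone (dt S D 0) (hS (dt_mem 0)) (dt_orderOf 0)
    rw [← hMC, mem_centralizer_singleton_iff] at hm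
    rw [hm, mul_inv_cancel_right] at hme
    exact dt_ne_dz 0 hme.symm

/-- No proper subgroup contains the centralisers of all involutions of `S`. -/
theorem Gen.noFull [IsSimpleGroup G] (h1 : OneClass G) {M : Subgroup G} (htop : M ≠ ⊤)
    (hall : ∀ v ∈ (S : Subgroup G), orderOf v = 2 → centralizer ({v} : Set G) ≤ M) : K = ⊥ := by
  classical
  have hM : centralizer ({dz S D} : Set G) ≤ M := hall _ dz_mem dz_orderOf
  have hS : (S : Subgroup G) ≤ M := Gen.sylow_le hM
  have hcent : ∀ u ∈ M, orderOf u = 2 → centralizer ({u} : Set G) ≤ M := by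
    intro u huM hu
    obtain ⟨⟨m, hm⟩, hmu⟩ := exists_conj_invol_mem_sylow (S.subtype hS) (x := ⟨u, huM⟩)
      (by rw [← Subgroup.orderOf_coe]; exact hu)
    intro x hx
    rw [mem_centralizer_singleton_iff] at hx
    have h := hall (m * u * m⁻¹) hmu (by rw [orderOf_conj_eq]; exact hu)
      (show m * x * m⁻¹ ∈ centralizer ({m * u * m⁻¹} : Set G) by
        rw [mem_centralizer_singleton_iff]
        calc m * x * m⁻¹ * (m * u * m⁻¹) = m * (x * u) * m⁻¹ := by group
          _ = m * (u * x) * m⁻¹ := by rw [hx]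
          _ = m * u * m⁻¹ * (m * x * m⁻¹) := by group)
    have h' := mul_mem (mul_mem (inv_mem hm) h) hm
    rwa [show m⁻¹ * (m * x * m⁻¹) * m = x by group] at h'
  let R : G → G → Prop := fun a b => orderOf a = 2 ∧ orderOf b = 2 ∧ Commute a b
  have hRsymm : ∀ a b, R a b → R b a := fun a b h => ⟨h.2.1, h.1, h.2.2.symm⟩
  have hRconj : ∀ g a b : G, Relation.ReflTransGen R a b →
      Relation.ReflTransGen R (g * a * g⁻¹) (g * b * g⁻¹) := by
    intro g a b h
    refine h.lift (fun t => g * t * g⁻¹) fun x y hxy => ⟨?_, ?_, ?_⟩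
    · rw [orderOf_conj_eq]; exact hxy.1
    · rw [orderOf_conj_eq]; exact hxy.2.1
    · exact hxy.2.2.map (MulAut.conj g)
  have hRs : ∀ a b : G, Relation.ReflTransGen R a b → Relation.ReflTransGen R b a := by
    intro a b h
    induction h with
    | refl => exact Relation.ReflTransGen.refl
    | tail _ hstep ih => exact ih.head (hRsymm _ _ hstep)
  let H : Subgroup G :=
    { carrier := {g | Relation.ReflTransGen R (dz S D) (g * dz S D * g⁻¹)}
      one_mem' := by
        show Relation.ReflTransGen R (dz S D) (1 * dz S D * 1⁻¹)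
        rw [one_mul, inv_one, mul_one]
      mul_mem' := by
        intro g h hg hh
        show Relation.ReflTransGen R (dz S D) (g * h * dz S D * (g * h)⁻¹)
        rw [show g * h * dz S D * (g * h)⁻¹ = g * (h * dz S D * h⁻¹) * g⁻¹ by group]
        exact (Set.mem_ofPred_eq ▸ hg).trans (hRconj g _ _ hh)
      inv_mem' := by
        intro g hg
        have h := hRconj g⁻¹ _ _ (hRs _ _ hg)
        show Relation.ReflTransGen R (dz S D) (g⁻¹ * dz S D * g⁻¹⁻¹)
        rwa [show g⁻¹ * (g * dz S D * g⁻¹) * g⁻¹⁻¹ = dz S D by group] at h }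
  have hHC : centralizer ({dz S D} : Set G) ≤ H := fun x hx => by
    show Relation.ReflTransGen R (dz S D) (x * dz S D * x⁻¹)
    rw [mem_centralizer_singleton_iff.1 hx, mul_inv_cancel_right]
  have hreach : ∀ b, Relation.ReflTransGen R (dz S D) b → b ∈ M := by
    intro b hb
    induction hb with
    | refl => exact hS dz_mem
    | tail _ hstep ih => exact hcent _ ih hstep.1 (mem_centralizer_singleton_iff.2 hstep.2.2.symm.eq)
  have hHtop : H ≠ ⊤ := by
    intro hH
    have hle : Subgroup.normalClosure ({dz S D} : Set G) ≤ M := by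
      refine (Subgroup.closure_le _).2 ?_
      intro y hy
      obtain ⟨a, ha, hc⟩ := Group.mem_conjugatesOfSet_iff.1 hy
      rw [Set.mem_singleton_iff] at ha
      subst ha
      obtain ⟨g, rfl⟩ := isConj_iff.1 hc
      exact hreach _ (show g ∈ H from hH ▸ mem_top g)
    rcases (normalClosure_normal (s := ({dz S D} : Set G))).eq_bot_or_eq_top with h | h
    · have : dz S D ∈ (⊥ : Subgroup G) := h ▸ subset_normalClosure (Set.mem_singleton _)
      exact invol_ne_one dz_orderOf (mem_bot.1 this)
    · exact htop (top_le_iff.1 (h ▸ hle))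
  refine hG.stepA h1 hHC hHtop fun t htH ht => ?_
  have hS' : (S : Subgroup G) ≤ H := Gen.sylow_le hHC
  obtain ⟨⟨m, hm⟩, hmt⟩ := exists_conj_invol_mem_sylow (S.subtype hS') (x := ⟨t, htH⟩)
    (by rw [← Subgroup.orderOf_coe]; exact ht)
  have hts : orderOf (m * t * m⁻¹) = 2 := by rw [orderOf_conj_eq]; exact ht
  obtain ⟨g, hg⟩ := isConj_iff.1 (h1 _ _ (dz_orderOf (S := S) (D := D)) hts)
  have hgH : g ∈ H := by
    show Relation.ReflTransGen R (dz S D) (g * dz S D * g⁻¹)
    rw [hg]
    exact Relation.ReflTransGen.single ⟨dz_orderOf, hts, dz_commute S D hmt⟩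
  exact MConj.trans' ⟨g, hgH, hg⟩ (MConj.symm' ⟨m, hm, rfl⟩)

end CfsgLib.Recog.GenDih
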