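import Cfsg.Agent.Lib.Recog.GenDihedral.Bender

/-!
# Four-group case: no maximal subgroup contains the centralisers of two involutions of `S`
-/

set_option autoImplicit false
set_option linter.unusedSectionVars false
set_option linter.style.haveILetI false

namespace CfsgLib.Recog.GenDih

open Subgroup CfsgLib.Invol CfsgLib.Comp

universe u

variable {G : Type u} [Group G] [Finite G] {S : Sylow 2 G} {D : DihData (S : Subgroup G)}
  {K : Subgroup G}

/-- Four groups are commutative. -/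
theorem commute_four (hh : D.h = 1) {a b : G} (ha : a ∈ (S : Subgroup G))
    (hb : b ∈ (S : Subgroup G)) : Commute a b := by
  have hU : dU S D 0 = (S : Subgroup G) := eq_of_le_of_card_ge (map_subtype_le _) (by
    rw [(dU_isKleinFour S D 0).card_four, D.card_eq, hh])
  haveI : IsKleinFour (S : Subgroup G) := hU ▸ dU_isKleinFour S D 0
  exact congrArg Subtype.val
    ((IsKleinFour.isMulCommutative (G := (S : Subgroup G))).is_comm.comm ⟨a, ha⟩ ⟨b, hb⟩)

/-- The elements of a four-group. -/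
theorem four_cases (hh : D.h = 1) (j : ℤ) {v : G} (hv : v ∈ (S : Subgroup G)) :
    v = 1 ∨ v = dz S D ∨ v = dt S D j ∨ v = dz S D * dt S D j := by
  have hU : dU S D j = (S : Subgroup G) := eq_of_le_of_card_ge (map_subtype_le _) (by
    rw [(dU_isKleinFour S D j).card_four, D.card_eq, hh])
  rw [← hU] at hv
  obtain ⟨a, ha, rfl⟩ := hv
  rcases ha with rfl | rfl | rfl | rfl
  exacts [Or.inl rfl, Or.inr (Or.inl rfl), Or.inr (Or.inr (Or.inl rfl)), Or.inr (Or.inr (Or.inr rfl))]

/-- An element normalising `S` maps an involution of `S` to the centre. -/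
theorem Gen.exists_norm (hh : D.h = 1) (h1 : OneClass G) {v : G} (hv : v ∈ (S : Subgroup G))
    (hv2 : orderOf v = 2) :
    ∃ k : G, k * v * k⁻¹ = dz S D ∧ (∀ u ∈ (S : Subgroup G), k * u * k⁻¹ ∈ (S : Subgroup G)) ∧
      ∀ u ∈ (S : Subgroup G), k⁻¹ * u * k ∈ (S : Subgroup G) := by
  have : Fact (Nat.Prime 2) := ⟨Nat.prime_two⟩
  obtain ⟨g, hg⟩ := isConj_iff.1 (h1 v _ hv2 (dz_orderOf (S := S) (D := D)))
  obtain ⟨k, hk, hkS⟩ := exists_conj_extend S (fun s hs => dz_commute S D hs) hg S.2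
    (fun u hu => commute_four hh hu hv)
  refine ⟨k, hk, hkS, fun u hu => ?_⟩
  have hkN : k ∈ normalizer ((S : Subgroup G) : Set G) :=
    CfsgLib.Invol.mem_normalizer_iff_of_finite hkS
  simpa using (mem_normalizer_iff.1 (inv_mem hkN) u).1 hu

/-- An element normalising `S` and fixing the centre fixes all of `S`. -/
theorem Gen.fix_of_norm (hG : Gen S D K) (hh : D.h = 1) {n u : G} (hn : Commute n (dz S D))
    (hu : u ∈ (S : Subgroup G)) (hnu : n * u * n⁻¹ ∈ (S : Subgroup G)) : n * u * n⁻¹ = u := by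
  obtain ⟨k, hk, p, hp, rfl⟩ := hG.split n (mem_centralizer_singleton_iff.2 hn.eq)
  have e : k * p * u * (k * p)⁻¹ = k * u * k⁻¹ := by
    rw [show k * p * u * (k * p)⁻¹ = k * (p * u * p⁻¹) * k⁻¹ by group,
      (commute_four hh hp hu).eq, mul_inv_cancel_right]
  rw [e] at hnu ⊢
  by_cases hu1 : u = 1
  · rw [hu1]; group
  by_cases huz : u = dz S D
  · rw [huz, mem_centralizer_singleton_iff.1 (hG.le_cent hk), mul_inv_cancel_right]
  obtain ⟨i, rfl⟩ : ∃ i, u = dt S D i := by
    rcases four_cases hh 0 hu with e | e | e | e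
    exacts [absurd e hu1, absurd e huz, ⟨0, e⟩, ⟨_, e.trans (dz_mul_dt 0)⟩]
  have h0 := hG.dt_inv hk i
  have hkk : k * k ∈ (S : Subgroup G) := by
    have h3 := mul_mem hnu (inv_mem hu)
    rwa [show k * dt S D i * k⁻¹ * (dt S D i)⁻¹ = k * (dt S D i * k * (dt S D i)⁻¹)⁻¹ by group, h0,
      inv_inv] at h3
  rw [eq_one_of_sq (odd_orderOf_of_mem hG.odd hk) (hG.inf_sylow (mul_mem hk hk) hkk)]
  group

/-- Elements centralising an involution of the four-group. -/
theorem Gen.split_four (hG : Gen S D K) (hh : D.h = 1) (h1 : OneClass G) {v a : G}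
    (hv : v ∈ (S : Subgroup G)) (hv2 : orderOf v = 2) (ha : Commute a v) :
    ∃ b p, Odd (orderOf b) ∧ Commute b v ∧ p ∈ (S : Subgroup G) ∧ a = b * p := by
  obtain ⟨k, hk, -, hkS⟩ := Gen.exists_norm (D := D) hh h1 hv hv2
  obtain ⟨b, hb, p, hp, e⟩ := hG.split (k * a * k⁻¹) (by
    rw [mem_centralizer_singleton_iff, ← hk]
    simpa using (ha.map (MulAut.conj k)).eq)
  refine ⟨k⁻¹ * b * k, k⁻¹ * p * k, ?_, ?_, hkS p hp, ?_⟩
  · rw [orderOf_conj_inv]
    exact odd_orderOf_of_mem hG.odd hb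
  · have h := (show Commute b (dz S D) from mem_centralizer_singleton_iff.1 (hG.le_cent hb)).map
      (MulAut.conj k⁻¹)
    rw [← hk] at h
    simpa [mul_assoc] using h
  · calc a = k⁻¹ * (k * a * k⁻¹) * k := by group
      _ = _ := by rw [e]; group

theorem Gen.twoFull_std [IsSimpleGroup G] (hG : Gen S D K) (hh : D.h = 1) (h1 : OneClass G)
    (hK : K ≠ ⊥) (hIH : CentHyp G) {M : Subgroup G} (hco : IsCoatom M)
    (hM : centralizer ({dz S D} : Set G) ≤ M) {j : ℤ}
    (hMt : centralizer ({dt S D j} : Set G) ≤ M) : False := by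
  obtain ⟨c, hc⟩ : ∃ c, c = dz S D := ⟨_, rfl⟩
  obtain ⟨t, ht⟩ : ∃ t, t = dt S D j := ⟨_, rfl⟩
  have hc2 : orderOf c = 2 := hc ▸ dz_orderOf
  have ht2 : orderOf t = 2 := ht ▸ dt_orderOf j
  have hcS : c ∈ (S : Subgroup G) := hc ▸ dz_mem
  have htS : t ∈ (S : Subgroup G) := ht ▸ dt_mem j
  have hctS : c * t ∈ (S : Subgroup G) := mul_mem hcS htS
  have hct2 : orderOf (c * t) = 2 := by rw [hc, ht, dz_mul_dt]; exact dt_orderOf _
  have hcomm : Commute c t := hc ▸ dz_commute S D htS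
  have hctne : c ≠ t := fun e => dt_ne_dz j (by rw [← ht, ← e, hc])
  have hcne : c ≠ c * t := fun e => invol_ne_one ht2 (mul_eq_left.1 e.symm)
  have htne : t ≠ c * t := fun e => invol_ne_one hc2 (mul_eq_right.1 e.symm)
  have hS := Gen.sylow_le (S := S) (D := D) hM
  have hnotfull : ¬ centralizer ({c * t} : Set G) ≤ M := fun h3 => hK (hG.noFull h1 hco.1 fun v hv hv2 => by
    rcases four_cases hh j hv with e | e | e | e
    · exact absurd e (invol_ne_one hv2)
    · exact e ▸ hM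
    · exact e ▸ hMt
    · rw [e, ← hc, ← ht]; exact h3)
  have hnone1 : ¬ ∀ w ∈ M, orderOf w = 2 → MConj M (dz S D) w := fun h => hK (hG.stepA h1 hM hco.1 h)
  have hno : ∀ i, ¬ MConj M (dz S D) (dt S D i) := by
    rcases hG.fusion hM with h | h | ⟨a, -, -, h⟩
    exacts [h, absurd h hnone1, by omega]
  have hcore : ¬ oddIn M ≤ centralizer ({dz S D} : Set G) := by
    intro hcore
    obtain ⟨⟨y, hy⟩, hy1⟩ := K.ne_bot_iff_exists_ne_one.1 hK
    obtain ⟨k, hk, -, -⟩ := Gen.exists_norm (D := D) hh h1 htS ht2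
    obtain ⟨z, hz⟩ : ∃ z, z = k⁻¹ * y * k := ⟨_, rfl⟩
    have hzt : Commute z t := by
      have h := (show Commute y (dz S D) from mem_centralizer_singleton_iff.1 (hG.le_cent hy)).map
        (MulAut.conj k⁻¹)
      rw [← hk] at h
      rw [hz]
      simpa [mul_assoc] using h
    have hzodd : Odd (orderOf z) := by rw [hz, orderOf_conj_inv]; exact odd_orderOf_of_mem hG.odd hy
    have hzM : z ∈ M := hMt (mem_centralizer_singleton_iff.2 (ht ▸ hzt.eq))
    have hzc : Commute z c := hc ▸ mem_centralizer_singleton_iff.1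
      (hcore (hG.mem_oddIn_of_none hM hno hzM hzodd))
    have hz1 := hG.eq_one_of_two h1 hc2 ht2 hctne hcomm hzodd hzc hzt
    rw [hz] at hz1
    refine hy1 (Subtype.ext ?_)
    calc y = k * (k⁻¹ * y * k) * k⁻¹ := by group
      _ = 1 := by rw [hz1]; group
  have hP : Pair S D M := ⟨hco, hM, hnone1, hcore⟩
  have hctM : c * t ∈ M := hS hctS
  have hFodd := hP.fIn_odd hG hK
  by_cases hfix : ∃ f ∈ FIn M, f ≠ 1 ∧ Commute f (c * t)
  · obtain ⟨f, hf, hf1, hfw⟩ := hfix
    obtain ⟨q, hq, hqd⟩ := Nat.exists_prime_and_dvd (fun e => hf1 (orderOf_eq_one_iff.1 e))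
    have hxo : (orderOf (f ^ (orderOf f / q))).Prime := by
      rw [orderOf_pow_orderOf_div (orderOf_pos f).ne' hqd]; exact hq
    have hnc : ¬ MConj M (dz S D) (c * t) := by rw [hc, ht, dz_mul_dt]; exact hno _
    rcases hP.dichotomy hG h1 hK hIH hct2 hctM (hc ▸ dz_commute S D hctS) (hc ▸ hcne.symm) hnc
        (pow_mem hf _) hxo (hfw.pow_left _) with h | ⟨R, P, hR, hRodd, hRM, hwR, hPodd, hPN, hPR⟩
    · exact hnotfull h
    · have hinv : ∀ v, orderOf v = 2 → Commute v (c * t) → centralizer ({v} : Set G) ≤ M →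
          ∀ ρ ∈ R, v * ρ * v⁻¹ = ρ⁻¹ := fun v hv hvw hvM ρ hρ => by
        have hvR := hwR (mem_centralizer_singleton_iff.2 hvw.eq)
        refine inv_of_fpf hv (fun x hx => (mem_normalizer_iff.1 hvR x).1 hx) (fun x hx hxv => ?_) hρ
        have : x ∈ R ⊓ M := ⟨hx, hvM (mem_centralizer_singleton_iff.2 hxv.eq)⟩
        rwa [hRM, mem_bot] at this
      refine hG.pure_contra h1 hct2 hctM hR hRodd hRM hPodd hPN hPR fun ρ hρ => ?_
      refine mul_inv_eq_iff_eq_mul.1 ?_
      rw [show c * t * ρ * (c * t)⁻¹ = c * (t * ρ * t⁻¹) * c⁻¹ by group,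
        hinv t ht2 (hcomm.symm.mul_right (Commute.refl t)) (ht ▸ hMt) ρ hρ,
        hinv c hc2 ((Commute.refl c).mul_right hcomm) (hc ▸ hM) _ (inv_mem hρ), inv_inv]
  · push Not at hfix
    have hinvF : ∀ f ∈ FIn M, c * t * f * (c * t)⁻¹ = f⁻¹ := fun f hf =>
      inv_of_fpf hct2 (fun x hx => conj_mem_of_le (le_normalizer_FIn M) hctM hx)
        (fun x hx hxc => by by_contra hx1; exact hfix x hx hx1 hxc) hf
    have hcf := hP.cent_fit hG h1 hK
    have habel : ∀ a ∈ FIn M, ∀ b ∈ FIn M, Commute a b := by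
      intro a ha b hb
      have h := hinvF _ (mul_mem ha hb)
      rw [show c * t * (a * b) * (c * t)⁻¹ = (c * t * a * (c * t)⁻¹) * (c * t * b * (c * t)⁻¹) by group,
        hinvF a ha, hinvF b hb, mul_inv_rev] at h
      have h2 := congrArg (·⁻¹) h
      simp only [mul_inv_rev, inv_inv] at h2
      exact h2.symm
    have hinF : ∀ v a, (v = c ∨ v = t) → Commute a v → Odd (orderOf a) → a ∈ FIn M := by
      intro v a hv hav ha
      obtain ⟨hvC, hv2, hvne, hvct⟩ : centralizer ({v} : Set G) ≤ M ∧ orderOf v = 2 ∧ v ≠ c * t ∧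
          Commute v (c * t) := by
        rcases hv with rfl | rfl
        · exact ⟨hc ▸ hM, hc2, hcne, (Commute.refl _).mul_right hcomm⟩
        · exact ⟨ht ▸ hMt, ht2, htne, hcomm.symm.mul_right (Commute.refl _)⟩
      have haM : a ∈ M := hvC (mem_centralizer_singleton_iff.2 hav.eq)
      have hai := hG.inv_of_commute h1 hv2 hct2 hvne hvct ha hav
      refine ⟨⟨a, haM⟩, hcf (mem_centralizer_iff.2 fun f hf => ?_), rfl⟩
      have hfF : (f : G) ∈ FIn M := ⟨f, hf, rfl⟩
      have hvF : a * (f : G) * a⁻¹ ∈ FIn M := conj_mem_of_le (le_normalizer_FIn M) haM hfF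
      have h3 : Commute a (f : G) := commute_of_sq ha (by
        have e1 := hinvF _ hvF
        rw [show c * t * (a * (f : G) * a⁻¹) * (c * t)⁻¹ = (c * t * a * (c * t)⁻¹) *
          (c * t * (f : G) * (c * t)⁻¹) * (c * t * a * (c * t)⁻¹)⁻¹ by group, hai, hinvF _ hfF] at e1
        have e2 : a⁻¹ * (f : G) * a = a * f * a⁻¹ := by
          have := congrArg (·⁻¹) e1
          simpa [mul_assoc] using this
        show a * a * (f : G) = f * (a * a)
        calc a * a * (f : G) = a * (a * f * a⁻¹) * a := by group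
          _ = a * (a⁻¹ * f * a) * a := by rw [e2]
          _ = f * (a * a) := by group)
      exact Subtype.ext h3.eq.symm
    -- all three odd parts commute
    obtain ⟨k, hk, hkS, hkS'⟩ := Gen.exists_norm (D := D) hh h1 hctS hct2
    obtain ⟨l, hl, hlS, -⟩ := Gen.exists_norm (D := D) hh h1 htS ht2
    have ekc : k⁻¹ * c * k = c * t := by
      calc k⁻¹ * c * k = k⁻¹ * (k * (c * t) * k⁻¹) * k := by rw [hk, ← hc]
        _ = c * t := by group
    obtain ⟨n₁, hn₁⟩ : ∃ n₁, n₁ = k⁻¹ := ⟨_, rfl⟩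
    obtain ⟨n₂, hn₂⟩ : ∃ n₂, n₂ = k⁻¹ * l := ⟨_, rfl⟩
    have e1c : n₁ * c * n₁⁻¹ = c * t := by rw [hn₁, inv_inv]; exact ekc
    have e2t : n₂ * t * n₂⁻¹ = c * t := by
      rw [hn₂, show k⁻¹ * l * t * (k⁻¹ * l)⁻¹ = k⁻¹ * (l * t * l⁻¹) * k by group, hl, ← hc]
      exact ekc
    have hn₁S : ∀ u ∈ (S : Subgroup G), n₁ * u * n₁⁻¹ ∈ (S : Subgroup G) := fun u hu => by
      rw [hn₁, inv_inv]; exact hkS' u hu
    have hn₂S : ∀ u ∈ (S : Subgroup G), n₂ * u * n₂⁻¹ ∈ (S : Subgroup G) := fun u hu => by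
      rw [hn₂, show k⁻¹ * l * u * (k⁻¹ * l)⁻¹ = k⁻¹ * (l * u * l⁻¹) * k by group]
      exact hkS' _ (hlS u hu)
    have inj : ∀ n a b : G, n * a * n⁻¹ = n * b * n⁻¹ → a = b := fun n a b h =>
      (MulAut.conj n).injective h
    have hS3 : ∀ u ∈ (S : Subgroup G), orderOf u = 2 → u = c ∨ u = t ∨ u = c * t := fun u hu hu2 => by
      rcases four_cases hh j hu with e | e | e | e
      · exact absurd e (invol_ne_one hu2)
      · exact Or.inl (e.trans hc.symm)
      · exact Or.inr (Or.inl (e.trans ht.symm))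
      · exact Or.inr (Or.inr (by rw [hc, ht]; exact e))
    have e1t : n₁ * t * n₁⁻¹ = c := by
      rcases hS3 _ (hn₁S t htS) (by rw [orderOf_conj_eq]; exact ht2) with e | e | e
      · exact e
      · exfalso
        -- conjugate into the stabiliser of the centre
        have hm : Commute (l * n₁ * l⁻¹) (dz S D) := by
          refine mul_inv_eq_iff_eq_mul.1 ?_
          rw [← hl, show l * n₁ * l⁻¹ * (l * t * l⁻¹) * (l * n₁ * l⁻¹)⁻¹ =
            l * (n₁ * t * n₁⁻¹) * l⁻¹ by group, e]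
        have he' : l * n₁ * l⁻¹ * (l * c * l⁻¹) * (l * n₁ * l⁻¹)⁻¹ = l * (c * t) * l⁻¹ := by
          rw [← e1c]; group
        have h' := hG.fix_of_norm hh hm (hlS c hcS) (he' ▸ hlS _ hctS)
        exact hcne (inj l _ _ (h'.symm.trans he'))
      · exact absurd (inj n₁ _ _ (e1c.trans e.symm)) hctne
    have e2c : n₂ * c * n₂⁻¹ = t := by
      rcases hS3 _ (hn₂S c hcS) (by rw [orderOf_conj_eq]; exact hc2) with e | e | e
      · exfalso
        have h' := hG.fix_of_norm hh (mul_inv_eq_iff_eq_mul.1 (hc ▸ e) : Commute n₂ (dz S D)) htS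
          (hn₂S t htS)
        exact htne (h'.symm.trans e2t)
      · exact e
      · exact absurd (inj n₂ _ _ (e.trans e2t.symm)) hctne
    let Kod : G → G → Prop := fun v a => Commute a v ∧ Odd (orderOf a)
    have conjK : ∀ n v a, Kod (n * v * n⁻¹) a → Kod v (n⁻¹ * a * n) := fun n v a ⟨h, h'⟩ =>
      ⟨by have := h.map (MulAut.conj n⁻¹); simpa [mul_assoc] using this,
        by rw [orderOf_conj_inv]; exact h'⟩
    have base : ∀ a b, Kod c a → Kod t b → Commute a b := fun a b ha hb =>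
      habel a (hinF c a (Or.inl rfl) ha.1 ha.2) b (hinF t b (Or.inr rfl) hb.1 hb.2)
    have pair : ∀ n v w, n * c * n⁻¹ = v → n * t * n⁻¹ = w → ∀ a b, Kod v a → Kod w b → Commute a b := by
      intro n v w hv hw a b ha hb
      have := (base _ _ (conjK n c a (hv.symm ▸ ha)) (conjK n t b (hw.symm ▸ hb))).map (MulAut.conj n)
      simpa [mul_assoc] using this
    obtain ⟨X, hX⟩ : ∃ X : Set G, X = {a | Odd (orderOf a) ∧
      (Commute a c ∨ Commute a t ∨ Commute a (c * t))} := ⟨_, rfl⟩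
    have hXc : ∀ a ∈ X, ∀ b ∈ X, Commute a b := by
      subst hX
      rintro a ⟨ha, ha'⟩ b ⟨hb, hb'⟩
      rcases ha' with h | h | h <;> rcases hb' with h' | h' | h'
      · exact hG.odd_commute h1 hc2 ha hb h h'
      · exact base a b ⟨h, ha⟩ ⟨h', hb⟩
      · exact (pair n₁ _ _ e1c e1t b a ⟨h', hb⟩ ⟨h, ha⟩).symm
      · exact (base b a ⟨h', hb⟩ ⟨h, ha⟩).symm
      · exact hG.odd_commute h1 ht2 ha hb h h'
      · exact pair n₂ _ _ e2c e2t a b ⟨h, ha⟩ ⟨h', hb⟩
      · exact pair n₁ _ _ e1c e1t a b ⟨h, ha⟩ ⟨h', hb⟩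
      · exact (pair n₂ _ _ e2c e2t b a ⟨h', hb⟩ ⟨h, ha⟩).symm
      · exact hG.odd_commute h1 hct2 ha hb h h'
    obtain ⟨T, hT⟩ : ∃ T, T = closure X := ⟨_, rfl⟩
    have hXT : X ⊆ T := hT ▸ subset_closure
    have hTab : ∀ a ∈ T, ∀ b ∈ X, Commute a b := by
      intro a ha b hb
      rw [hT] at ha
      induction ha using Subgroup.closure_induction with
      | mem x hx => exact hXc x hx b hb
      | one => exact Commute.one_left b
      | mul x y _ _ hx hy => exact hx.mul_left hy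
      | inv x _ hx => exact hx.inv_left
    have hSn : ∀ p ∈ (S : Subgroup G), p ∈ normalizer (T : Set G) := by
      intro p hp
      refine CfsgLib.Invol.mem_normalizer_iff_of_finite fun a ha => ?_
      rw [hT] at ha
      induction ha using Subgroup.closure_induction with
      | mem x hx =>
        refine hXT ?_
        rw [hX] at hx ⊢
        refine ⟨by rw [orderOf_conj_eq]; exact hx.1, ?_⟩
        have mv : ∀ v ∈ (S : Subgroup G), Commute x v → Commute (p * x * p⁻¹) v := fun v hv h => by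
          have := h.map (MulAut.conj p)
          simp only [MulAut.conj_apply] at this
          rwa [(commute_four hh hp hv).eq, mul_inv_cancel_right] at this
        rcases hx.2 with h | h | h
        exacts [Or.inl (mv c hcS h), Or.inr (Or.inl (mv t htS h)), Or.inr (Or.inr (mv _ hctS h))]
      | one => simp
      | mul x y _ _ hx hy => rw [← conj_mul]; exact mul_mem hx hy
      | inv x _ hx => rw [← conj_inv]; exact inv_mem hx
    have hTne : T ≠ ⊥ := by
      obtain ⟨⟨y, hy⟩, hy1⟩ := K.ne_bot_iff_exists_ne_one.1 hK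
      intro e
      refine hy1 (Subtype.ext (mem_bot.1 (e ▸ hXT ?_ : y ∈ (⊥ : Subgroup G))))
      rw [hX]
      exact ⟨odd_orderOf_of_mem hG.odd hy, Or.inl (hc ▸ mem_centralizer_singleton_iff.1 (hG.le_cent hy))⟩
    have hNtop : normalizer (T : Set G) ≠ ⊤ := by
      intro e
      rcases (normalizer_eq_top_iff.1 e).eq_bot_or_eq_top with h | h
      · exact hTne h
      · refine hG.not_comm hK ⟨⟨fun a b => ?_⟩⟩
        have hb : ∀ x ∈ X, Commute b x := fun x hx => hTab b (h ▸ mem_top b) x hx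
        have ha : a ∈ closure X := hT ▸ h ▸ mem_top a
        induction ha using Subgroup.closure_induction with
        | mem x hx => exact (hb x hx).eq.symm
        | one => simp
        | mul x y _ _ hx hy => exact ((show Commute x b from hx).mul_left hy).eq
        | inv x _ hx => exact (show Commute x b from hx).inv_left.eq
    refine hK (hG.noFull h1 hNtop fun v hv hv2 a ha => ?_)
    obtain ⟨b, p, hb, hbv, hp, rfl⟩ := hG.split_four hh h1 hv hv2 (mem_centralizer_singleton_iff.1 ha)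
    refine mul_mem (le_normalizer (hXT ?_)) (hSn p hp)
    rw [hX]
    refine ⟨hb, ?_⟩
    rcases hS3 v hv hv2 with rfl | rfl | rfl
    exacts [Or.inl hbv, Or.inr (Or.inl hbv), Or.inr (Or.inr hbv)]

/-- No maximal subgroup contains two centralisers. -/
theorem Gen.twoFull [IsSimpleGroup G] (hG : Gen S D K) (hh : D.h = 1) (h1 : OneClass G)
    (hK : K ≠ ⊥) (hIH : CentHyp G) {M : Subgroup G} (hco : IsCoatom M) {i i' : G}
    (hiS : i ∈ (S : Subgroup G)) (hi : orderOf i = 2) (hi'S : i' ∈ (S : Subgroup G))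
    (hi' : orderOf i' = 2) (hne : i ≠ i') (hiM : centralizer ({i} : Set G) ≤ M)
    (hi'M : centralizer ({i'} : Set G) ≤ M) : False := by
  obtain ⟨k, hk, hkS, -⟩ := Gen.exists_norm (D := D) hh h1 hiS hi
  obtain ⟨v, hv⟩ : ∃ v, v = k * i' * k⁻¹ := ⟨_, rfl⟩
  have hvne : v ≠ dz S D := fun e => hne.symm ((MulAut.conj k).injective
    (show k * i' * k⁻¹ = k * i * k⁻¹ by rw [← hv, e, hk]))
  have hmap : ∀ u, centralizer ({u} : Set G) ≤ M →
      centralizer ({k * u * k⁻¹} : Set G) ≤ M.map (MulAut.conj k).toMonoidHom := fun u hu x hx => by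
    rw [mem_map_conj]
    refine hu ?_
    rw [mem_centralizer_singleton_iff] at hx ⊢
    calc k⁻¹ * x * k * u = k⁻¹ * (x * (k * u * k⁻¹)) * k := by group
      _ = k⁻¹ * ((k * u * k⁻¹) * x) * k := by rw [hx]
      _ = u * (k⁻¹ * x * k) := by group
  have hco' : IsCoatom (M.map (MulAut.conj k).toMonoidHom) :=
    ((MulAut.conj k).mapSubgroup.isCoatom_iff M).2 hco
  rcases four_cases hh 0 (hv ▸ hkS i' hi'S : v ∈ (S : Subgroup G)) with e | e | e | e
  · exact invol_ne_one hi' (conj_eq_one_iff.1 (hv.symm.trans e))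
  · exact hvne e
  · exact hG.twoFull_std hh h1 hK hIH hco' (hk ▸ hmap i hiM) (j := 0) (e ▸ hv ▸ hmap i' hi'M)
  · rw [dz_mul_dt] at e
    exact hG.twoFull_std hh h1 hK hIH hco' (hk ▸ hmap i hiM) (j := D.h + 0) (e ▸ hv ▸ hmap i' hi'M)

end CfsgLib.Recog.GenDih
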